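import Cfsg.Agent.OOT.TenC
import Cfsg.Agent.H23.Coprime4

set_option autoImplicit false
set_option linter.unusedSectionVars false
set_option linter.style.haveILetI false
set_option linter.unusedVariables false

/-! utilities for BG 10.9 - 12.16 -/

namespace Cfsg.Agent.H12.BG

open Subgroup
open Cfsg.Agent.L (cj nz SylIn)
open Cfsg.Agent.H14 (IsPiSub)
open Cfsg.Agent.OOT
open scoped commutatorElement

universe u
variable {G : Type u} [Group G]

/-! ### `O_{p'}(H)` as a subgroup of `G` -/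

/-- `O_{p'}(H)` as a subgroup of `G` -/
abbrev opp (p : ℕ) (H : Subgroup G) : Subgroup G := (pPrimeCore p H).map H.subtype

theorem opp_le (p : ℕ) (H : Subgroup G) : opp p H ≤ H := Subgroup.map_subtype_le _

section
variable [Finite G] {p : ℕ} [hp : Fact p.Prime]

omit hp in
theorem le_nz_opp (p : ℕ) (H : Subgroup G) : H ≤ normalizer ((opp p H : Subgroup G) : Set G) :=
  le_normalizer_map_subtype (H1.pPrimeCore_normal p H)

omit hp in
theorem coprime_opp (p : ℕ) (H : Subgroup G) : (Nat.card (opp p H)).Coprime p := by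
  rw [H1.card_map_subtype]; exact H1.pPrimeCore_coprime p H

omit hp in
theorem le_opp {K H : Subgroup G} (hK : K ≤ H) (hn : H ≤ normalizer (K : Set G))
    (hc : (Nat.card K).Coprime p) : K ≤ opp p H := by
  rw [← Subgroup.map_subgroupOf_eq_of_le hK]
  apply Subgroup.map_mono
  refine H1.le_pPrimeCore ((Subgroup.normal_subgroupOf_iff_le_normalizer hK).2 hn) ?_
  rwa [H1.card_subgroupOf hK]

theorem coprime_of_isPGroup {P K : Subgroup G} (hP : IsPGroup p P) (hK : (Nat.card K).Coprime p) :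
    (Nat.card P).Coprime (Nat.card K) := by
  obtain ⟨n, hn⟩ := IsPGroup.iff_card.1 hP
  rw [hn]; exact (Nat.Coprime.pow_right n hK).symm

omit hp in
theorem coprime_iff_not_dvd {p : ℕ} (hp : p.Prime) {n : ℕ} : n.Coprime p ↔ ¬ p ∣ n := by
  rw [Nat.coprime_comm]; exact Nat.Prime.coprime_iff_not_dvd hp

theorem dvd_card_of_ne_bot {P : Subgroup G} (hP : IsPGroup p P) (h : P ≠ ⊥) : p ∣ Nat.card P := by
  obtain ⟨n, hn⟩ := IsPGroup.iff_card.1 hP
  have : n ≠ 0 := by rintro rfl; exact h (Subgroup.card_eq_one.1 (by simpa using hn))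
  exact hn ▸ dvd_pow_self p this

theorem not_dvd_of_isPGroup {q : ℕ} (hq : q.Prime) (hqp : q ≠ p) {P : Subgroup G}
    (hP : IsPGroup p P) : ¬ q ∣ Nat.card P := by
  obtain ⟨n, hn⟩ := IsPGroup.iff_card.1 hP
  rw [hn]
  intro h
  exact hqp ((Nat.prime_dvd_prime_iff_eq hq hp.out).1 (hq.dvd_of_dvd_pow h))

theorem coprime_card_of_ne {q : ℕ} (hq : q.Prime) (hqp : q ≠ p) {P : Subgroup G}
    (hP : IsPGroup p P) : (Nat.card P).Coprime q :=
  (coprime_iff_not_dvd hq).2 (not_dvd_of_isPGroup hq hqp hP)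

theorem inf_eq_bot_of_isPGroup {P K : Subgroup G} (hP : IsPGroup p P)
    (hK : (Nat.card K).Coprime p) : P ⊓ K = ⊥ :=
  H1.inf_eq_bot_of_card_coprime (coprime_of_isPGroup hP hK)

theorem isPGroup_of_card_eq {P : Subgroup G} (h : Nat.card P = p) : IsPGroup p P :=
  IsPGroup.of_card (n := 1) (by rw [h, pow_one])

theorem isEA_of_card_eq {P : Subgroup G} (h : Nat.card P = p) : IsElementaryAbelian p P := by
  haveI : IsCyclic P := isCyclic_of_prime_card h
  refine ⟨inferInstance, ?_⟩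
  · intro a ha
    have : (⟨a, ha⟩ : P) ^ p = 1 := by rw [← h]; exact pow_card_eq_one'
    exact congrArg Subtype.val this

end

/-! ### invariant Sylow subgroups -/

section
variable [Finite G] {p : ℕ} [hp : Fact p.Prime]

theorem isSylowOf_iff_sylIn {P K : Subgroup G} : H23.IsSylowOf p P K ↔ SylIn p P K := by
  rw [H23.isSylowOf_iff]
  exact ⟨fun h => ⟨h.1, h.2.1, h.2.2⟩, fun h => ⟨h.le, h.isPGroup, h.not_dvd⟩⟩

theorem exists_inv_syl {A K : Subgroup G} (hn : A ≤ normalizer (K : Set G))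
    (hcop : (Nat.card A).Coprime (Nat.card K))
    (hs : Group.IsSolvable A ∨ Group.IsSolvable K) (q : ℕ) [Fact q.Prime] :
    ∃ P, SylIn q P K ∧ A ≤ normalizer (P : Set G) := by
  obtain ⟨P, hP, h⟩ := H23.exists_invariant_sylow hn hcop hs q
  exact ⟨P, isSylowOf_iff_sylIn.1 hP, h⟩

theorem exists_inv_syl_ge {A K : Subgroup G} (hn : A ≤ normalizer (K : Set G))
    (hcop : (Nat.card A).Coprime (Nat.card K))
    (hs : Group.IsSolvable A ∨ Group.IsSolvable K) {q : ℕ} [Fact q.Prime] {Q : Subgroup G}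
    (hQK : Q ≤ K) (hQ : IsPGroup q Q) (hAQ : A ≤ normalizer (Q : Set G)) :
    ∃ P, SylIn q P K ∧ A ≤ normalizer (P : Set G) ∧ Q ≤ P := by
  obtain ⟨P, hP, h1, h2⟩ := H23.exists_invariant_sylow_ge hn hcop hs hQK hQ hAQ
  exact ⟨P, isSylowOf_iff_sylIn.1 hP, h1, h2⟩

/-- a subgroup containing invariant Sylow subgroups for all primes is everything -/
theorem le_of_sylIn_le {K M : Subgroup G}
    (h : ∀ q : ℕ, q.Prime → q ∣ Nat.card K → ∃ P, SylIn q P K ∧ P ≤ M) : K ≤ M := by
  apply H23.le_of_forall_isSylowOf_le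
  intro q hq
  by_cases hd : q ∣ Nat.card K
  · obtain ⟨P, hP, hPM⟩ := h q hq.out hd
    exact ⟨P, isSylowOf_iff_sylIn.2 hP, hPM⟩
  · refine ⟨⊥, isSylowOf_iff_sylIn.2 ⟨bot_le, IsPGroup.of_bot, ?_⟩, bot_le⟩
    rwa [Subgroup.relIndex_bot_left]

end

/-! ### elementary abelian subgroups of order `p²` -/

section
variable [Finite G] {p : ℕ} [hp : Fact p.Prime]

theorem card_eq_prime_or {A X : Subgroup G} (hA : Nat.card A = p ^ 2) (h : X ≤ A) :
    X = ⊥ ∨ Nat.card X = p ∨ X = A := by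
  obtain ⟨k, hk, hk2⟩ := (Nat.dvd_prime_pow hp.out).1 (hA ▸ card_dvd_of_le h)
  interval_cases k
  · left; exact Subgroup.card_eq_one.1 (by simpa using hk2)
  · right; left; simpa using hk2
  · right; right; exact L.eq_of_le_of_card_le h (by rw [hA, hk2])

theorem not_isCyclic_of_ea {A : Subgroup G} (hA : IsElementaryAbelian p A)
    (hc : Nat.card A = p ^ 2) : ¬ IsCyclic A := by
  intro h
  obtain ⟨g, hg⟩ := h.exists_ofOrder_eq_natCard
  have h1 : orderOf g ∣ p := orderOf_dvd_of_pow_eq_one (Subtype.ext (hA.2 g g.2))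
  rw [hg, hc] at h1
  have h2 := Nat.le_of_dvd hp.out.pos h1
  have h3 : p < p ^ 2 := by
    have := hp.out.one_lt
    nlinarith
  omega

/-- generation of a group acted on coprimely by an elementary abelian group of order `p²`. -/
theorem le_of_cent_le {A K M : Subgroup G} (hA : IsElementaryAbelian p A)
    (hc : Nat.card A = p ^ 2) (hn : A ≤ normalizer (K : Set G))
    (hcop : (Nat.card K).Coprime p)
    (h : ∀ X : Subgroup G, X ≤ A → Nat.card X = p → K ⊓ centralizer (X : Set G) ≤ M) :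
    K ≤ M := by
  have h1 := H23.iSup_centralizer_of_not_isCyclic hA.1 (not_isCyclic_of_ea hA hc) hn
    (coprime_of_isPGroup (isEA_isPGroup hA) hcop)
  rw [← h1]
  refine iSup_le ?_
  rintro ⟨a, ha, ha1⟩
  have h2 := h (zpowers a) (Subgroup.zpowers_le.2 ha) (card_zpowers_eq_prime (hA.2 a ha) ha1)
  rwa [centralizer_zpowers] at h2

/-- two different subgroups of order `p` generate -/
theorem sup_eq_of_card {A X Y : Subgroup G} (hc : Nat.card A = p ^ 2) (hX : X ≤ A) (hY : Y ≤ A)
    (hXc : Nat.card X = p) (hYc : Nat.card Y = p) (hne : X ≠ Y) : X ⊔ Y = A := by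
  rcases card_eq_prime_or hc (sup_le hX hY) with h | h | h
  · exfalso
    have : X = ⊥ := le_bot_iff.1 (h ▸ le_sup_left)
    rw [this, Subgroup.card_bot] at hXc
    exact hp.out.one_lt.ne hXc
  · exfalso
    have e1 : X = X ⊔ Y := L.eq_of_le_of_card_le le_sup_left (by rw [h, hXc])
    have e2 : Y = X ⊔ Y := L.eq_of_le_of_card_le le_sup_right (by rw [h, hYc])
    exact hne (e1.trans e2.symm)
  · exact h

theorem inf_eq_bot_of_card_prime {X Y : Subgroup G} (hXc : Nat.card X = p) (hYc : Nat.card Y = p)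
    (hne : X ≠ Y) : X ⊓ Y = ⊥ := by
  have h1 : Nat.card (X ⊓ Y : Subgroup G) ∣ p := hXc ▸ card_dvd_of_le inf_le_left
  rcases (Nat.dvd_prime hp.out).1 h1 with h | h
  · exact Subgroup.card_eq_one.1 h
  · exfalso
    have e1 : X ⊓ Y = X := L.eq_of_le_of_card_le inf_le_left (by rw [h, hXc])
    have e2 : X ⊓ Y = Y := L.eq_of_le_of_card_le inf_le_right (by rw [h, hYc])
    exact hne (e1.symm.trans e2)

theorem le_or_inf_eq_bot {X Y : Subgroup G} (hXc : Nat.card X = p) : X ≤ Y ∨ X ⊓ Y = ⊥ := by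
  have h1 : Nat.card (X ⊓ Y : Subgroup G) ∣ p := hXc ▸ card_dvd_of_le inf_le_left
  rcases (Nat.dvd_prime hp.out).1 h1 with h | h
  · exact Or.inr (Subgroup.card_eq_one.1 h)
  · left
    have e1 : X ⊓ Y = X := L.eq_of_le_of_card_le inf_le_left (by rw [h, hXc])
    exact inf_eq_left.1 e1

theorem exists_order_p {H : Subgroup G} (h : p ∣ Nat.card H) :
    ∃ X : Subgroup G, X ≤ H ∧ Nat.card X = p := by
  obtain ⟨x, hx⟩ := exists_prime_orderOf_dvd_card' (G := H) p h
  refine ⟨zpowers (x : G), Subgroup.zpowers_le.2 x.2, ?_⟩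
  rw [Nat.card_zpowers, Subgroup.orderOf_coe, hx]

/-- in an elementary abelian group of order `p²` every subgroup of order `p` has a complement -/
theorem exists_ne_order_p {A X : Subgroup G} (hA : IsElementaryAbelian p A)
    (hc : Nat.card A = p ^ 2) (hX : Nat.card X = p) :
    ∃ Y : Subgroup G, Y ≤ A ∧ Nat.card Y = p ∧ Y ≠ X := by
  have hlt : ¬ A ≤ X := by
    intro h
    have := L.card_le_of_le h
    rw [hc, hX] at this
    have := hp.out.one_lt
    nlinarith
  obtain ⟨a, ha, haX⟩ := SetLike.not_le_iff_exists.1 hlt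
  refine ⟨zpowers a, Subgroup.zpowers_le.2 ha, card_zpowers_eq_prime (hA.2 a ha)
    (fun h => haX (h ▸ one_mem X)), ?_⟩
  intro e
  exact haX (e ▸ Subgroup.mem_zpowers a)

end

/-- `A ∈ ℰ_p²(G) ∩ ℰ_p*(G)`: a maximal elementary abelian subgroup of order `p²`. -/
structure E2s (p : ℕ) (A : Subgroup G) : Prop where
  ea : IsElementaryAbelian p A
  card : Nat.card A = p ^ 2
  max : ∀ B : Subgroup G, IsElementaryAbelian p B → A ≤ B → B = A

namespace E2s
variable {p : ℕ} {A : Subgroup G}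

theorem mem (h : E2s p A) {x : G} (hx : x ∈ centralizer (A : Set G)) (hxp : x ^ p = 1) :
    x ∈ A := by
  have hle : A ≤ centralizer ((zpowers x : Subgroup G) : Set G) := by
    rw [Subgroup.le_centralizer_iff, Subgroup.zpowers_le]; exact hx
  have := h.max _ (isEA_sup h.ea (isEA_zpowers hxp) hle) le_sup_left
  rw [← this]; exact mem_sup_right (Subgroup.mem_zpowers x)

theorem le_of_cent (h : E2s p A) {X : Subgroup G} (hX : X ≤ centralizer (A : Set G))
    (hXe : IsElementaryAbelian p X) : X ≤ A := fun x hx => h.mem (hX hx) (hXe.2 x hx)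

theorem isPGroup (h : E2s p A) : IsPGroup p A := isEA_isPGroup h.ea

theorem ne_bot [hp : Fact p.Prime] (h : E2s p A) : A ≠ ⊥ := by
  intro e
  have := h.card
  rw [e, Subgroup.card_bot] at this
  have h2 := Nat.one_lt_pow (n := 2) (by norm_num) hp.out.one_lt
  omega

theorem le_cent (h : E2s p A) : A ≤ centralizer (A : Set G) := by
  haveI := h.ea.1
  exact Subgroup.le_centralizer A

theorem cjE (h : E2s p A) (g : G) : E2s p (cj g A) := by
  refine ⟨isEA_cj h.ea, by rw [L.card_cj, h.card], fun B hB hAB => ?_⟩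
  have := h.max (L.cj g⁻¹ B) (isEA_cj hB) (by rwa [L.cj_le_iff] at hAB)
  rw [← this, L.cj_cj_inv]

end E2s

section
variable [Finite G] (hG : IsMinSimpleOddOrder G) {p : ℕ} [hp : Fact p.Prime]
include hG

/-- an elementary abelian group of order `p²` which is not a uniqueness subgroup is maximal -/
theorem E2s.of_not_uniq {A : Subgroup G} (hA : IsElementaryAbelian p A) (hc : Nat.card A = p ^ 2)
    (h : ¬ InUniqueMaximal A) : E2s p A := by
  refine ⟨hA, hc, fun B hB hAB => ?_⟩
  refine le_antisymm (fun x hx => ?_) hAB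
  refine mem_of_not_uniq hG hA hc h ?_ (hB.2 x hx)
  haveI := hB.1
  exact Subgroup.centralizer_le hAB (Subgroup.le_centralizer B hx)

theorem E2s.of_not_sigma {M : Subgroup G} (hM : IsCoatom M) (hpσ : p ∉ sigma M) {A : Subgroup G}
    (hAM : A ≤ M) (hA : IsElementaryAbelian p A) (hc : Nat.card A = p ^ 2) : E2s p A :=
  E2s.of_not_uniq hG hA hc (ea2_max_of_not_sigma hG hM hpσ hAM hA hc)

theorem E2s.ne_top {A : Subgroup G} (h : E2s p A) : A ≠ ⊤ := pgroup_ne_top hG h.isPGroup

theorem E2s.cent_ne_top {A : Subgroup G} (h : E2s p A) : centralizer (A : Set G) ≠ ⊤ :=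
  centralizer_ne_top hG h.ne_bot

theorem cent_ne_top_of_card {X : Subgroup G} (h : Nat.card X = p) :
    centralizer (X : Set G) ≠ ⊤ := by
  apply centralizer_ne_top hG
  rintro rfl
  rw [Subgroup.card_bot] at h
  exact hp.out.one_lt.ne h

omit hG in
theorem ne_bot_of_card {X : Subgroup G} (h : Nat.card X = p) : X ≠ ⊥ := by
  rintro rfl
  rw [Subgroup.card_bot] at h
  exact hp.out.one_lt.ne h

theorem nz_ne_top_of_card {X : Subgroup G} (h : Nat.card X = p) :
    normalizer (X : Set G) ≠ ⊤ :=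
  normalizer_ne_top hG (ne_bot_of_card h) (pgroup_ne_top hG (isPGroup_of_card_eq h))

end

end Cfsg.Agent.H12.BG
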