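import Cfsg.Agent.H12.BgA
import Cfsg.Agent.OOT.TenF
import Cfsg.Agent.S1445
import Cfsg.Agent.S1454

set_option autoImplicit false
set_option linter.unusedSectionVars false
set_option linter.style.haveILetI false
set_option linter.unusedVariables false

/-! fixed-point-free actions of groups of prime order; operator groups of narrow `p`-groups -/

namespace Cfsg.Agent.H12.BG

open Subgroup
open Cfsg.Agent.L (cj nz SylIn)
open Cfsg.Agent.H14 (IsPiSub)
open Cfsg.Agent.OOT
open scoped commutatorElement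

universe u

section
variable {X : Type u} [Group X] [Finite X]

theorem eq_zpowers_of_prime {R : Subgroup X} (hR : (Nat.card R).Prime) {x : X} (hx : x ∈ R)
    (hx1 : x ≠ 1) : zpowers x = R := by
  haveI : Fact (Nat.card R).Prime := ⟨hR⟩
  apply L.eq_of_le_of_card_le (Subgroup.zpowers_le.2 hx)
  have h1 : Nat.card (zpowers x) ∣ Nat.card R := card_dvd_of_le (Subgroup.zpowers_le.2 hx)
  rcases (Nat.dvd_prime hR).1 h1 with h | h
  · exact absurd (Subgroup.zpowers_eq_bot.1 (Subgroup.card_eq_one.1 h)) hx1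
  · rw [h]

/-- a Sylow subgroup of a nilpotent normal subgroup is normal -/
theorem sylIn_normal {q : ℕ} [hq : Fact q.Prime] {N P M : Subgroup X}
    (hn : Group.IsNilpotent N) (hP : SylIn q P N) (hM : M ≤ normalizer (N : Set X)) :
    M ≤ normalizer (P : Set X) := by
  intro g hg
  have h1 : SylIn q (L.cj g P) N := by
    have := hP.cj g
    rwa [L.mem_nz_iff.1 (hM hg)] at this
  have h2 : SylIn q P N := hP
  have hc : (P.subgroupOf N).Normal := by
    have hT : SylIn q (P.subgroupOf N) ⊤ :=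
      ⟨le_top, hP.isPGroup.comap_of_injective _ N.subtype_injective, by
        rw [Subgroup.relIndex_top_right]; exact hP.not_dvd⟩
    have := H1.isNilpotent_iff_sylow_normal.1 hn q hq hP.toSylow
    rwa [hP.toSylow_coe] at this
  obtain ⟨x, hx, e⟩ := h2.exists_conj_eq h1
  have h3 : N ≤ normalizer (P : Set X) := (Subgroup.normal_subgroupOf_iff_le_normalizer hP.le).1 hc
  refine L.mem_nz_iff.2 ?_
  rw [← e]
  exact L.mem_nz_iff.1 (h3 hx)

theorem fitting_le_of_faithful {V K : Subgroup X} (hs : Group.IsSolvable X) [hVn : V.Normal]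
    (hcVK : (Nat.card V).Coprime (Nat.card K)) (hVKn : (V ⊔ K).Normal)
    (hVh : (Nat.card V).Coprime V.index)
    (hfaith : K ⊓ centralizer (V : Set X) = ⊥) : fittingOf (V ⊔ K) ≤ V := by
  apply le_of_sylIn_le
  intro r hr hd
  haveI : Fact r.Prime := ⟨hr⟩
  obtain ⟨P, hP⟩ := L.exists_sylIn (p := r) (fittingOf (V ⊔ K))
  refine ⟨P, hP, ?_⟩
  have htop : (⊤ : Subgroup X) ≤ normalizer ((fittingOf (V ⊔ K) : Subgroup X) : Set X) := by
    refine le_trans ?_ (normalizer_le_normalizer_fittingOf (V ⊔ K))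
    rw [Subgroup.normalizer_eq_top_iff.2 hVKn]
  have hPn : (⊤ : Subgroup X) ≤ normalizer (P : Set X) :=
    sylIn_normal (fittingOf_nilpotent _) hP htop
  have hPN : P.Normal := Subgroup.normalizer_eq_top_iff.1 (top_le_iff.1 hPn)
  by_cases hrV : r ∣ Nat.card V
  · -- `V` contains all `r`-elements
    rw [← Subgroup.relIndex_eq_one]
    by_contra hne
    have h1 : V.relIndex P ∣ V.index := Subgroup.relIndex_dvd_index_of_normal _ _
    have h2 : V.relIndex P ∣ Nat.card P := Subgroup.relIndex_dvd_card _ _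
    obtain ⟨n, hn⟩ := IsPGroup.iff_card.1 hP.isPGroup
    rw [hn] at h2
    obtain ⟨k, -, hk⟩ := (Nat.dvd_prime_pow hr).1 h2
    have hk0 : k ≠ 0 := by rintro rfl; exact hne (by simpa using hk)
    have h3 : r ∣ V.index := (dvd_pow_self r hk0).trans (hk ▸ h1)
    exact Nat.Prime.one_lt hr |>.ne' (Nat.eq_one_of_dvd_coprimes hVh hrV h3)
  · -- otherwise `P` centralizes `V` and lies in `K`
    exfalso
    have hcop : (Nat.card P).Coprime (Nat.card V) := by
      obtain ⟨n, hn⟩ := IsPGroup.iff_card.1 hP.isPGroup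
      rw [hn]
      exact Nat.Coprime.pow_left n ((Nat.Prime.coprime_iff_not_dvd hr).2 hrV)
    have hPC : P ≤ centralizer (V : Set X) := by
      intro x hx
      rw [Subgroup.mem_centralizer_iff]
      intro v hv
      exact (Subgroup.commute_of_normal_of_disjoint _ _ hPN hVn
        (disjoint_iff.2 (H1.inf_eq_bot_of_card_coprime hcop)) x v hx hv).symm
    have hle : P ≤ V ⊔ K := hP.le.trans (fittingOf_le _)
    have hcard : Nat.card (V ⊔ K : Subgroup X) = Nat.card V * Nat.card K := by
      have := H1.card_sup_mul_card_inf_of_le_normalizer (H := V) (K := K)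
        (le_top.trans (Subgroup.normalizer_eq_top_iff.2 hVn).ge)
      rwa [H1.inf_eq_bot_of_card_coprime hcVK, Subgroup.card_bot, mul_one] at this
    have hKhall : IsPiHallOf {p | p ∣ Nat.card K} K (V ⊔ K) := by
      have hVhall : ∀ p : ℕ, p.Prime → p ∣ Nat.card K → ¬ p ∣ Nat.card V := fun p hp h1 h2 =>
        hp.one_lt.ne' (Nat.eq_one_of_dvd_coprimes hcVK h2 h1)
      refine (hallOf_card_iff (m := Nat.card K) (k := Nat.card V) (by rw [hcard, mul_comm])
        (fun p _ h => h) (fun p hp h1 => hVhall p hp h1)).2 ⟨le_sup_right, rfl⟩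
    have hPpi : IsPiSub {p | p ∣ Nat.card K} P := by
      intro p hp hpd
      have : p ∣ Nat.card V * Nat.card K := hcard ▸ hpd.trans (card_dvd_of_le hle)
      rcases hp.dvd_mul.1 this with h | h
      · exact absurd (Nat.eq_one_of_dvd_coprimes hcop hpd h) hp.one_lt.ne'
      · exact h
    obtain ⟨g, -, hg⟩ := IsPiHallOf.exists_conj_le (M := V ⊔ K)
      (H1.isSolvable_of_le le_top (by
        have : Group.IsSolvable (⊤ : Subgroup X) := H1.isSolvable_of_equiv Subgroup.topEquiv.symm hs
        exact this)) hKhall hle hPpi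
    have e : cj g P = P := L.mem_nz_iff.1 (hPn (Subgroup.mem_top g))
    rw [e] at hg
    have : P = ⊥ := le_bot_iff.1 (hfaith ▸ le_inf hg hPC)
    have h4 := hP.not_dvd
    rw [this, Subgroup.relIndex_bot_left] at h4
    exact h4 hd

/-- the faithful case -/
theorem fpf_core (hs : Group.IsSolvable X) (hodd : Odd (Nat.card X)) {V K R : Subgroup X}
    [hVn : V.Normal] (hKR : R ≤ normalizer (K : Set X)) (hR : (Nat.card R).Prime)
    (hcVK : (Nat.card V).Coprime (Nat.card K)) (hcVR : (Nat.card V).Coprime (Nat.card R))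
    (hcKR : (Nat.card K).Coprime (Nat.card R)) (htop : (V ⊔ K) ⊔ R = ⊤)
    (hfix : V ⊓ centralizer (R : Set X) = ⊥) (hfaith : K ⊓ centralizer (V : Set X) = ⊥) :
    ⁅V ⊔ K, R⁆ ≤ V := by
  have hVKn : (V ⊔ K).Normal := by
    rw [← Subgroup.normalizer_eq_top_iff, eq_top_iff, ← htop]
    refine sup_le le_normalizer ?_
    intro r hr
    refine L.mem_nz_iff.2 ?_
    rw [L.cj_sup, L.mem_nz_iff.1 (hKR hr)]
    congr 1
    exact L.mem_nz_iff.1 ((Subgroup.normalizer_eq_top_iff.2 hVn).ge (Subgroup.mem_top r))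
  have hcVK' : Nat.card (V ⊔ K : Subgroup X) = Nat.card V * Nat.card K := by
    have := H1.card_sup_mul_card_inf_of_le_normalizer (H := V) (K := K)
      (le_top.trans (Subgroup.normalizer_eq_top_iff.2 hVn).ge)
    rwa [H1.inf_eq_bot_of_card_coprime hcVK, Subgroup.card_bot, mul_one] at this
  have hcop : (Nat.card (V ⊔ K : Subgroup X)).Coprime (Nat.card R) := by
    rw [hcVK']; exact Nat.Coprime.mul_left hcVR hcKR
  have hcX : Nat.card X = Nat.card V * (Nat.card K * Nat.card R) := by
    have := H1.card_sup_mul_card_inf_of_le_normalizer (H := V ⊔ K) (K := R)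
      (le_top.trans (Subgroup.normalizer_eq_top_iff.2 hVKn).ge)
    rw [H1.inf_eq_bot_of_card_coprime hcop, Subgroup.card_bot, mul_one, htop, Subgroup.card_top,
      hcVK'] at this
    rw [this, mul_assoc]
  have hVh : (Nat.card V).Coprime V.index := by
    have h1 := V.card_mul_index
    rw [hcX] at h1
    rw [Nat.eq_of_mul_eq_mul_left Nat.card_pos h1]
    exact Nat.Coprime.mul_right hcVK hcVR
  haveI := hs
  haveI := hVKn
  have hFV := fitting_le_of_faithful hs hcVK hVKn hVh hfaith
  refine (Cfsg.Agent.S1445.result (G := X) hodd (V ⊔ K) R htop hcop ?_ ?_).trans hFV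
  · intro x hx hx1
    rw [← centralizer_zpowers, eq_zpowers_of_prime hR hx hx1]
  · rw [eq_bot_iff, ← hfix]
    exact inf_le_inf_right _ hFV

end

section
variable {G : Type u} [Group G] [Finite G]

theorem map_subgroupOf_le {H K : Subgroup G} : (H.subgroupOf K).map K.subtype ≤ H := by
  rw [Subgroup.subgroupOf_map_subtype]; exact inf_le_left

theorem subgroupOf_commutator_le {A B C T : Subgroup G} (hA : A ≤ T) (hB : B ≤ T) (hC : C ≤ T)
    (h : ⁅A.subgroupOf T, B.subgroupOf T⁆ ≤ C.subgroupOf T) : ⁅A, B⁆ ≤ C := by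
  have := Subgroup.map_mono (f := T.subtype) h
  rwa [Subgroup.map_commutator, Subgroup.map_subgroupOf_eq_of_le hA,
    Subgroup.map_subgroupOf_eq_of_le hB, Subgroup.map_subgroupOf_eq_of_le hC] at this

/-- A fixed point free action of a group of prime order: the group is nilpotent (odd solvable
case of Thompson's theorem). -/
theorem nilpotent_of_fpf {V R : Subgroup G} (hR : (Nat.card R).Prime)
    (hRV : R ≤ normalizer (V : Set G)) (hs : Group.IsSolvable ↥(V ⊔ R))
    (hodd : Odd (Nat.card ↥(V ⊔ R))) (hcop : (Nat.card V).Coprime (Nat.card R))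
    (hfix : V ⊓ centralizer (R : Set G) = ⊥) : Group.IsNilpotent V := by
  set T := V ⊔ R with hT
  have hVT : V ≤ T := le_sup_left
  have hRT : R ≤ T := le_sup_right
  haveI := hs
  haveI hVn : (V.subgroupOf T).Normal :=
    (Subgroup.normal_subgroupOf_iff_le_normalizer hVT).2 (sup_le le_normalizer hRV)
  have hcV := H1.card_subgroupOf hVT
  have hcR := H1.card_subgroupOf hRT
  have htop : V.subgroupOf T ⊔ R.subgroupOf T = ⊤ := by
    rw [← Subgroup.subgroupOf_sup hVT hRT, Subgroup.subgroupOf_self]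
  have hfix' : V.subgroupOf T ⊓ centralizer (R.subgroupOf T : Set T) = ⊥ := by
    rw [eq_bot_iff]
    rintro ⟨x, hxT⟩ ⟨hx1, hx2⟩
    have : x ∈ V ⊓ centralizer (R : Set G) := by
      refine ⟨hx1, Subgroup.mem_centralizer_iff.2 fun r hr => ?_⟩
      exact congrArg Subtype.val (Subgroup.mem_centralizer_iff.1 hx2 ⟨r, hRT hr⟩ hr)
    rw [hfix, Subgroup.mem_bot] at this
    exact Subgroup.mem_bot.2 (Subtype.ext this)
  have h1 := Cfsg.Agent.S1445.result (G := T) hodd (V.subgroupOf T) (R.subgroupOf T) htop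
    (by rw [hcV, hcR]; exact hcop) (by
      intro x hx hx1
      rw [← centralizer_zpowers, eq_zpowers_of_prime (by rw [hcR]; exact hR) hx hx1])
    (by rw [eq_bot_iff, ← hfix']; exact inf_le_inf_right _ (fittingOf_le _))
  have h2 : ⁅V.subgroupOf T, R.subgroupOf T⁆ = V.subgroupOf T := by
    have h3 := H23.commutator_sup_centralizer (A := R.subgroupOf T) (G := V.subgroupOf T)
      (le_top.trans (Subgroup.normalizer_eq_top_iff.2 hVn).ge)
      (by rw [hcV, hcR]; exact hcop.symm) (Or.inr (H1.isSolvable_subgroupOf hVT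
        (H1.isSolvable_of_le hVT hs)))
    rwa [hfix', sup_bot_eq] at h3
  rw [h2] at h1
  have h3 : Group.IsNilpotent (V.subgroupOf T) := H1.isNilpotent_of_le h1 (fittingOf_nilpotent _)
  have h4 := H1.isNilpotent_map T.subtype h3
  rwa [Subgroup.map_subgroupOf_eq_of_le hVT] at h4

/-- BG 3.4-type: if `R` of prime order acts without fixed points on `V`, and `K` is an
`R`-invariant group acting on `V`, everything coprime of odd order, then `[K, R]` centralizes `V`. -/
theorem fpf_commutator {V K R : Subgroup G} (hR : (Nat.card R).Prime)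
    (hRV : R ≤ normalizer (V : Set G)) (hKV : K ≤ normalizer (V : Set G))
    (hRK : R ≤ normalizer (K : Set G)) (hs : Group.IsSolvable ↥((V ⊔ K) ⊔ R))
    (hodd : Odd (Nat.card ↥((V ⊔ K) ⊔ R)))
    (hcVK : (Nat.card V).Coprime (Nat.card K)) (hcVR : (Nat.card V).Coprime (Nat.card R))
    (hcKR : (Nat.card K).Coprime (Nat.card R))
    (hfix : V ⊓ centralizer (R : Set G) = ⊥) :
    ⁅K, R⁆ ≤ centralizer (V : Set G) := by
  set T := (V ⊔ K) ⊔ R with hT
  set C := K ⊓ centralizer (V : Set G) with hC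
  have hVT : V ≤ T := le_sup_left.trans le_sup_left
  have hKT : K ≤ T := le_sup_right.trans le_sup_left
  have hRT : R ≤ T := le_sup_right
  have hCT : C ≤ T := inf_le_left.trans hKT
  have hVC : V ⊓ C = ⊥ := by
    rw [eq_bot_iff, ← H1.inf_eq_bot_of_card_coprime hcVK]
    exact inf_le_inf_left _ inf_le_left
  have hTC : T ≤ normalizer (C : Set G) := by
    refine sup_le (sup_le ?_ ?_) ?_
    · intro v hv
      refine L.mem_nz_iff.2 ?_
      have hvC : v ∈ centralizer (C : Set G) := by
        rw [Subgroup.mem_centralizer_iff]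
        intro c hc
        exact (Subgroup.mem_centralizer_iff.1 hc.2 v hv).symm
      exact L.mem_nz_iff.1 (centralizer_le_normalizer _ hvC)
    · intro k hk
      refine L.mem_nz_iff.2 ?_
      rw [hC, L.cj_inf, ← L.cent_cj, L.mem_nz_iff.1 (hKV hk), L.cj_eq_self_of_mem hk]
    · intro r hr
      refine L.mem_nz_iff.2 ?_
      rw [hC, L.cj_inf, ← L.cent_cj, L.mem_nz_iff.1 (hRV hr), L.mem_nz_iff.1 (hRK hr)]
  haveI hCn : (C.subgroupOf T).Normal := (Subgroup.normal_subgroupOf_iff_le_normalizer hCT).2 hTC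
  haveI hVn : (V.subgroupOf T).Normal :=
    (Subgroup.normal_subgroupOf_iff_le_normalizer hVT).2 (sup_le (sup_le le_normalizer hKV) hRV)
  set π := QuotientGroup.mk' (C.subgroupOf T) with hπ
  have hπs : Function.Surjective π := QuotientGroup.mk'_surjective _
  haveI : (V.subgroupOf T |>.map π).Normal := hVn.map π hπs
  have hsX : Group.IsSolvable (T ⧸ C.subgroupOf T) := by
    haveI := hs
    infer_instance
  have hoddX : Odd (Nat.card (T ⧸ C.subgroupOf T)) :=
    odd_quotient hodd (C.subgroupOf T)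
  -- key: lifting centralization
  have hmem : ∀ t : T, π t = 1 → (t : G) ∈ C := by
    intro t ht
    have : t ∈ C.subgroupOf T := (QuotientGroup.eq_one_iff t).1 ht
    exact Subgroup.mem_subgroupOf.1 this
  have hcom : ∀ v : T, ∀ t : T, (v : G) ∈ V → π v * π t = π t * π v → (v : G) * t = t * v := by
    intro v t hv h
    have h1 : π (v * t * v⁻¹ * t⁻¹) = 1 := by
      rw [map_mul, map_mul, map_mul, h, map_inv, map_inv]; group
    have h2 := hmem _ h1
    have h3 : ((v * t * v⁻¹ * t⁻¹ : T) : G) ∈ V := by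
      have ht : (t : G) ∈ normalizer (V : Set G) :=
        (sup_le (sup_le le_normalizer hKV) hRV : T ≤ _) t.2
      have := (Subgroup.mem_normalizer_iff.1 ht _).1 (inv_mem hv)
      have h4 := mul_mem hv this
      simpa [mul_assoc] using h4
    have h5 : ((v * t * v⁻¹ * t⁻¹ : T) : G) = 1 := by
      have : ((v * t * v⁻¹ * t⁻¹ : T) : G) ∈ V ⊓ C := ⟨h3, h2⟩
      rwa [hVC, Subgroup.mem_bot] at this
    have h6 : (v : G) * t * (v : G)⁻¹ * (t : G)⁻¹ = 1 := h5
    rw [mul_inv_eq_one, mul_inv_eq_iff_eq_mul] at h6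
    exact h6
  have hcard : ∀ H : Subgroup G, H ≤ T → Nat.card ((H.subgroupOf T).map π) ∣ Nat.card H := by
    intro H hH
    rw [← H1.card_subgroupOf hH]; exact Subgroup.card_map_dvd _ _
  have hRcard : Nat.card ((R.subgroupOf T).map π) = Nat.card R := by
    rcases (Nat.dvd_prime hR).1 (hcard R hRT) with h | h
    · exfalso
      have h1 : R ≤ K := by
        intro r hr
        have : (R.subgroupOf T).map π = ⊥ := Subgroup.card_eq_one.1 h
        have h2 : π ⟨r, hRT hr⟩ = 1 := by
          rw [← Subgroup.mem_bot, ← this]; exact ⟨⟨r, hRT hr⟩, hr, rfl⟩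
        exact (hmem _ h2).1
      have h2 := card_dvd_of_le h1
      exact hR.one_lt.ne' (Nat.eq_one_of_dvd_coprimes hcKR h2 dvd_rfl)
    · exact h
  have hmain := fpf_core (X := T ⧸ C.subgroupOf T) hsX hoddX (V := (V.subgroupOf T).map π)
    (K := (K.subgroupOf T).map π) (R := (R.subgroupOf T).map π) ?_ (by rw [hRcard]; exact hR)
    (Nat.Coprime.of_dvd (hcard V hVT) (hcard K hKT) hcVK)
    (Nat.Coprime.of_dvd (hcard V hVT) (hcard R hRT) hcVR)
    (Nat.Coprime.of_dvd (hcard K hKT) (hcard R hRT) hcKR) ?_ ?_ ?_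
  · -- conclusion
    rw [Subgroup.commutator_le]
    intro k hk r hr
    rw [Subgroup.mem_centralizer_iff]
    intro v hv
    have h1 : π ⁅(⟨k, hKT hk⟩ : T), ⟨r, hRT hr⟩⁆ ∈ (V.subgroupOf T).map π := by
      refine hmain ?_
      rw [map_commutatorElement]
      exact Subgroup.commutator_mem_commutator (mem_sup_right ⟨⟨k, hKT hk⟩, hk, rfl⟩)
        ⟨⟨r, hRT hr⟩, hr, rfl⟩
    obtain ⟨w, hw, e⟩ := h1
    -- `[k,r] ∈ K ∩ V C`, so it lies in `C`
    have h2 : π (w⁻¹ * ⁅(⟨k, hKT hk⟩ : T), ⟨r, hRT hr⟩⁆) = 1 := by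
      rw [map_mul, map_inv, e, inv_mul_cancel]
    have h3 := hmem _ h2
    have h4 : ⁅k, r⁆ ∈ K := by
      rw [commutatorElement_def]
      have := (Subgroup.mem_normalizer_iff.1 (hRK hr) _).1 (inv_mem hk)
      have h5 := mul_mem hk this
      simpa [mul_assoc] using h5
    have h5 : (w : G)⁻¹ ∈ K := by
      have h6 : (w : G)⁻¹ * ⁅k, r⁆ ∈ K := h3.1
      exact (Subgroup.mul_mem_cancel_right K h4).1 h6
    have h6 : (w : G) = 1 := by
      have : (w : G) ∈ V ⊓ K := ⟨hw, by simpa using inv_mem h5⟩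
      rwa [H1.inf_eq_bot_of_card_coprime hcVK, Subgroup.mem_bot] at this
    have h7 : ⁅k, r⁆ ∈ C := by
      have h8 : (w : G)⁻¹ * ⁅k, r⁆ ∈ C := h3
      rwa [h6, inv_one, one_mul] at h8
    exact Subgroup.mem_centralizer_iff.1 h7.2 v hv
  · rintro _ ⟨r, hr, rfl⟩
    refine L.mem_nz_iff.2 ?_
    have h1 : cj r (K.subgroupOf T) = K.subgroupOf T := by
      apply L.eq_of_le_of_card_le
      · refine L.cj_le_of_forall fun x hx => ?_
        exact (Subgroup.mem_normalizer_iff.1 (hRK hr) _).1 hx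
      · rw [L.card_cj]
    have h2 := congrArg (Subgroup.map π) h1
    have h3 : (cj r (K.subgroupOf T)).map π = cj (π r) ((K.subgroupOf T).map π) :=
      H1.map_conj_smul π r _
    rwa [h3] at h2
  · rw [← Subgroup.map_sup, ← Subgroup.map_sup, ← Subgroup.subgroupOf_sup hVT hKT,
      ← Subgroup.subgroupOf_sup (sup_le hVT hKT) hRT, ← hT, Subgroup.subgroupOf_self,
      Subgroup.map_top_of_surjective _ hπs]
  · rw [eq_bot_iff]
    rintro _ ⟨⟨v, hv, rfl⟩, hv2⟩
    have h1 : (v : G) ∈ V ⊓ centralizer (R : Set G) := by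
      refine ⟨hv, Subgroup.mem_centralizer_iff.2 fun r hr => ?_⟩
      have := Subgroup.mem_centralizer_iff.1 hv2 (π ⟨r, hRT hr⟩) ⟨⟨r, hRT hr⟩, hr, rfl⟩
      exact (hcom v ⟨r, hRT hr⟩ hv this.symm).symm
    rw [hfix, Subgroup.mem_bot] at h1
    have h2 : v = 1 := Subtype.ext h1
    rw [Subgroup.mem_bot, h2, map_one]
  · rw [eq_bot_iff]
    rintro _ ⟨⟨k, hk, rfl⟩, hk2⟩
    rw [Subgroup.mem_bot]
    refine (QuotientGroup.eq_one_iff k).2 (Subgroup.mem_subgroupOf.2 ⟨hk, ?_⟩)
    refine Subgroup.mem_centralizer_iff.2 fun v hv => ?_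
    have := Subgroup.mem_centralizer_iff.1 hk2 (π ⟨v, hVT hv⟩) ⟨⟨v, hVT hv⟩, hv, rfl⟩
    exact hcom ⟨v, hVT hv⟩ k hv this

/-! ### operators on narrow groups -/

/-- `p'`-subgroups of the derived group of an odd order group acting on a narrow `q`-group act
trivially. -/
theorem narrow_derived_centralizes {q : ℕ} [hq : Fact q.Prime] (hq2 : q ≠ 2) {Q N P : Subgroup G}
    (hQ : IsPGroup q Q) (hn : IsNarrow q Q) (hN : N ≤ normalizer (Q : Set G))
    (hs : Group.IsSolvable N) (hodd : Odd (Nat.card N)) (hP : P ≤ ⁅N, N⁆)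
    (hcop : (Nat.card P).Coprime q) : P ≤ centralizer (Q : Set G) := by
  classical
  let φ : N →* MulAut Q := (Subgroup.normalizerMonoidHom Q).comp (Subgroup.inclusion hN)
  have hφ : ∀ (n : N) (x : Q), ((φ n x : Q) : G) = n * x * (n : G)⁻¹ := fun n x => rfl
  let S := SemidirectProduct Q (MulAut Q) (MonoidHom.id (MulAut Q))
  haveI : Finite S := by
    apply Finite.of_equiv (Q × MulAut Q)
    exact (SemidirectProduct.equivProd).symm
  let R : Subgroup S := (SemidirectProduct.inl : Q →* S).range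
  let A : Subgroup S := φ.range.map (SemidirectProduct.inr : MulAut Q →* S)
  have hR : IsPGroup q R := hQ.of_equiv (MonoidHom.ofInjective SemidirectProduct.inl_injective)
  have hRn : IsNarrow q R :=
    isNarrow_congr (MonoidHom.ofInjective (SemidirectProduct.inl_injective (φ := MonoidHom.id (MulAut Q)))) hn
  have hAR : A ≤ normalizer (R : Set S) := by
    rintro _ ⟨f, hf, rfl⟩
    refine L.mem_nz_iff.2 ?_
    apply L.eq_of_le_of_card_le
    · refine L.cj_le_of_forall ?_
      rintro _ ⟨x, rfl⟩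
      refine ⟨f x, ?_⟩
      have := SemidirectProduct.inl_aut (φ := MonoidHom.id (MulAut Q)) f x
      simpa using this
    · rw [L.card_cj]
  have hAs : Group.IsSolvable A := by
    haveI := hs
    have h0 : Group.IsSolvable (⊤ : Subgroup N) := H1.isSolvable_of_equiv Subgroup.topEquiv.symm hs
    have h1 : Group.IsSolvable φ.range := by
      rw [MonoidHom.range_eq_map]; exact H1.isSolvable_map _ h0
    exact H1.isSolvable_map _ h1
  have hAodd : Odd (Nat.card A) := by
    have h1 : Nat.card A ∣ Nat.card N :=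
      (Subgroup.card_map_dvd _ _).trans (Subgroup.card_range_dvd φ)
    exact hodd.of_dvd_nat h1
  have hfaith : A ⊓ centralizer (R : Set S) = ⊥ := by
    rw [eq_bot_iff]
    rintro _ ⟨⟨f, hf, rfl⟩, hc⟩
    rw [Subgroup.mem_bot]
    have : f = 1 := by
      ext x
      have h1 := Subgroup.mem_centralizer_iff.1 hc (SemidirectProduct.inl x) ⟨x, rfl⟩
      have h2 := SemidirectProduct.inl_aut (φ := MonoidHom.id (MulAut Q)) f x
      have h3 : (SemidirectProduct.inl (f x) : S) = SemidirectProduct.inl x := by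
        have h4 : (SemidirectProduct.inl ((MonoidHom.id (MulAut Q)) f x) : S) =
            SemidirectProduct.inl x := by
          rw [h2, ← h1, mul_assoc, ← map_mul, mul_inv_cancel, map_one, mul_one]
        simpa using h4
      exact congrArg Subtype.val (SemidirectProduct.inl_injective h3)
    rw [this, map_one]
  have key := (Cfsg.Agent.S1454.result (G := S) q hq2 R A hR hRn hAR hAs hAodd hfaith).1.1
  -- the image of `P` in `A`
  intro x hx
  have hxN : x ∈ N := (hP.trans (Subgroup.commutator_le_self N)) hx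
  have h1 : (⟨x, hxN⟩ : N) ∈ commutator N := by
    have := hP hx
    rw [← map_commutator_subtype] at this
    obtain ⟨y, hy, e⟩ := this
    rwa [show (⟨x, hxN⟩ : N) = y from Subtype.ext e.symm]
  let ψ : N →* A :=
    { toFun := fun n => ⟨SemidirectProduct.inr (φ n), ⟨φ n, ⟨n, rfl⟩, rfl⟩⟩
      map_one' := by apply Subtype.ext; simp
      map_mul' := fun a b => by apply Subtype.ext; simp }
  have h2 : ψ ⟨x, hxN⟩ ∈ commutator A := by
    have : (commutator N).map ψ ≤ commutator A := by
      rw [_root_.commutator_def, _root_.commutator_def, Subgroup.map_commutator]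
      exact Subgroup.commutator_mono le_top le_top
    exact this ⟨_, h1, rfl⟩
  have h3 := key h2
  have h4 : IsPGroup q (pCore q A) := H1.pCore_isPGroup q A
  obtain ⟨k, hk⟩ := h4 ⟨_, h3⟩
  have hk' : ψ ⟨x, hxN⟩ ^ q ^ k = 1 := congrArg Subtype.val hk
  have h5 : (⟨x, hxN⟩ : N) ^ Nat.card P = 1 := by
    have : (⟨x, hx⟩ : P) ^ Nat.card P = 1 := pow_card_eq_one'
    apply Subtype.ext
    have h51 := congrArg Subtype.val this
    simpa only [Subgroup.coe_pow, OneMemClass.coe_one] using h51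
  have h6 : ψ ⟨x, hxN⟩ ^ Nat.card P = 1 := by rw [← map_pow, h5, map_one]
  have h7 : ψ ⟨x, hxN⟩ = 1 := by
    have := Nat.Coprime.pow_right k hcop
    have h8 := Nat.Coprime.gcd_eq_one this
    have h9 : ψ ⟨x, hxN⟩ ^ (Nat.gcd (Nat.card P) (q ^ k)) = 1 :=
      pow_gcd_eq_one.2 ⟨h6, hk'⟩
    rwa [h8, pow_one] at h9
  have h8 : φ ⟨x, hxN⟩ = 1 := by
    have : (SemidirectProduct.inr (φ ⟨x, hxN⟩) : S) = 1 := congrArg Subtype.val h7
    exact SemidirectProduct.inr_injective (by rw [this, map_one])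
  rw [Subgroup.mem_centralizer_iff]
  intro y hy
  have h9 := congrArg (fun f : MulAut Q => ((f ⟨y, hy⟩ : Q) : G)) h8
  have h10 : x * y * x⁻¹ = y := h9
  rw [mul_inv_eq_iff_eq_mul] at h10
  exact h10.symm

end

end Cfsg.Agent.H12.BG
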