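import Cfsg.Agent.H12.BgB
import Cfsg.Agent.H23.Subnormal2
import Cfsg.Agent.S1392
import Cfsg.Agent.S1394
import Cfsg.Agent.S1395
import Cfsg.Agent.S1396
import Cfsg.Agent.S1451

set_option autoImplicit false
set_option linter.unusedSectionVars false
set_option linter.style.haveILetI false
set_option linter.unusedVariables false

/-! BG 10.10 - 10.12 -/

namespace Cfsg.Agent.H12.BG

open Subgroup
open Cfsg.Agent.L (cj nz SylIn)
open Cfsg.Agent.H14 (IsPiSub)
open Cfsg.Agent.OOT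
open scoped commutatorElement

universe u
variable {G : Type u} [Group G] [Finite G]

/-! ### maximal invariant subgroups -/

theorem mem_inv_iff {q : ℕ} [hq : Fact q.Prime] {A Y H : Subgroup G} :
    Y ∈ invSubgroups H A {q} ↔ Y ≤ H ∧ IsPGroup q Y ∧ A ≤ normalizer (Y : Set G) := by
  constructor
  · rintro ⟨h1, h2, h3⟩
    exact ⟨h1, isPGroup_of_isPiSub h2, h3⟩
  · rintro ⟨h1, h2, h3⟩
    exact ⟨h1, isPiSub_of_isPGroup (π := {q}) (Set.mem_singleton q) h2, h3⟩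

theorem exists_maxInv_ge {H A R : Subgroup G} {π : Set ℕ} (hR : R ∈ invSubgroups H A π) :
    ∃ Q ∈ maxInvSubgroups H A π, R ≤ Q := by
  obtain ⟨Q, hRQ, hQ⟩ := (Set.toFinite (invSubgroups H A π)).exists_le_maximal hR
  exact ⟨Q, ⟨hQ.prop, fun R' hR' h => le_antisymm (hQ.le_of_ge hR' h) h⟩, hRQ⟩

theorem maxInv_isPGroup {q : ℕ} [hq : Fact q.Prime] {A Q H : Subgroup G}
    (h : Q ∈ maxInvSubgroups H A {q}) : IsPGroup q Q := (mem_inv_iff.1 h.1).2.1

theorem maxInv_le_nz {q : ℕ} [hq : Fact q.Prime] {A Q H : Subgroup G}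
    (h : Q ∈ maxInvSubgroups H A {q}) : A ≤ normalizer (Q : Set G) := (mem_inv_iff.1 h.1).2.2

/-- an invariant Sylow `q`-subgroup of `G` is a maximal invariant `q`-subgroup -/
theorem maxInv_of_sylow {q : ℕ} [hq : Fact q.Prime] {A Q : Subgroup G} (hQ : SylIn q Q ⊤)
    (hA : A ≤ normalizer (Q : Set G)) : Q ∈ maxInvSubgroups ⊤ A {q} := by
  refine ⟨mem_inv_iff.2 ⟨le_top, hQ.isPGroup, hA⟩, fun R hR h => ?_⟩
  exact (hQ.eq_of_le (mem_inv_iff.1 hR).2.1 le_top h).symm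

/-- a maximal invariant `q`-subgroup containing a given one, with the same intersection with `H` -/
theorem inv_cj {q : ℕ} [hq : Fact q.Prime] {A Q : Subgroup G} {k : G}
    (h : Q ∈ maxInvSubgroups ⊤ A {q}) : cj k Q ∈ maxInvSubgroups ⊤ (cj k A) {q} := by
  obtain ⟨h1, h2⟩ := h
  obtain ⟨-, h3, h4⟩ := mem_inv_iff.1 h1
  refine ⟨mem_inv_iff.2 ⟨le_top, L.cj_isPGroup h3, ?_⟩, fun R hR hle => ?_⟩
  · change _ ≤ nz _
    rw [L.nz_cj]; exact L.cj_mono h4
  · obtain ⟨-, h5, h6⟩ := mem_inv_iff.1 hR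
    have h7 := h2 (cj k⁻¹ R) (mem_inv_iff.2 ⟨le_top, L.cj_isPGroup h5, by
      have := L.cj_mono (g := k⁻¹) h6
      rw [L.cj_inv_cj] at this
      change _ ≤ nz _
      rw [L.nz_cj]; exact this⟩) (by
      have := L.cj_mono (g := k⁻¹) hle
      rwa [L.cj_inv_cj] at this)
    rw [← h7, L.cj_cj_inv]

section
variable (hG : IsMinSimpleOddOrder G) {p : ℕ} [hp : Fact p.Prime]
include hG

theorem E2s.trans {A : Subgroup G} (hA : E2s p A) : TransitivityHypothesis A := by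
  refine Cfsg.Agent.S1396.result hG p ?_ A hA.isPGroup hA.ea.1 (Or.inl ⟨?_, ?_⟩)
  · exact (hA.card ▸ dvd_pow_self p two_ne_zero : p ∣ Nat.card A).trans
      (Subgroup.card_subgroup_dvd_card A)
  · intro x hx
    exact ⟨fun h => hA.mem hx h, fun h => hA.ea.2 x h⟩
  · intro H hH
    exact plength_one hG hH p

theorem piCoreOf_cent_le (A : Subgroup G) (π : Set ℕ) :
    piCoreOf π (centralizer (A : Set G)) ≤ centralizer (A : Set G) := piCoreOf_le _ _

theorem E2s.not_dvd {A : Subgroup G} (hA : E2s p A) {q : ℕ} (hq : q.Prime) (hqp : q ≠ p) :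
    ¬ q ∣ Nat.card A := not_dvd_of_isPGroup hq hqp hA.isPGroup

/-- BG 7.x: maximal invariant `q`-subgroups meeting a common proper overgroup of `A` -/
theorem E2s.meet_trans {A : Subgroup G} (hA : E2s p A) {q : ℕ} [hq : Fact q.Prime] (hqp : q ≠ p)
    {Q₁ Q₂ H : Subgroup G} (h₁ : Q₁ ∈ maxInvSubgroups ⊤ A {q}) (h₂ : Q₂ ∈ maxInvSubgroups ⊤ A {q})
    (hH : H ≠ ⊤) (hAH : A ≤ H) (hH₁ : H ⊓ Q₁ ≠ ⊥) (hH₂ : H ⊓ Q₂ ≠ ⊥) :
    ∃ k ∈ centralizer (A : Set G), Q₂ = cj k Q₁ := by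
  obtain ⟨k, hk, e⟩ := Cfsg.Agent.S1392.result hG A (hA.trans hG) q hq.out (hA.not_dvd hG hq.out hqp)
    Q₁ Q₂ h₁ h₂ H hH hAH hH₁ hH₂
  exact ⟨k, piCoreOf_cent_le hG A _ hk, e⟩

theorem E2s.not_rankLE_one {A : Subgroup G} (hA : E2s p A) : ¬ RankLE 1 A :=
  not_rankLE_of_sylow le_rfl (not_pRankLE_of_ea le_rfl hA.ea hA.card.ge)

theorem E2s.cent_trans_pi {A : Subgroup G} (hA : E2s p A) {q : ℕ} [hq : Fact q.Prime] (hqp : q ≠ p)
    (hqC : q ∣ Nat.card (centralizer (A : Set G))) :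
    ∀ Q₁ ∈ maxInvSubgroups ⊤ A {q}, ∀ Q₂ ∈ maxInvSubgroups ⊤ A {q},
      ∃ k ∈ piCoreOf (primesNotDvd (Nat.card A)) (centralizer (A : Set G)), Q₂ = cj k Q₁ := by
  refine Cfsg.Agent.S1394.result hG A (hA.trans hG) ?_ q hq.out (hA.not_dvd hG hq.out hqp) hqC
  rw [inf_eq_left.2 hA.le_cent]
  exact hA.not_rankLE_one hG

theorem E2s.cent_trans {A : Subgroup G} (hA : E2s p A) {q : ℕ} [hq : Fact q.Prime] (hqp : q ≠ p)
    (hqC : q ∣ Nat.card (centralizer (A : Set G))) {Q₁ Q₂ : Subgroup G}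
    (h₁ : Q₁ ∈ maxInvSubgroups ⊤ A {q}) (h₂ : Q₂ ∈ maxInvSubgroups ⊤ A {q}) :
    ∃ k ∈ centralizer (A : Set G), Q₂ = cj k Q₁ := by
  obtain ⟨k, hk, e⟩ := hA.cent_trans_pi hG hqp hqC Q₁ h₁ Q₂ h₂
  exact ⟨k, piCoreOf_cent_le hG A _ hk, e⟩

/-- BG 10.10 -/
theorem E2s.signalizer {A : Subgroup G} (hA : E2s p A) {q : ℕ} [hq : Fact q.Prime] (hqp : q ≠ p)
    (hqC : q ∣ Nat.card (centralizer (A : Set G))) {Q : Subgroup G}
    (hQ : Q ∈ maxInvSubgroups ⊤ A {q}) :
    ∃ P, SylIn p P ⊤ ∧ A ≤ P ∧ P ≤ normalizer (Q : Set G) ∧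
      P ≤ ⁅normalizer (Q : Set G), normalizer (Q : Set G)⁆ ∧
      normalizer (P : Set G) = centralizer (P : Set G) ⊔
        (normalizer (P : Set G) ⊓ normalizer (Q : Set G)) ∧
      (IsNarrow q Q → P ≤ centralizer (Q : Set G)) := by
  obtain ⟨P₀, hP₀, hAP₀⟩ := L.exists_sylIn_ge (p := p) hA.isPGroup (le_top : A ≤ ⊤)
  have htr := hA.cent_trans_pi hG hqp hqC
  have happ : ∀ P : Subgroup G, SylIn p P ⊤ → A ≤ P → _ := fun P hP hAP =>
    Cfsg.Agent.S1395.result hG A (hA.trans hG) q hq.out (hA.not_dvd hG hq.out hqp) P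
      (pgroup_ne_top hG hP.isPGroup) (by
        intro r hr hd
        have : r = p := by
          by_contra hne
          exact not_dvd_of_isPGroup hr hne hP.isPGroup hd
        rw [this, hA.card]
        exact dvd_pow_self p two_ne_zero) hAP
      (H23.isSubnormal_of_isNilpotent hP.isPGroup.isNilpotent _) htr
  obtain ⟨Q₁, hQ₁, -⟩ := exists_maxInv_ge (H := (⊤ : Subgroup G)) (A := P₀) (R := ⊥) (π := {q})
    (mem_inv_iff.2 ⟨bot_le, IsPGroup.of_bot, by
      rw [Subgroup.normalizer_eq_top_iff.2 Subgroup.normal_bot]; exact le_top⟩)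
  have hQ₁A := (happ P₀ hP₀ hAP₀).2.2.1 hQ₁
  obtain ⟨k, hk, e⟩ := hA.cent_trans hG hqp hqC hQ₁A hQ
  have hkA : cj k A = A := L.mem_nz_iff.1 (centralizer_le_normalizer _ hk)
  set P := cj k P₀ with hPdef
  have hP : SylIn p P ⊤ := hP₀.cj_mem (Subgroup.mem_top k)
  have hAP : A ≤ P := by rw [← hkA]; exact L.cj_mono hAP₀
  have hQP : Q ∈ maxInvSubgroups ⊤ P {q} := by rw [e]; exact inv_cj hQ₁
  obtain ⟨h1, h2⟩ := (happ P hP hAP).2.2.2 Q hQP
  have hPN' : P ≤ ⁅normalizer (Q : Set G), normalizer (Q : Set G)⁆ :=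
    (le_inf le_rfl (sylow_le_derived_normalizer hG hP)).trans h1
  refine ⟨P, hP, hAP, maxInv_le_nz hQP, hPN', ?_, ?_⟩
  · apply le_antisymm
    · rw [h2]
      refine sup_le ?_ ?_
      · exact (piCoreOf_cent_le hG P _).trans le_sup_left
      · rw [← h2]; exact le_sup_right
    · exact sup_le (centralizer_le_normalizer _) inf_le_left
  · intro hn
    by_cases hQ1 : Q = ⊥
    · rw [hQ1]
      intro x _
      rw [Subgroup.mem_centralizer_iff]
      intro y hy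
      rw [Subgroup.mem_bot.1 hy]; simp
    · have hQp := maxInv_isPGroup hQ
      refine narrow_derived_centralizes (prime_ne_two hG (dvd_card_of_ne_bot hQp hQ1)) hQp hn le_rfl
        (sol hG (normalizer_ne_top hG hQ1 (pgroup_ne_top hG hQp))) (odd_sub hG _) hPN' ?_
      exact coprime_card_of_ne hq.out hqp hP.isPGroup

end

/-! ### BG 10.11 -/

section
variable (hG : IsMinSimpleOddOrder G)
include hG

theorem not_uniq_bot {M : Subgroup G} (hM : IsCoatom M) : ¬ InUniqueMaximal (⊥ : Subgroup G) := by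
  intro h
  have h1 : normalizer ((⊥ : Subgroup G) : Set G) ≤ M := uniq_normalizer_le hG h hM bot_le
  rw [Subgroup.normalizer_eq_top_iff.2 Subgroup.normal_bot] at h1
  exact hM.1 (top_le_iff.1 h1)

theorem rankLE_of_sigma' {M K : Subgroup G} (hM : IsCoatom M) (hKM : K ≤ M)
    (hK : IsPiSub {p | p ∉ sigma M} K) : RankLE 2 K := by
  intro p hp
  haveI : Fact p.Prime := ⟨hp⟩
  by_cases hd : p ∣ Nat.card K
  · exact H10.pRankLE_mono hKM (pRankLE_two_of_not_sigma hG hM hp (hK p hp hd))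
  · exact pRankLE_of_not_dvd hd

theorem mem_sigma_of_sylIn {M P : Subgroup G} {p : ℕ} [hp : Fact p.Prime] (hP : SylIn p P M)
    (hd : p ∣ Nat.card M) (hN : normalizer (P : Set G) ≤ M) : p ∈ sigma M :=
  ⟨hp.out, hd, hP.toSylow, by rw [hP.map_toSylow]; exact hN⟩

/-- for the largest prime `p`, an odd order solvable group of rank at most two has a normal Sylow
`p`-subgroup -/
theorem exists_normal_sylow {E : Subgroup G} (hs : Group.IsSolvable E) (hr : RankLE 2 E)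
    (hE : E ≠ ⊥) : ∃ (p : ℕ) (_ : Fact p.Prime) (P : Subgroup G), p ∣ Nat.card E ∧ SylIn p P E ∧
      E ≤ normalizer (P : Set G) := by
  classical
  have hne : (Nat.card E).primeFactors.Nonempty := by
    rw [Nat.nonempty_primeFactors]
    have : Nat.card E ≠ 1 := fun h => hE (Subgroup.card_eq_one.1 h)
    have := Nat.card_pos (α := E)
    omega
  set p := (Nat.card E).primeFactors.max' hne with hpdef
  have hpm := Finset.max'_mem _ hne
  rw [← hpdef] at hpm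
  obtain ⟨hp, hpd, -⟩ := Nat.mem_primeFactors.1 hpm
  haveI hpf : Fact p.Prime := ⟨hp⟩
  haveI := hs
  obtain ⟨N, hN, hN1, hN2⟩ := (Cfsg.Agent.S1451.result (G := E) (odd_sub hG E) (Or.inl hr)).2.2 (p - 1)
  refine ⟨p, hpf, N.map E.subtype, hpd, ⟨Subgroup.map_subtype_le N, ?_, ?_⟩,
    le_normalizer_map_subtype inferInstance⟩
  · refine IsPGroup.map ?_ _
    have : ∀ r : ℕ, r.Prime → r ∣ Nat.card N → r = p := by
      intro r hr hd
      have h1 := (hN1 r hr hd).2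
      have h2 : r ∈ (Nat.card E).primeFactors := Nat.mem_primeFactors.2
        ⟨hr, hd.trans (Subgroup.card_subgroup_dvd_card N), Nat.card_pos.ne'⟩
      have h3 := Finset.le_max' _ r h2
      rw [← hpdef] at h3
      have := hp.one_lt
      omega
    exact IsPGroup.of_card (Nat.eq_prime_pow_of_unique_prime_dvd (p := p) Nat.card_pos.ne'
      (fun hd hdv => this _ hd hdv))
  · have h1 := hN2 p hp ⟨hp, by have := hp.one_lt; omega⟩
    have h2 : (N.map E.subtype).relIndex E = N.index := by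
      have e1 := L.card_mul_relIndex (T := N.map E.subtype) (U := E) (Subgroup.map_subtype_le N)
      have e2 := N.card_mul_index
      rw [H1.card_map_subtype] at e1
      exact Nat.eq_of_mul_eq_mul_left (Nat.card_pos (α := N)) (e1.trans e2.symm)
    rwa [h2]

/-- BG 10.11(a) -/
theorem sigma'_not_uniq {M K : Subgroup G} (hM : IsCoatom M) (hKM : K ≤ M)
    (hK : IsPiSub {p | p ∉ sigma M} K) : ¬ InUniqueMaximal K := by
  intro hu
  obtain ⟨E, hE, hKE⟩ := exists_hallOf_ge (coatom_sol hG hM) hKM hK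
  have hEt : E ≠ ⊤ := fun h => hM.1 (top_le_iff.1 (h ▸ hE.1))
  have huE := uniq_mono hu hKE hEt
  have hE1 : E ≠ ⊥ := by
    rintro rfl
    exact not_uniq_bot hG hM huE
  obtain ⟨p, hp, P, hpE, hP, hEP⟩ := exists_normal_sylow hG (H1.isSolvable_of_le hE.1
    (coatom_sol hG hM)) (rankLE_of_sigma' hG hM hE.1 hE.2.1) hE1
  have hpσ : p ∉ sigma M := hE.2.1 p hp.out hpE
  have hPM : SylIn p P M := sylIn_iff_hallOf.2
    (IsPiHallOf.trans (π' := {p | p ∉ sigma M}) (by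
      rintro _ rfl; exact hpσ) (sylIn_iff_hallOf.1 hP) hE)
  have hP1 : P ≠ ⊥ := by
    rintro rfl
    have := hP.not_dvd
    rw [Subgroup.relIndex_bot_left] at this
    exact this hpE
  have hNP := normalizer_ne_top hG hP1 (pgroup_ne_top hG hP.isPGroup)
  have h1 : normalizer (P : Set G) ≤ M := uniq_le huE hM hE.1 hEP hNP
  exact hpσ (mem_sigma_of_sylIn hG hPM (hpE.trans (card_dvd_of_le hE.1)) h1)

theorem sigma_sylow_top {M Q : Subgroup G} (hM : IsCoatom M) {q : ℕ} [hq : Fact q.Prime]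
    (hqσ : q ∈ sigma M) (hQ : SylIn q Q M) : SylIn q Q ⊤ :=
  sylow_mem_sylIn hQ (((mem_sigma_iff hG).1 hqσ).2.2 Q hQ)

theorem sigma_nz_le {M Q : Subgroup G} {q : ℕ} [hq : Fact q.Prime]
    (hqσ : q ∈ sigma M) (hQ : SylIn q Q M) : normalizer (Q : Set G) ≤ M :=
  ((mem_sigma_iff hG).1 hqσ).2.2 Q hQ

/-- Sylow `q`-subgroups of `M_σ` are Sylow in `M` (and in `G`) -/
theorem sylIn_of_sigmaCore {M Q : Subgroup G} (hM : IsCoatom M) {q : ℕ} [hq : Fact q.Prime]
    (hqσ : q ∈ sigma M) (hQ : SylIn q Q (sigmaCore M)) : SylIn q Q M :=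
  sylIn_iff_hallOf.2 (IsPiHallOf.trans (π' := sigma M) (by rintro _ rfl; exact hqσ)
    (sylIn_iff_hallOf.1 hQ) (sigmaCore_hall hG hM))

omit hG in
theorem isPiSub_sigmaCore (M : Subgroup G) : IsPiSub (sigma M) (sigmaCore M) :=
  isPiSub_piCoreOf (sigma M) M

omit hG in
theorem sigmaCore_le (M : Subgroup G) : sigmaCore M ≤ M := piCoreOf_le _ _

omit hG in
theorem le_nz_sigmaCore (M : Subgroup G) :
    M ≤ normalizer ((sigmaCore M : Subgroup G) : Set G) := le_normalizer_piCoreOf _ _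

omit hG in
/-- a `σ(M)`-subgroup and a `σ(M)'`-subgroup have coprime orders -/
theorem coprime_sigma {M K L' : Subgroup G} (h1 : IsPiSub (sigma M) K)
    (h2 : IsPiSub {p | p ∉ sigma M} L') : (Nat.card K).Coprime (Nat.card L') :=
  Nat.coprime_of_dvd fun p hp h3 h4 => h2 p hp h4 (h1 p hp h3)

/-- a `σ(M)`-subgroup of `M` lies in `M_σ` -/
theorem le_sigmaCore {M K : Subgroup G} (hM : IsCoatom M) (hKM : K ≤ M)
    (hK : IsPiSub (sigma M) K) : K ≤ sigmaCore M := by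
  obtain ⟨g, hg, hle⟩ := IsPiHallOf.exists_conj_le (coatom_sol hG hM) (sigmaCore_hall hG hM) hKM hK
  rw [L.cj_le_iff, L.mem_nz_iff.1 (le_nz_sigmaCore M (inv_mem hg))] at hle
  exact hle

/-- BG 10.11(b) -/
theorem rank_cent_sigma {M K : Subgroup G} (hM : IsCoatom M) (hKM : K ≤ M)
    (hK : IsPiSub {p | p ∉ sigma M} K) :
    RankLE 1 ↥(K ⊓ centralizer (sigmaCore M : Set G)) := by
  intro p hp
  haveI : Fact p.Prime := ⟨hp⟩
  by_contra hr
  obtain ⟨A, hA, hAe, hAc⟩ := exists_ea_of_not_pRankLE hr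
  have hAK : A ≤ K := hA.trans inf_le_left
  have hAC : A ≤ centralizer (sigmaCore M : Set G) := hA.trans inf_le_right
  have hpA : p ∣ Nat.card A := hAc ▸ dvd_pow_self p two_ne_zero
  have hpσ : p ∉ sigma M := hK p hp (hpA.trans (card_dvd_of_le hAK))
  have hu : ¬ InUniqueMaximal A := sigma'_not_uniq hG hM (hAK.trans hKM)
    (fun r hr hd => hK r hr (hd.trans (card_dvd_of_le hAK)))
  have hE : E2s p A := E2s.of_not_uniq hG hAe hAc hu
  have hMA : sigmaCore M ≤ centralizer (A : Set G) := Subgroup.le_centralizer_iff.1 hAC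
  -- the rank of `C_G(A)` is at most two
  have hrC : RankLE 2 (centralizer (A : Set G)) := by
    by_contra h
    exact hu (Cfsg.Agent.S1403.result hG A (hE.ne_top hG) (hE.not_rankLE_one hG) (Or.inr h))
  have hα : ∀ q, q ∉ alpha M := by
    intro q hq
    haveI : Fact q.Prime := ⟨hq.1⟩
    obtain ⟨Q, hQ⟩ := L.exists_sylIn (p := q) M
    have hQσ := sigma_sylow_le hG hM (alpha_subset_sigma hG hM hq) hQ
    exact hq.2 ((pRankLE_sylIn hQ).1 (H10.pRankLE_mono (hQσ.trans hMA) (hrC q hq.1)))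
  have hMn : Group.IsNilpotent ↥⁅M, M⁆ := beta'_nilpotent hG hM le_rfl
    (fun q _ _ h => hα q (beta_subset_alpha M h))
  obtain ⟨q, hq, hqd⟩ := Nat.exists_prime_and_dvd (n := Nat.card (sigmaCore M))
    (fun h => sigmaCore_ne_bot hG hM (Subgroup.card_eq_one.1 h))
  haveI : Fact q.Prime := ⟨hq⟩
  have hqσ : q ∈ sigma M := isPiSub_sigmaCore M q hq hqd
  obtain ⟨Q, hQ⟩ := L.exists_sylIn (p := q) (sigmaCore M)
  have hQM := sylIn_of_sigmaCore hG hM hqσ hQ
  have hQt := sigma_sylow_top hG hM hqσ hQM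
  have hqp : q ≠ p := by rintro rfl; exact hpσ hqσ
  have hQA : A ≤ normalizer (Q : Set G) :=
    (hAC.trans (Subgroup.centralizer_le hQ.le)).trans (centralizer_le_normalizer _)
  obtain ⟨P, hP, hAP, hPN, hPN', -, -⟩ := hE.signalizer hG hqp (hqd.trans (card_dvd_of_le hMA))
    (maxInv_of_sylow hQt hQA)
  have hNQ := sigma_nz_le hG hqσ hQM
  have hPM' : P ≤ ⁅M, M⁆ := hPN'.trans (Subgroup.commutator_mono hNQ hNQ)
  have hPM : P ≤ M := hPM'.trans (Subgroup.commutator_le_self M)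
  have hMM' : M ≤ normalizer ((⁅M, M⁆ : Subgroup G) : Set G) := by
    have := le_normalizer_map_subtype (M := M) (K := commutator M) inferInstance
    rwa [map_commutator_subtype] at this
  have hMP : M ≤ normalizer (P : Set G) :=
    sylIn_normal hMn (hP.of_le hPM' le_top) hMM'
  have hP1 : P ≠ ⊥ := fun h => hE.ne_bot (le_bot_iff.1 (h ▸ hAP))
  have hNP : normalizer (P : Set G) = M := coatom_normalizer_eq hG hM hP1 hPM hMP
  exact hpσ (mem_sigma_of_sylIn hG (hP.of_le hPM le_top)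
    (hpA.trans (card_dvd_of_le (hAP.trans hPM))) hNP.le)

omit hG in
theorem isCyclic_of_rank_one_nilpotent {H : Subgroup G} (hodd : Odd (Nat.card H))
    (hn : Group.IsNilpotent H) (hr : RankLE 1 H) : IsCyclic H := by
  haveI := isZGroup_of_rankLE_one hodd hr
  infer_instance

/-- BG 10.11(c) -/
theorem cyclic_cent_sigma_derived {M K : Subgroup G} (hM : IsCoatom M) (hKM : K ≤ M)
    (hK : IsPiSub {p | p ∉ sigma M} K) :
    IsCyclic ↥(K ⊓ centralizer (sigmaCore M : Set G) ⊓ ⁅M, M⁆) := by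
  apply isCyclic_of_rank_one_nilpotent (odd_sub hG _)
  · refine beta'_nilpotent hG hM inf_le_right ?_
    intro p hp hd hβ
    exact hK p hp (hd.trans (card_dvd_of_le (inf_le_left.trans inf_le_left)))
      (alpha_subset_sigma hG hM (beta_subset_alpha M hβ))
  · exact rankLE_mono inf_le_left (rank_cent_sigma hG hM hKM hK)

/-- normal nilpotent `σ(M)'`-subgroups of `M` are cyclic, centralize `M_σ` and are centralized by
`M'`. -/
theorem normal_sigma'_struct {M N : Subgroup G} (hM : IsCoatom M) (hNM : N ≤ M)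
    (hMN : M ≤ normalizer (N : Set G)) (hn : Group.IsNilpotent N)
    (hN : IsPiSub {p | p ∉ sigma M} N) :
    N ≤ centralizer (sigmaCore M : Set G) ∧ IsCyclic N ∧ ⁅M, M⁆ ≤ centralizer (N : Set G) := by
  have h1 : N ≤ centralizer (sigmaCore M : Set G) := by
    have hinf : sigmaCore M ⊓ N = ⊥ :=
      H1.inf_eq_bot_of_card_coprime (coprime_sigma (isPiSub_sigmaCore M) hN)
    intro x hx
    rw [Subgroup.mem_centralizer_iff]
    intro y hy
    have h2 : y * x * y⁻¹ * x⁻¹ ∈ sigmaCore M ⊓ N := by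
      constructor
      · have := (Subgroup.mem_normalizer_iff.1 (le_nz_sigmaCore M (hNM hx)) _).1 (inv_mem hy)
        have h3 := mul_mem hy this
        simpa [mul_assoc] using h3
      · exact N.mul_mem ((Subgroup.mem_normalizer_iff.1 (hMN (sigmaCore_le M hy)) _).1 hx)
          (N.inv_mem hx)
    rw [hinf, Subgroup.mem_bot, mul_inv_eq_one, mul_inv_eq_iff_eq_mul] at h2
    exact h2
  have h2 : IsCyclic N := by
    apply isCyclic_of_rank_one_nilpotent (odd_sub hG _) hn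
    have := rank_cent_sigma hG hM hNM hN
    rwa [inf_eq_left.2 h1] at this
  refine ⟨h1, h2, ?_⟩
  -- automorphism groups of cyclic groups are abelian
  have h3 : ⁅M, M⁆ ≤ centralizer (N : Set G) := by
    rw [Subgroup.commutator_le]
    intro a ha b hb
    rw [Subgroup.mem_centralizer_iff]
    intro x hx
    obtain ⟨g, hg⟩ := h2.exists_generator
    have hcy : ∀ m ∈ M, ∃ n : ℤ, ∀ y ∈ N, m * y * m⁻¹ = y ^ n := by
      intro m hm
      have h4 : m * g * m⁻¹ ∈ N := (Subgroup.mem_normalizer_iff.1 (hMN hm) _).1 g.2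
      obtain ⟨n, hn⟩ := hg ⟨_, h4⟩
      refine ⟨n, fun y hy => ?_⟩
      obtain ⟨k, hk⟩ := hg ⟨y, hy⟩
      have hk' : (g : G) ^ k = y := congrArg Subtype.val hk
      have hn' : (g : G) ^ n = m * g * m⁻¹ := congrArg Subtype.val hn
      rw [← hk', ← conj_zpow, ← hn', ← zpow_mul, ← zpow_mul, mul_comm]
    obtain ⟨n, hn⟩ := hcy a ha
    obtain ⟨k, hk⟩ := hcy b hb
    have hN' : ∀ (j : ℤ) (y : G), y ∈ N → y ^ j ∈ N := fun j y hy => zpow_mem hy j
    -- `a b x b⁻¹ a⁻¹ = b a x a⁻¹ b⁻¹`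
    have e : a * (b * x * b⁻¹) * a⁻¹ = b * (a * x * a⁻¹) * b⁻¹ := by
      rw [hk x hx, hn _ (hN' k x hx), hn x hx, hk _ (hN' n x hx), ← zpow_mul, ← zpow_mul, mul_comm]
    rw [commutatorElement_def]
    -- apply with `x` replaced by `a⁻¹ b⁻¹ x b a`
    have hx' : a⁻¹ * (b⁻¹ * x * b) * a ∈ N := by
      have h5 := (Subgroup.mem_normalizer_iff.1 (hMN (inv_mem hb)) _).1 hx
      have h6 := (Subgroup.mem_normalizer_iff.1 (hMN (inv_mem ha)) _).1 h5
      simpa using h6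
    have e' : a * (b * (a⁻¹ * (b⁻¹ * x * b) * a) * b⁻¹) * a⁻¹ = x := by
      have e2 : a * (b * (a⁻¹ * (b⁻¹ * x * b) * a) * b⁻¹) * a⁻¹ =
          b * (a * (a⁻¹ * (b⁻¹ * x * b) * a) * a⁻¹) * b⁻¹ := by
        rw [hk _ hx', hn _ (hN' k _ hx'), hn _ hx', hk _ (hN' n _ hx'), ← zpow_mul, ← zpow_mul,
          mul_comm]
      rw [e2]; group
    calc x * (a * b * a⁻¹ * b⁻¹) = (a * (b * (a⁻¹ * (b⁻¹ * x * b) * a) * b⁻¹) * a⁻¹) *
        (a * b * a⁻¹ * b⁻¹) := by rw [e']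
      _ = a * b * a⁻¹ * b⁻¹ * x := by group
  exact h3

/-- `M' ∩ C_M(M_σ) ≤ F(M)` -/
theorem cent_derived_le_fitting {M : Subgroup G} (hM : IsCoatom M) :
    ⁅M, M⁆ ⊓ centralizer (sigmaCore M : Set G) ≤ fittingOf M := by
  have h1 : fittingOf M ≤ centralizer
      ((⁅M, M⁆ ⊓ centralizer (sigmaCore M : Set G) : Subgroup G) : Set G) := by
    apply le_of_sylIn_le
    intro q hq hd
    haveI : Fact q.Prime := ⟨hq⟩
    obtain ⟨Q, hQ⟩ := L.exists_sylIn (p := q) (fittingOf M)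
    refine ⟨Q, hQ, ?_⟩
    have hMQ : M ≤ normalizer (Q : Set G) :=
      sylIn_normal (fittingOf_nilpotent M) hQ (le_normalizer_fittingOf M)
    have hQM : Q ≤ M := hQ.le.trans (fittingOf_le M)
    by_cases hqσ : q ∈ sigma M
    · have h2 : Q ≤ sigmaCore M := le_sigmaCore hG hM hQM (isPiSub_of_isPGroup hqσ hQ.isPGroup)
      rw [Subgroup.le_centralizer_iff]
      exact inf_le_right.trans (Subgroup.centralizer_le h2)
    · have h2 := (normal_sigma'_struct hG hM hQM hMQ hQ.isPGroup.isNilpotent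
        (isPiSub_of_isPGroup (π := {p | p ∉ sigma M}) hqσ hQ.isPGroup)).2.2
      rw [Subgroup.le_centralizer_iff]
      exact inf_le_left.trans h2
  refine le_trans (le_inf ((inf_le_left).trans (Subgroup.commutator_le_self M)) ?_)
    (centralizer_fittingOf_le (coatom_sol hG hM))
  rw [Subgroup.le_centralizer_iff]
  exact h1

/-- `p`-subgroups of `M' ∩ C_M(M_σ)`, `p ∉ σ(M)`, are cyclic and normal in `M` -/
theorem normal_of_cent_derived {M X : Subgroup G} (hM : IsCoatom M) {p : ℕ} [hp : Fact p.Prime]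
    (hpσ : p ∉ sigma M) (hX : X ≤ ⁅M, M⁆ ⊓ centralizer (sigmaCore M : Set G))
    (hXp : IsPGroup p X) : M ≤ normalizer (X : Set G) ∧ IsCyclic X := by
  obtain ⟨Q, hQ, hXQ⟩ := L.exists_sylIn_ge hXp (hX.trans (cent_derived_le_fitting hG hM))
  have hMQ : M ≤ normalizer (Q : Set G) :=
    sylIn_normal (fittingOf_nilpotent M) hQ (le_normalizer_fittingOf M)
  obtain ⟨-, hc, -⟩ := normal_sigma'_struct hG hM (hQ.le.trans (fittingOf_le M)) hMQ
    hQ.isPGroup.isNilpotent (isPiSub_of_isPGroup (π := {p | p ∉ sigma M}) hpσ hQ.isPGroup)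
  constructor
  · intro m hm
    refine L.mem_nz_iff.2 ?_
    refine eq_of_card_of_cyclic hc ?_ hXQ (L.card_cj m X)
    rw [← L.mem_nz_iff.1 (hMQ hm)]
    exact L.cj_mono hXQ
  · exact Subgroup.isCyclic_of_le hXQ

/-! ### BG 10.12 -/

/-- BG 10.12(a) -/
theorem conj_of_alpha_sigma {M H : Subgroup G} (hM : IsCoatom M) (hH : IsCoatom H) {p : ℕ}
    (h1 : p ∈ alpha M) (h2 : p ∈ sigma H) : ∃ g : G, cj g M = H := by
  haveI : Fact p.Prime := ⟨h1.1⟩
  obtain ⟨P, hP⟩ := L.exists_sylIn (p := p) M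
  obtain ⟨Q, hQ⟩ := L.exists_sylIn (p := p) H
  have hPt := sigma_sylow_top hG hM (alpha_subset_sigma hG hM h1) hP
  have hQt := sigma_sylow_top hG hH h2 hQ
  obtain ⟨g, -, e⟩ := hPt.exists_conj_eq hQt
  have hu : InUniqueMaximal P := sylow_uniq hG hP.isPGroup
    (fun h => h1.2 ((pRankLE_sylIn hP).1 h))
  refine ⟨g, uniq_eq (uniq_cj hu) hH (e ▸ hQ.le) (coatom_cj hM g) (L.cj_mono hP.le)⟩

/-- BG 10.12(b) -/
theorem conj_of_sigma_sigma {M H : Subgroup G} (hM : IsCoatom M) (hH : IsCoatom H)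
    (hn : Group.IsNilpotent (sigmaCore M)) {p : ℕ}
    (h1 : p ∈ sigma M) (h2 : p ∈ sigma H) : ∃ g : G, cj g M = H := by
  haveI : Fact p.Prime := ⟨h1.1⟩
  obtain ⟨P, hP⟩ := L.exists_sylIn (p := p) M
  obtain ⟨Q, hQ⟩ := L.exists_sylIn (p := p) H
  have hPt := sigma_sylow_top hG hM h1 hP
  have hQt := sigma_sylow_top hG hH h2 hQ
  obtain ⟨g, -, e⟩ := hPt.exists_conj_eq hQt
  have hPσ : SylIn p P (sigmaCore M) := hP.of_le (sigma_sylow_le hG hM h1 hP) (sigmaCore_le M)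
  have h3 : M ≤ normalizer (P : Set G) := sylIn_normal hn hPσ (le_nz_sigmaCore M)
  have h4 : cj g M ≤ H := by
    refine (L.cj_mono h3).trans ?_
    change cj g (nz P) ≤ H
    rw [← L.nz_cj, e]
    exact sigma_nz_le hG h2 hQ
  refine ⟨g, ?_⟩
  by_contra hne
  exact hH.1 ((coatom_cj hM g).2 H (lt_of_le_of_ne h4 hne))

end

end Cfsg.Agent.H12.BG
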