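import Cfsg.Agent.H12.BgC

set_option autoImplicit false
set_option linter.unusedSectionVars false
set_option linter.style.haveILetI false
set_option linter.unusedVariables false

/-! BG 10.13, 10.14 -/

namespace Cfsg.Agent.H12.BG

open Subgroup
open Cfsg.Agent.L (cj nz SylIn)
open Cfsg.Agent.H14 (IsPiSub)
open Cfsg.Agent.OOT
open scoped commutatorElement

universe u

/-- structure of the centralizer of a maximal elementary abelian subgroup of order `p²` in a
`p`-group of rank at least three -/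
theorem narrow_struct {R : Type u} [Group R] [Finite R] (p : ℕ) [hp : Fact p.Prime] (hp2 : p ≠ 2)
    (hR : IsPGroup p R) (hr : ¬ PRankLE p 2 R) (E : Subgroup R) (hE : IsElementaryAbelian p E)
    (hE2 : Nat.card E = p ^ 2)
    (hEmax : ∀ B : Subgroup R, IsElementaryAbelian p B → E ≤ B → B = E) :
    ∃ Y Z : Subgroup R, IsCyclic Y ∧ Y ≤ centralizer (E : Set R) ∧ Z ≤ E ∧ Z ≤ Subgroup.center R ∧
      Nat.card Z = p ∧ Y ⊓ E = Z ∧ centralizer (E : Set R) ≤ E ⊔ Y ∧
      commutator R ≤ centralizer (Y : Set R) ⊔ commutator R ∧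
      ∃ T : Subgroup R, commutator R ≤ T ∧ Z ≤ T ∧ T ⊓ E = Z := by
  obtain ⟨h1, h2, -, h4, h5⟩ := Cfsg.Agent.S1453.result p hp2 hR hr E hE hE2 hEmax
  set T := centralizer ((Subgroup.closure {x : R | x ∈ Subgroup.upperCentralSeries R 2 ∧ x ^ p = 1} :
    Subgroup R) : Set R) with hT
  have hTn : T.Normal := inferInstance
  have hmem : ∀ x ∈ centralizer (E : Set R), x ^ p = 1 → x ∈ E := by
    intro x hx hxp
    have hle : E ≤ centralizer ((zpowers x : Subgroup R) : Set R) := by
      rw [Subgroup.le_centralizer_iff, Subgroup.zpowers_le]; exact hx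
    have := hEmax _ (isEA_sup hE (isEA_zpowers hxp) hle) le_sup_left
    rw [← this]; exact mem_sup_right (Subgroup.mem_zpowers x)
  obtain ⟨x, hxE, hxT⟩ := SetLike.not_le_iff_exists.1 h1
  set Z := Subgroup.closure {x : R | x ∈ Subgroup.center R ∧ x ^ p = 1} with hZ
  have hZc : Z ≤ Subgroup.center R := by
    rw [hZ, Subgroup.closure_le]; exact fun y hy => hy.1
  have hZE : Z ≤ E := by
    rw [hZ, Subgroup.closure_le]
    exact fun y hy => hmem y (Subgroup.center_le_centralizer _ hy.1) hy.2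
  have hZT : Z ≤ T := hZc.trans (Subgroup.center_le_centralizer _)
  have hEC : E ≤ centralizer (E : Set R) := by
    haveI := hE.1
    exact Subgroup.le_centralizer E
  have hlt : E ⊓ T < E := by
    refine lt_of_le_of_ne inf_le_left (fun h => hxT ?_)
    exact (h.symm.le hxE).2
  have hETZ : E ⊓ T = Z := by
    rcases card_eq_prime_or hE2 (inf_le_left : E ⊓ T ≤ E) with h | h | h
    · exfalso
      have : Z ≤ ⊥ := h ▸ le_inf hZE hZT
      rw [le_bot_iff.1 this, Subgroup.card_bot] at h2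
      exact hp.out.one_lt.ne h2
    · exact (L.eq_of_le_of_card_le (le_inf hZE hZT) (by rw [h, h2])).symm
    · exact absurd h hlt.ne
  have htop : T ⊔ zpowers x = ⊤ := by
    have h6 : T.relIndex (T ⊔ zpowers x) * (T ⊔ zpowers x).index = p := by
      rw [Subgroup.relIndex_mul_index le_sup_left, h5]
    have h7 : T.relIndex (T ⊔ zpowers x) ≠ 1 := by
      rw [Ne, Subgroup.relIndex_eq_one]
      intro h
      exact hxT (h (mem_sup_right (Subgroup.mem_zpowers x)))
    have h8 : T.relIndex (T ⊔ zpowers x) = p := by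
      rcases (Nat.dvd_prime hp.out).1 (Dvd.intro _ h6) with h | h
      · exact absurd h h7
      · exact h
    rw [h8] at h6
    have h9 : (T ⊔ zpowers x).index = 1 :=
      Nat.eq_of_mul_eq_mul_left hp.out.pos (by rw [h6, mul_one])
    exact Subgroup.index_eq_one.1 h9
  have hRT : commutator R ≤ T := by
    have : IsCyclic (R ⧸ T) := isCyclic_of_prime_card (p := p) (by
      rw [← Subgroup.index_eq_card, h5])
    rw [_root_.commutator_def, Subgroup.commutator_le]
    intro a _ b _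
    rw [← QuotientGroup.eq_one_iff]
    have h4 : ((⁅a, b⁆ : R) : R ⧸ T) = ⁅(a : R ⧸ T), (b : R ⧸ T)⁆ := rfl
    rw [h4, commutatorElement_eq_one_iff_mul_comm]
    haveI := IsCyclic.commGroup (α := R ⧸ T)
    exact (IsCyclic.isMulCommutative (α := R ⧸ T)).is_comm.comm _ _
  refine ⟨centralizer (E : Set R) ⊓ T, Z, ?_, inf_le_left, hZE, hZc, h2, ?_, ?_, le_sup_right,
    T, hRT, hZT, by rw [inf_comm, hETZ]⟩
  · apply isCyclic_of_pRankLE_one hp2 (hR.to_subgroup _)
    by_contra hr1
    obtain ⟨B, hB, hBEA, hBc⟩ := exists_ea_of_not_pRankLE hr1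
    have hBZ : B ≤ E ⊓ T := fun b hb => ⟨hmem b (hB hb).1 (hBEA.2 b hb), (hB hb).2⟩
    have h3 := L.card_lt_of_lt hlt
    have h4 := L.card_le_of_le hBZ
    rw [hBc] at h4
    rw [hE2] at h3
    exact absurd (lt_of_le_of_lt h4 h3) (lt_irrefl _)
  · rw [← hETZ]
    ext y
    constructor
    · rintro ⟨⟨h1, h2⟩, h3⟩; exact ⟨h3, h2⟩
    · rintro ⟨h1, h2⟩; exact ⟨⟨hEC h1, h2⟩, h1⟩
  · intro c hc
    obtain ⟨t, ht, y, hy, rfl⟩ := Subgroup.mem_sup_of_normal_left.1 (htop ▸ Subgroup.mem_top c :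
      c ∈ T ⊔ zpowers x)
    have hyE : y ∈ E := (Subgroup.zpowers_le.2 hxE) hy
    have htc : t ∈ centralizer (E : Set R) := by
      have := mul_mem hc (inv_mem (hEC hyE))
      rwa [mul_inv_cancel_right] at this
    exact mul_mem (mem_sup_right ⟨htc, ht⟩) (mem_sup_left hyE)

variable {G : Type u} [Group G] [Finite G]

theorem E2s.subgroupOf {p : ℕ} {A S : Subgroup G} (hA : E2s p A) (hAS : A ≤ S) :
    IsElementaryAbelian p (A.subgroupOf S) ∧ Nat.card (A.subgroupOf S) = p ^ 2 ∧
      ∀ B : Subgroup S, IsElementaryAbelian p B → A.subgroupOf S ≤ B → B = A.subgroupOf S := by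
  refine ⟨H10.elab_subgroupOf hA.ea _, by rw [H1.card_subgroupOf hAS, hA.card], fun B hB hAB => ?_⟩
  have h1 : A ≤ B.map S.subtype := by
    rw [← Subgroup.map_subgroupOf_eq_of_le hAS]
    exact Subgroup.map_mono hAB
  have h2 := hA.max (B.map S.subtype) (H10.elab_map _ hB) h1
  rw [← h2, Subgroup.subgroupOf, Subgroup.comap_map_eq_self_of_injective (Subgroup.subtype_injective _)]

theorem isMulCommutative_iff' {P : Subgroup G} :
    IsMulCommutative P ↔ ∀ a ∈ P, ∀ b ∈ P, a * b = b * a := by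
  constructor
  · intro h a ha b hb
    exact congrArg Subtype.val (h.is_comm.comm (⟨a, ha⟩ : P) ⟨b, hb⟩)
  · intro h
    exact ⟨⟨fun a b => Subtype.ext (h a a.2 b b.2)⟩⟩

theorem isMulCommutative_iff_le {P : Subgroup G} :
    IsMulCommutative P ↔ P ≤ centralizer (P : Set G) := by
  rw [isMulCommutative_iff']
  constructor
  · intro h a ha
    rw [Subgroup.mem_centralizer_iff]
    exact fun b hb => h b hb a ha
  · intro h a ha b hb
    exact (Subgroup.mem_centralizer_iff.1 (h ha) b hb).symm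

theorem isMulCommutative_mono {P Q : Subgroup G} (h : P ≤ Q) (hQ : IsMulCommutative Q) :
    IsMulCommutative P := by
  rw [isMulCommutative_iff'] at hQ ⊢
  exact fun a ha b hb => hQ a (h ha) b (h hb)

theorem card_dvd_prime_of_cyclic {p : ℕ} {C : Subgroup G} (hC : IsCyclic C)
    (h : ∀ x ∈ C, x ^ p = 1) : Nat.card C ∣ p := by
  obtain ⟨g, hg⟩ := hC.exists_ofOrder_eq_natCard
  rw [← hg]
  exact orderOf_dvd_of_pow_eq_one (Subtype.ext (h g g.2))

variable (hG : IsMinSimpleOddOrder G) {p : ℕ} [hp : Fact p.Prime]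
include hG

/-- the structure of `C_S(A)`, `S` a nonabelian Sylow `p`-subgroup of `G`, `A ∈ ℰ²(G) ∩ ℰ*(G)` -/
theorem E2s.sylow_struct {A S : Subgroup G} (hA : E2s p A) (hS : SylIn p S ⊤) (hAS : A ≤ S)
    (hna : ¬ IsMulCommutative S) :
    ∃ Y Z : Subgroup G, IsCyclic Y ∧ Y ≤ S ∧ Y ≤ centralizer (A : Set G) ∧ Z ≤ A ∧
      S ≤ centralizer (Z : Set G) ∧ Nat.card Z = p ∧ Y ⊓ A = Z ∧
      S ⊓ centralizer (A : Set G) ≤ A ⊔ Y ∧ ⁅S, S⁆ ⊓ A ≤ Z := by
  have hpA : p ∣ Nat.card A := hA.card ▸ dvd_pow_self p two_ne_zero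
  have hp2 : p ≠ 2 := prime_ne_two hG hpA
  by_cases hr : PRankLE p 2 S
  · rcases sylow_rank_two hG hS hr with h | ⟨P₁, P₂, h1, h2, h3, h4, h5, h6, h7⟩
    · exact absurd h hna
    have hP₁S : P₁ ≤ S := h1 ▸ le_sup_left
    have hP₂S : P₂ ≤ S := h1 ▸ le_sup_right
    have hexp : ∀ x ∈ P₁, x ^ p = 1 := by
      intro x hx
      have : (⟨x, hx⟩ : P₁) ^ Monoid.exponent P₁ = 1 := Monoid.pow_exponent_eq_one _
      rw [h5] at this
      exact congrArg Subtype.val this
    have hP₂C : P₂ ≤ centralizer (P₁ : Set G) := by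
      intro b hb
      rw [Subgroup.mem_centralizer_iff]
      exact fun a ha => h2 a ha b hb
    have hcenter := center_eq_commutator_of_card_cube h4 h3
    set Z := P₁ ⊓ centralizer (P₁ : Set G) with hZ
    have hZP₂ : Z ≤ P₂ := by
      rw [← h7, Subgroup.closure_le]; exact fun x hx => hx.1
    have hZmem : ∀ x ∈ P₂, x ^ p = 1 → x ∈ Z := by
      intro x hx hxp
      rw [← h7]; exact Subgroup.subset_closure ⟨hx, hxp⟩
    have hP₁p : IsPGroup p P₁ := IsPGroup.of_card h4
    have hP₁ne : P₁ ≠ ⊥ := by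
      rintro rfl
      rw [Subgroup.card_bot] at h4
      have := Nat.one_lt_pow (n := 3) (by norm_num) hp.out.one_lt
      omega
    have hZc : Nat.card Z = p := by
      have hd := card_dvd_prime_of_cyclic (p := p) (Subgroup.isCyclic_of_le hZP₂)
        (fun x hx => hexp x hx.1)
      rcases (Nat.dvd_prime hp.out).1 hd with h | h
      · exfalso
        apply omZ_ne_bot hP₁p hP₁ne
        rw [eq_bot_iff, ← Subgroup.card_eq_one.1 h]
        exact fun x hx => ⟨omZ_le _ _ hx, omZ_le_centralizer _ _ hx⟩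
      · exact h
    have hdec : ∀ s ∈ S, ∃ x ∈ P₁, ∃ y ∈ P₂, x * y = s := by
      intro s hs
      rw [← h1] at hs
      exact (H1.mem_sup_iff_of_le_normalizer (hP₂C.trans (centralizer_le_normalizer _))).1 hs
    have hAP₁ : A ≤ P₁ := by
      intro a ha
      obtain ⟨x, hx, y, hy, rfl⟩ := hdec a (hAS ha)
      have hc : Commute x y := h2 x hx y hy
      have h8 := hA.ea.2 _ ha
      rw [hc.mul_pow, hexp x hx, one_mul] at h8
      exact mul_mem hx (hZmem y hy h8).1
    have hCA : P₁ ⊓ centralizer (A : Set G) = A := by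
      have hle : A ≤ P₁ ⊓ centralizer (A : Set G) := le_inf hAP₁ hA.le_cent
      obtain ⟨k, hk, hk2⟩ := (Nat.dvd_prime_pow hp.out).1 (h4 ▸ card_dvd_of_le
        (inf_le_left : P₁ ⊓ centralizer (A : Set G) ≤ P₁))
      have hk3 : k ≠ 3 := by
        rintro rfl
        have h8 : P₁ ⊓ centralizer (A : Set G) = P₁ :=
          L.eq_of_le_of_card_le inf_le_left (by rw [hk2, h4])
        have h9 : A ≤ Z := le_inf hAP₁ (Subgroup.le_centralizer_iff.1 (inf_eq_left.1 h8))
        have := L.card_le_of_le h9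
        rw [hA.card, hZc] at this
        have := hp.out.one_lt
        nlinarith
      refine (L.eq_of_le_of_card_le hle ?_).symm
      rw [hk2, hA.card]
      exact Nat.pow_le_pow_right hp.out.pos (by omega)
    refine ⟨P₂, Z, h6, hP₂S, ?_, ?_, ?_, hZc, ?_, ?_, ?_⟩
    · exact hP₂C.trans (Subgroup.centralizer_le hAP₁)
    · intro z hz
      exact hA.mem (Subgroup.centralizer_le hAP₁ hz.2) (hexp z hz.1)
    · rw [← h1]
      refine sup_le ?_ ?_
      · rw [Subgroup.le_centralizer_iff]; exact inf_le_right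
      · exact hP₂C.trans (Subgroup.centralizer_le inf_le_left)
    · apply le_antisymm
      · rintro x ⟨hx1, hx2⟩
        exact hZmem x hx1 (hA.ea.2 x hx2)
      · exact le_inf hZP₂ (fun z hz => hA.mem (Subgroup.centralizer_le hAP₁ hz.2) (hexp z hz.1))
    · rintro s ⟨hs, hsC⟩
      obtain ⟨x, hx, y, hy, rfl⟩ := hdec s hs
      have hyC : y ∈ centralizer (A : Set G) := hP₂C.trans (Subgroup.centralizer_le hAP₁) hy
      have hxC : x ∈ centralizer (A : Set G) := by
        have := (centralizer (A : Set G)).mul_mem hsC ((centralizer (A : Set G)).inv_mem hyC)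
        rwa [mul_inv_cancel_right] at this
      have : x ∈ A := by rw [← hCA]; exact ⟨hx, hxC⟩
      exact mul_mem (mem_sup_left this) (mem_sup_right hy)
    · refine le_trans inf_le_left ?_
      rw [hcenter, Subgroup.commutator_le]
      intro s hs t ht
      obtain ⟨x, hx, y, hy, rfl⟩ := hdec s hs
      obtain ⟨x', hx', y', hy', rfl⟩ := hdec t ht
      have c1 : x' * y = y * x' := h2 x' hx' y hy
      have c2 : x * y' = y' * x := h2 x hx y' hy'
      have c3 : x * y = y * x := h2 x hx y hy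
      have c4 : x' * y' = y' * x' := h2 x' hx' y' hy'
      have c5 : y * y' = y' * y := by
        haveI := h6
        have : IsMulCommutative P₂ := inferInstance
        exact isMulCommutative_iff'.1 this y hy y' hy'
      have e : ⁅x * y, x' * y'⁆ = ⁅x, x'⁆ := by
        rw [commutatorElement_def, commutatorElement_def, mul_inv_rev, mul_inv_rev]
        calc x * y * (x' * y') * (y⁻¹ * x⁻¹) * (y'⁻¹ * x'⁻¹)
            = x * (y * x') * y' * y⁻¹ * x⁻¹ * y'⁻¹ * x'⁻¹ := by group
          _ = x * (x' * y) * y' * y⁻¹ * x⁻¹ * y'⁻¹ * x'⁻¹ := by rw [c1]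
          _ = x * x' * (y * y') * y⁻¹ * x⁻¹ * y'⁻¹ * x'⁻¹ := by group
          _ = x * x' * (y' * y) * y⁻¹ * x⁻¹ * y'⁻¹ * x'⁻¹ := by rw [c5]
          _ = x * x' * (y' * x⁻¹) * y'⁻¹ * x'⁻¹ := by group
          _ = x * x' * (x⁻¹ * y') * y'⁻¹ * x'⁻¹ := by
            have : y' * x⁻¹ = x⁻¹ * y' := by
              rw [mul_inv_eq_iff_eq_mul, mul_assoc, ← c2]; group
            rw [this]
          _ = x * x' * x⁻¹ * x'⁻¹ := by group
      rw [e]
      exact Subgroup.commutator_mem_commutator hx hx'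
  · obtain ⟨hE, hE2, hEmax⟩ := hA.subgroupOf hAS
    obtain ⟨Y, Z, h1, h2, h3, h4, h5, h6, h7, -, T, h8, h9, h10⟩ := narrow_struct p hp2 hS.isPGroup hr
      (A.subgroupOf S) hE hE2 hEmax
    have hmA : (A.subgroupOf S).map S.subtype = A := Subgroup.map_subgroupOf_eq_of_le hAS
    have hYC : Y.map S.subtype ≤ centralizer (A : Set G) := by
      rintro _ ⟨y, hy, rfl⟩
      rw [Subgroup.mem_centralizer_iff]
      intro a ha
      exact congrArg Subtype.val (Subgroup.mem_centralizer_iff.1 (h2 hy) ⟨a, hAS ha⟩ ha)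
    refine ⟨Y.map S.subtype, Z.map S.subtype, ?_, Subgroup.map_subtype_le Y, hYC, ?_, ?_, ?_, ?_,
      ?_, ?_⟩
    · exact (Y.equivMapOfInjective S.subtype S.subtype_injective).isCyclic.1 h1
    · rw [← hmA]; exact Subgroup.map_mono h3
    · intro s hs
      rw [Subgroup.mem_centralizer_iff]
      rintro _ ⟨z, hz, rfl⟩
      exact (congrArg Subtype.val (Subgroup.mem_center_iff.1 (h4 hz) ⟨s, hs⟩)).symm
    · rw [H1.card_map_subtype, h5]
    · rw [← hmA, ← Subgroup.map_inf _ _ _ S.subtype_injective, h6]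
    · rintro s ⟨hs, hsC⟩
      have h11 : (⟨s, hs⟩ : S) ∈ centralizer (A.subgroupOf S : Set S) := by
        rw [Subgroup.mem_centralizer_iff]
        intro a ha
        exact Subtype.ext (Subgroup.mem_centralizer_iff.1 hsC a ha)
      have h12 := h7 h11
      have h13 : s ∈ (A.subgroupOf S ⊔ Y).map S.subtype := ⟨⟨s, hs⟩, h12, rfl⟩
      rwa [Subgroup.map_sup, hmA] at h13
    · rw [← map_commutator_subtype, ← hmA, ← Subgroup.map_inf _ _ _ S.subtype_injective]
      apply Subgroup.map_mono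
      rw [← h10]
      exact inf_le_inf_right _ h8

/-- a nontrivial normal subgroup of a `p`-group contains a central subgroup of order `p` -/
theorem exists_central_in_normal {P N : Subgroup G} (hP : IsPGroup p P) (hN : N ≤ P)
    (hn : P ≤ normalizer (N : Set G)) (h1 : N ≠ ⊥) : ∃ x ∈ N, x ∈ omZ p P ∧ x ≠ 1 := by
  have h2 : (N.subgroupOf P).Normal := (Subgroup.normal_subgroupOf_iff_le_normalizer hN).2 hn
  have h3 : N.subgroupOf P ≠ ⊥ := by
    intro h
    rw [Subgroup.subgroupOf_eq_bot, disjoint_iff, inf_eq_left.2 hN] at h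
    exact h1 h
  have h4 := H23.inf_center_ne_bot hP h3
  have h5 : p ∣ Nat.card (N.subgroupOf P ⊓ Subgroup.center P : Subgroup P) :=
    dvd_card_of_ne_bot (hP.to_subgroup _) h4
  obtain ⟨X, hX, hXc⟩ := exists_order_p h5
  obtain ⟨x, hx, hx1⟩ := exists_mem_ne_one (ne_bot_of_card hXc)
  refine ⟨x, (hX hx).1, ⟨⟨x.2, ?_⟩, ?_⟩, fun h => hx1 (Subtype.ext h)⟩
  · rw [Subgroup.mem_centralizer_iff]
    intro y hy
    exact congrArg Subtype.val (Subgroup.mem_center_iff.1 (hX hx).2 ⟨y, hy⟩)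
  · exact congrArg Subtype.val ((isEA_of_card_eq hXc).2 x hx)

/-- BG 10.13 -/
theorem E2s.struct {A P : Subgroup G} (hA : E2s p A) (hP : IsPGroup p P) (hAP : A ≤ P)
    (hna : ¬ IsMulCommutative P) :
    Nat.card (omZ p P) = p ∧ omZ p P ≤ A ∧ omZ p P ≤ ⁅P, P⁆ ∧
      (∃ Y : Subgroup G, IsCyclic Y ∧ Y ≤ P ⊓ centralizer (A : Set G) ∧ omZ p P ≤ Y ∧
        Y ⊓ A = omZ p P ∧
        ∀ A₀ : Subgroup G, A₀ ≤ A → Nat.card A₀ = p → A₀ ≠ omZ p P →
          A₀ ⊓ Y = ⊥ ∧ A₀ ⊔ Y = P ⊓ centralizer (A : Set G)) ∧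
      ∀ A₀ A₁ : Subgroup G, A₀ ≤ A → Nat.card A₀ = p → A₀ ≠ omZ p P →
        A₁ ≤ A → Nat.card A₁ = p → A₁ ≠ omZ p P → ∃ x ∈ P ⊓ normalizer (A : Set G), cj x A₀ = A₁ := by
  obtain ⟨S, hS, hPS⟩ := L.exists_sylIn_ge (p := p) hP (le_top : P ≤ ⊤)
  have hSna : ¬ IsMulCommutative S := fun h => hna (isMulCommutative_mono hPS h)
  obtain ⟨Y, Z, h1, h2, h3, h4, h5, h6, h7, h8, h9⟩ := hA.sylow_struct hG hS (hAP.trans hPS) hSna
  have hA' := hA.le_cent
  set C := P ⊓ centralizer (A : Set G) with hC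
  have hAC : A ≤ C := le_inf hAP hA'
  -- decomposition of `C`
  have hYn : Y ≤ normalizer (A : Set G) := h3.trans (centralizer_le_normalizer _)
  have hCdec : C = A ⊔ (P ⊓ Y) := by
    apply le_antisymm
    · rintro c ⟨hc1, hc2⟩
      obtain ⟨a, ha, y, hy, rfl⟩ := (H1.mem_sup_iff_of_le_normalizer hYn).1 (h8 ⟨hPS hc1, hc2⟩)
      have hyP : y ∈ P := by
        have := mul_mem (inv_mem (hAP ha)) hc1
        rwa [inv_mul_cancel_left] at this
      exact mul_mem (mem_sup_left ha) (mem_sup_right ⟨hyP, hy⟩)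
    · exact sup_le hAC (inf_le_inf_left _ h3)
  have hYcomm : IsMulCommutative Y := by haveI := h1; infer_instance
  have hCcomm : IsMulCommutative C := by
    rw [isMulCommutative_iff_le]
    have h10 : A ⊔ (P ⊓ Y) ≤ centralizer ((A ⊔ (P ⊓ Y) : Subgroup G) : Set G) := by
      refine sup_le ?_ ?_
      · rw [Subgroup.le_centralizer_iff]
        exact sup_le hA' (inf_le_right.trans h3)
      · rw [Subgroup.le_centralizer_iff]
        refine sup_le ?_ ?_
        · rw [Subgroup.le_centralizer_iff]; exact inf_le_right.trans h3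
        · exact isMulCommutative_iff_le.1 (isMulCommutative_mono inf_le_right hYcomm)
    rwa [← hCdec] at h10
  have hCP : C < P := by
    refine lt_of_le_of_ne inf_le_left (fun h => hna ?_)
    rw [← h]; exact hCcomm
  have hZP : Z ≤ P := h4.trans hAP
  have hZom : Z ≤ omZ p P := by
    intro z hz
    refine ⟨⟨hZP hz, ?_⟩, hA.ea.2 z (h4 hz)⟩
    exact Subgroup.centralizer_le hPS (Subgroup.le_centralizer_iff.1 h5 hz)
  have homA : omZ p P ≤ A := hA.le_of_cent
    ((omZ_le_centralizer p P).trans (Subgroup.centralizer_le hAP)) (isEA_omZ p P)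
  have hom : omZ p P = Z := by
    rcases card_eq_prime_or hA.card homA with h | h | h
    · exfalso
      have : Z = ⊥ := le_bot_iff.1 (h ▸ hZom)
      exact ne_bot_of_card h6 this
    · exact (L.eq_of_le_of_card_le hZom (by rw [h, h6])).symm
    · exfalso
      apply hCP.not_ge
      refine le_inf le_rfl ?_
      rw [Subgroup.le_centralizer_iff]
      calc A = omZ p P := h.symm
        _ ≤ _ := omZ_le_centralizer p P
  rw [hom]
  have hPP : P ≤ normalizer ((⁅P, P⁆ : Subgroup G) : Set G) := by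
    intro x hx
    refine L.mem_nz_iff.2 ?_
    rw [L.cj_commutator, L.cj_eq_self_of_mem hx]
  refine ⟨h6, h4, ?_, ⟨P ⊓ Y, ?_, ?_, ?_, ?_, ?_⟩, ?_⟩
  · -- `Z ≤ P'`
    have hne : ⁅P, P⁆ ≠ ⊥ := by
      intro h
      rw [Subgroup.commutator_eq_bot_iff_le_centralizer] at h
      exact hna (isMulCommutative_iff_le.2 h)
    obtain ⟨x, hx, hxo, hx1⟩ := exists_central_in_normal hG hP (Subgroup.commutator_le_self P) hPP hne
    rw [hom] at hxo
    haveI : Fact (Nat.card Z).Prime := ⟨h6 ▸ hp.out⟩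
    rw [← eq_zpowers_of_prime (R := Z) (h6 ▸ hp.out) hxo hx1, Subgroup.zpowers_le]
    exact hx
  · exact Subgroup.isCyclic_of_le (inf_le_right : P ⊓ Y ≤ Y)
  · exact inf_le_inf_left _ h3
  · exact le_inf hZP (h7 ▸ inf_le_left)
  · apply le_antisymm
    · rw [← h7]; exact inf_le_inf_right _ inf_le_right
    · exact le_inf (le_inf hZP (h7 ▸ inf_le_left)) h4
  · intro A₀ hA₀ hA₀c hne
    constructor
    · rw [eq_bot_iff, ← inf_eq_bot_of_card_prime hA₀c h6 hne]
      refine le_inf inf_le_left ?_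
      rw [← h7]
      exact le_inf (inf_le_right.trans inf_le_right) (inf_le_left.trans hA₀)
    · rw [hCdec]
      apply le_antisymm
      · exact sup_le_sup_right hA₀ _
      · refine sup_le ?_ le_sup_right
        rw [← sup_eq_of_card hA.card hA₀ h4 hA₀c h6 hne]
        exact sup_le_sup_left (le_inf hZP (h7 ▸ inf_le_left)) _
  · -- transitivity
    have h10 := L.lt_inf_nz hP hCP
    obtain ⟨x, hx, hxC⟩ := SetLike.exists_of_lt h10
    have hxA : x ∈ normalizer (A : Set G) := by
      refine L.mem_nz_iff.2 ?_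
      have hle : cj x A ≤ A := by
        refine L.cj_le_of_forall fun a ha => ?_
        have h11 : x * a * x⁻¹ ∈ C := (Subgroup.mem_normalizer_iff.1 hx.2 _).1 (hAC ha)
        refine hA.mem h11.2 ?_
        rw [conj_pow, hA.ea.2 a ha]; group
      exact L.eq_of_le_of_card_le hle (by rw [L.card_cj])
    have hxZ : ∀ z ∈ Z, x * z = z * x := fun z hz =>
      (Subgroup.mem_centralizer_iff.1 (h5 (hPS hx.1)) z hz).symm
    -- every commutator lies in `Z`
    have hxp : IsPGroup p (zpowers x) := hP.to_le (Subgroup.zpowers_le.2 hx.1)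
    have hDlt := H23.commutator_lt_of_isPGroup (P := A) (B := zpowers x) hA.isPGroup hxp
      (Subgroup.zpowers_le.2 hxA) hA.ne_bot
    set D := ⁅A, zpowers x⁆ with hD
    have hDZ : D ≤ Z := by
      rcases card_eq_prime_or hA.card hDlt.le with h | h | h
      · rw [h]; exact bot_le
      · by_contra hDZ
        have hne : D ≠ Z := fun e => hDZ e.le
        have hxD : zpowers x ≤ normalizer (D : Set G) := H1.right_le_normalizer_commutator _ _
        have h12 := H23.commutator_lt_of_isPGroup (P := D) (B := zpowers x)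
          (isPGroup_of_card_eq h) hxp hxD (ne_bot_of_card h)
        have h13 : ⁅D, zpowers x⁆ = ⊥ := by
          have hd : Nat.card (⁅D, zpowers x⁆ : Subgroup G) ∣ p := h ▸ card_dvd_of_le h12.le
          rcases (Nat.dvd_prime hp.out).1 hd with h' | h'
          · exact Subgroup.card_eq_one.1 h'
          · exact absurd (L.eq_of_le_of_card_le h12.le (by rw [h, h'])) h12.ne
        rw [Subgroup.commutator_eq_bot_iff_le_centralizer] at h13
        have h14 : A ≤ centralizer ((zpowers x : Subgroup G) : Set G) := by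
          rw [← sup_eq_of_card hA.card hDlt.le h4 h h6 hne]
          refine sup_le h13 ?_
          rw [Subgroup.le_centralizer_iff, Subgroup.zpowers_le]
          exact h5 (hPS hx.1)
        apply hxC
        refine ⟨hx.1, ?_⟩
        rw [Subgroup.le_centralizer_iff, Subgroup.zpowers_le] at h14
        exact h14
      · exact absurd h hDlt.ne
    have key : ∀ a ∈ A, a ∉ Z → ∃ z ∈ Z, z ≠ 1 ∧ x * a * x⁻¹ = z * a := by
      intro a ha haZ
      have h15 : ⁅a, x⁆ ∈ Z := hDZ (Subgroup.commutator_mem_commutator ha (Subgroup.mem_zpowers x))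
      refine ⟨⁅a, x⁆⁻¹, inv_mem h15, ?_, ?_⟩
      · intro h
        rw [inv_eq_one, commutatorElement_eq_one_iff_mul_comm] at h
        -- then `x` centralizes `⟨a⟩ Z = A`
        apply hxC
        refine ⟨hx.1, ?_⟩
        have hac := card_zpowers_eq_prime (hA.ea.2 a ha) (fun h' => haZ (h' ▸ one_mem Z))
        have hne : zpowers a ≠ Z := fun e => haZ (e ▸ Subgroup.mem_zpowers a)
        rw [← sup_eq_of_card hA.card (Subgroup.zpowers_le.2 ha) h4 hac h6 hne]
        have h16 : zpowers a ⊔ Z ≤ centralizer ((zpowers x : Subgroup G) : Set G) := by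
          refine sup_le ?_ ?_
          · rw [centralizer_zpowers, Subgroup.zpowers_le, Subgroup.mem_centralizer_iff]
            rintro _ rfl
            exact h.symm
          · rw [Subgroup.le_centralizer_iff, Subgroup.zpowers_le]
            exact h5 (hPS hx.1)
        rw [Subgroup.le_centralizer_iff, Subgroup.zpowers_le] at h16
        exact h16
      · rw [commutatorElement_def]; group
    have hxi : ∀ (a z : G), z ∈ Z → x * a * x⁻¹ = z * a → ∀ i : ℕ,
        x ^ i * a * (x ^ i)⁻¹ = z ^ i * a := by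
      intro a z hz h i
      induction i with
      | zero => simp
      | succ i ih =>
        have e1 : x ^ (i + 1) * a * (x ^ (i + 1))⁻¹ = x * (x ^ i * a * (x ^ i)⁻¹) * x⁻¹ := by
          rw [pow_succ']; group
        rw [e1, ih]
        have e2 : x * z ^ i = z ^ i * x := by
          have : Commute x z := hxZ z hz
          exact this.pow_right i
        calc x * (z ^ i * a) * x⁻¹ = (x * z ^ i) * a * x⁻¹ := by group
          _ = z ^ i * (x * a * x⁻¹) := by rw [e2]; group
          _ = z ^ i * (z * a) := by rw [h]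
          _ = z ^ (i + 1) * a := by rw [pow_succ]; group
    intro A₀ A₁ hA₀ hA₀c hA₀ne hA₁ hA₁c hA₁ne
    -- a generator `b` of `A₁`, `b = z' a'`
    obtain ⟨b, hb, hb1⟩ := exists_mem_ne_one (ne_bot_of_card hA₁c)
    have hA₁eq := eq_zpowers_of_prime (R := A₁) (hA₁c ▸ hp.out) hb hb1
    have hbA : b ∈ Z ⊔ A₀ := by
      rw [sup_comm, sup_eq_of_card hA.card hA₀ h4 hA₀c h6 hA₀ne]; exact hA₁ hb
    have hZn : A₀ ≤ normalizer (Z : Set G) :=
      (hA₀.trans (hA'.trans (Subgroup.centralizer_le h4))).trans (centralizer_le_normalizer _)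
    obtain ⟨z', hz', a', ha', rfl⟩ := (H1.mem_sup_iff_of_le_normalizer hZn).1 hbA
    have hbZ : z' * a' ∉ Z := by
      intro h
      apply hA₁ne
      apply L.eq_of_le_of_card_le
      · rw [← hA₁eq, Subgroup.zpowers_le]; exact h
      · rw [hA₁c, h6]
    have ha'Z : a' ∉ Z := fun h => hbZ (mul_mem hz' h)
    have hA₀eq := eq_zpowers_of_prime (R := A₀) (hA₀c ▸ hp.out) ha' (fun h => ha'Z (h ▸ one_mem Z))
    obtain ⟨z, hz, hz1, hxa⟩ := key a' (hA₀ ha') ha'Z
    have hZeq := eq_zpowers_of_prime (R := Z) (h6 ▸ hp.out) hz hz1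
    obtain ⟨i, hi⟩ : ∃ i : ℕ, z ^ i = z' := by
      have : z' ∈ zpowers z := hZeq ▸ hz'
      rw [← mem_powers_iff_mem_zpowers] at this
      obtain ⟨i, hi⟩ := this
      exact ⟨i, hi⟩
    refine ⟨x ^ i, pow_mem (⟨hx.1, hxA⟩ : x ∈ P ⊓ normalizer (A : Set G)) i, ?_⟩
    have h17 := hxi a' z hz hxa i
    rw [hi] at h17
    rw [← hA₁eq, ← hA₀eq, ← h17]
    exact (MonoidHom.map_zpowers _ _)

/-! ### BG 10.14 -/

omit hp in
theorem ideal_ne_two (hi : IsIdealPrime p G) : p ≠ 2 := by
  haveI : Fact p.Prime := ⟨hi.1⟩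
  rintro rfl
  apply hi.2.1
  intro A hA hA2
  have h1 : IsPGroup 2 A := fun a => ⟨1, by rw [pow_one]; exact Subtype.ext (hA2 a a.2)⟩
  by_cases h : A = ⊥
  · rw [h, Subgroup.card_bot]; norm_num
  · exact absurd rfl (prime_ne_two hG (dvd_card_of_ne_bot h1 h))

/-- BG 10.14(b) -/
theorem ideal_uniq (hi : IsIdealPrime p G) {R : Subgroup G} (hR : IsPGroup p R)
    (hnc : ¬ IsCyclic R) : InUniqueMaximal R := by
  have hr : ¬ PRankLE p 1 R := fun h => hnc (isCyclic_of_pRankLE_one (ideal_ne_two hG hi) hR h)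
  obtain ⟨A, hAR, hAe, hAc⟩ := exists_ea_of_not_pRankLE hr
  suffices h : InUniqueMaximal A from uniq_mono h hAR (pgroup_ne_top hG hR)
  by_contra h
  have hE := E2s.of_not_uniq hG hAe hAc h
  obtain ⟨P, hP⟩ := (isEA_isPGroup hAe).exists_le_sylow
  obtain ⟨B, hBP, hB, hAB⟩ := hi.2.2 P A hP hAe hAc
  exact hAB.ne (hE.max B hB hAB.le).symm

omit hG in
theorem pRankLE_of_sylow_top {k : ℕ} {P : Subgroup G} (hP : SylIn p P ⊤) (h : PRankLE p k P) :
    PRankLE p k G := by
  have h1 := (pRankLE_sylIn hP).1 h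
  exact H10.pRankLE_of_injective (Subgroup.topEquiv (G := G)).symm.toMonoidHom
    (Subgroup.topEquiv (G := G)).symm.injective h1

/-- BG 10.14(c) -/
theorem ideal_subnorm_uniq (hi : IsIdealPrime p G) {P X : Subgroup G} (hP : SylIn p P ⊤)
    (hX : X ≤ P) : InUniqueMaximal (P ⊓ normalizer (X : Set G)) := by
  apply ideal_uniq hG hi (hP.isPGroup.to_le inf_le_left)
  intro hc
  set N := P ⊓ normalizer (X : Set G) with hN
  have hXN : X ≤ N := le_inf hX le_normalizer
  have hNP : N = P := by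
    by_contra hne
    have h1 := L.lt_inf_nz hP.isPGroup (lt_of_le_of_ne inf_le_left hne : N < P)
    apply h1.not_ge
    refine le_inf inf_le_left ?_
    rintro g ⟨hgP, hgN⟩
    refine L.mem_nz_iff.2 ?_
    refine eq_of_card_of_cyclic hc ?_ hXN (L.card_cj g X)
    rw [← L.mem_nz_iff.1 hgN]
    exact L.cj_mono hXN
  rw [hNP] at hc
  apply hi.2.1
  apply pRankLE_of_sylow_top hP
  intro A hA hA2
  have h3 : Nat.card A ∣ p := by
    have hcA : IsCyclic (A.map P.subtype) := Subgroup.isCyclic_of_le (Subgroup.map_subtype_le A)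
    have := card_dvd_prime_of_cyclic (p := p) hcA (by
      rintro _ ⟨a, ha, rfl⟩
      exact congrArg Subtype.val (hA2 a ha))
    rwa [H1.card_map_subtype] at this
  exact (Nat.le_of_dvd hp.out.pos h3).trans (by
    have := hp.out.one_lt
    nlinarith)

omit hp in
/-- BG 10.14(d) -/
theorem beta_nz_le {M Y : Subgroup G} (hM : IsCoatom M) (hYM : Y ≤ M) (hY1 : Y ≠ ⊥)
    (hYβ : IsPiSub (beta M) Y) : normalizer (Y : Set G) ≤ M := by
  haveI : Nontrivial Y := (Subgroup.nontrivial_iff_ne_bot Y).2 hY1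
  obtain ⟨p, A, hp, hAc, hA1, -, hAp⟩ := H1.exists_pgroup_characteristic_of_solvable Y
    (H1.isSolvable_of_le hYM (coatom_sol hG hM))
  haveI : Fact p.Prime := ⟨hp⟩
  haveI := hAc
  set X := A.map Y.subtype with hX
  have hXY : X ≤ Y := Subgroup.map_subtype_le A
  have hX1 : X ≠ ⊥ := by
    intro h
    apply hA1
    rw [← Subgroup.card_eq_one, ← H1.card_map_subtype A]
    rw [← hX, h, Subgroup.card_bot]
  have hXp : IsPGroup p X := hAp.map _
  have hpβ : p ∈ beta M := hYβ p hp ((dvd_card_of_ne_bot hXp hX1).trans (card_dvd_of_le hXY))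
  obtain ⟨P, hP, hXP⟩ := L.exists_sylIn_ge hXp (hXY.trans hYM)
  have hPt := sigma_sylow_top hG hM (alpha_subset_sigma hG hM (beta_subset_alpha M hpβ)) hP
  have hu := ideal_subnorm_uniq hG hpβ.2 hPt hXP
  have h1 : normalizer (X : Set G) ≤ M :=
    uniq_le hu hM (inf_le_left.trans hP.le) inf_le_right
      (normalizer_ne_top hG hX1 (pgroup_ne_top hG hXp))
  exact (H23.normalizer_le_normalizer_map (P := Y) A).trans h1

end Cfsg.Agent.H12.BG
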