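import Cfsg.Agent.H12.BgD
import Cfsg.Agent.S1443

set_option autoImplicit false
set_option linter.unusedSectionVars false
set_option linter.style.haveILetI false
set_option linter.unusedVariables false

/-! BG 11: exceptional maximal subgroups -/

namespace Cfsg.Agent.H12.BG

open Subgroup
open Cfsg.Agent.L (cj nz SylIn)
open Cfsg.Agent.H14 (IsPiSub)
open Cfsg.Agent.OOT
open scoped commutatorElement

universe u

variable {G : Type u} [Group G] [Finite G]

/-- the exceptional configuration -/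
structure Exc (M : Subgroup G) (p : ℕ) (A A₀ : Subgroup G) : Prop where
  coatom : IsCoatom M
  nsig : p ∉ sigma M
  le : A ≤ M
  ea : IsElementaryAbelian p A
  card : Nat.card A = p ^ 2
  le₀ : A₀ ≤ A
  card₀ : Nat.card A₀ = p
  nz_le : normalizer (A₀ : Set G) ≤ M

section
variable (hG : IsMinSimpleOddOrder G) {p : ℕ} [hp : Fact p.Prime] {M A A₀ : Subgroup G}
include hG

theorem Exc.e2s (h : Exc M p A A₀) : E2s p A :=
  E2s.of_not_sigma hG h.coatom h.nsig h.le h.ea h.card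

omit hG hp [Finite G] in
theorem Exc.cent_le (h : Exc M p A A₀) : centralizer (A : Set G) ≤ M :=
  ((Subgroup.centralizer_le h.le₀).trans (Subgroup.centralizer_le_normalizer _)).trans h.nz_le

theorem Exc.ne_two (h : Exc M p A A₀) : p ≠ 2 :=
  prime_ne_two hG (H := A) (by rw [h.card]; exact dvd_pow_self p two_ne_zero)

/-- BG 11.1 -/
theorem Exc.disj (h : Exc M p A A₀) {g : G} (hg : g ∉ M) {q : ℕ} [hq : Fact q.Prime]
    (hqσ : q ∈ sigma M) {Q₁ Q₂ : Subgroup G} (h1 : SylIn q Q₁ (sigmaCore M))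
    (h2 : SylIn q Q₂ (cj g (sigmaCore M))) (hn1 : A ≤ normalizer (Q₁ : Set G))
    (hn2 : A ≤ normalizer (Q₂ : Set G)) {H : Subgroup G} (hH : H ≠ ⊤) (hAH : A ≤ H)
    (hH1 : H ⊓ Q₁ ≠ ⊥) (hH2 : H ⊓ Q₂ ≠ ⊥) : False := by
  have hqp : q ≠ p := by rintro rfl; exact h.nsig hqσ
  have s1 : SylIn q Q₁ M := sylIn_of_sigmaCore hG h.coatom hqσ h1
  have s4 : SylIn q (cj g⁻¹ Q₂) M := by
    apply sylIn_of_sigmaCore hG h.coatom hqσ
    have := h2.cj g⁻¹
    rwa [L.cj_inv_cj] at this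
  have t2 : SylIn q Q₂ ⊤ := by
    have := (sigma_sylow_top hG h.coatom hqσ s4).cj g
    rwa [L.cj_cj_inv, L.cj_top] at this
  obtain ⟨k, hk, hk2⟩ := (h.e2s hG).meet_trans hG hqp
    (maxInv_of_sylow (sigma_sylow_top hG h.coatom hqσ s1) hn1) (maxInv_of_sylow t2 hn2)
    hH hAH hH1 hH2
  have hkM : k ∈ M := h.cent_le hk
  have s3 : SylIn q Q₂ M := hk2 ▸ s1.cj_mem hkM
  obtain ⟨m, hm, e⟩ := s4.exists_conj_eq s3
  rw [L.cj_cj] at e
  have h5 : m * g⁻¹ ∈ M := sigma_nz_le hG hqσ s3 (L.mem_nz_iff.2 e)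
  apply hg
  have := M.mul_mem (M.inv_mem h5) hm
  simpa using this

omit hG hp in
theorem Exc.le_nz_sigma (h : Exc M p A A₀) : A ≤ normalizer ((sigmaCore M : Subgroup G) : Set G) :=
  h.le.trans (le_nz_sigmaCore M)

theorem Exc.coprime_sigma' (h : Exc M p A A₀) : (Nat.card (sigmaCore M)).Coprime p := by
  rw [coprime_iff_not_dvd hp.out]
  intro hd
  exact h.nsig (isPiSub_sigmaCore M p hp.out hd)

/-- BG 11.2(a) -/
theorem Exc.inf_cj (h : Exc M p A A₀) {g : G} (hg : g ∉ M) (hA : A ≤ cj g M) :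
    sigmaCore M ⊓ cj g M = ⊥ := by
  by_contra hne
  obtain ⟨q, hq, hqd⟩ := Nat.exists_prime_and_dvd (n := Nat.card ↥(sigmaCore M ⊓ cj g M))
    (by rw [Ne, Subgroup.card_eq_one]; exact hne)
  haveI : Fact q.Prime := ⟨hq⟩
  have hqσ : q ∈ sigma M := isPiSub_sigmaCore M q hq
    (hqd.trans (Subgroup.card_dvd_of_le inf_le_left))
  have hqp : q ≠ p := by rintro rfl; exact h.nsig hqσ
  have hcσ := h.coprime_sigma' hG
  have hcop : ∀ K : Subgroup G, (Nat.card K).Coprime p → (Nat.card A).Coprime (Nat.card K) :=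
    fun K hK => coprime_of_isPGroup (h.e2s hG).isPGroup hK
  have hn : A ≤ normalizer ((sigmaCore M ⊓ cj g M : Subgroup G) : Set G) := by
    refine (le_inf h.le_nz_sigma (hA.trans Subgroup.le_normalizer)).trans ?_
    intro x hx
    rw [L.mem_nz_iff, L.cj_inf, L.mem_nz_iff.1 hx.1, L.mem_nz_iff.1 hx.2]
  obtain ⟨Q₀, hQ₀, hAQ₀⟩ := exists_inv_syl hn (hcop _ (Nat.Coprime.coprime_dvd_left
    (Subgroup.card_dvd_of_le inf_le_left) hcσ))
    (Or.inl (H23.isSolvable_of_isPGroup (h.e2s hG).isPGroup)) q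
  have hQ₀1 : Q₀ ≠ ⊥ := by
    rintro rfl
    apply hQ₀.not_dvd
    rwa [Subgroup.relIndex_bot_left]
  have hQ₀p : IsPiSub (sigma M) Q₀ := isPiSub_of_isPGroup hqσ hQ₀.isPGroup
  have hQ₀g : Q₀ ≤ cj g (sigmaCore M) := by
    rw [← inv_inv g, ← L.cj_le_iff]
    refine le_sigmaCore hG h.coatom ?_ (isPiSub_cj.2 hQ₀p)
    rw [L.cj_le_iff, inv_inv]
    exact hQ₀.le.trans inf_le_right
  have hAg : A ≤ normalizer ((cj g (sigmaCore M) : Subgroup G) : Set G) := by
    have : cj g (nz (sigmaCore M)) = nz (cj g (sigmaCore M)) := (L.nz_cj g _).symm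
    exact (hA.trans (L.cj_mono (le_nz_sigmaCore M))).trans this.le
  obtain ⟨Q₁, hQ₁, hAQ₁, hQ₀₁⟩ := exists_inv_syl_ge h.le_nz_sigma (hcop _ hcσ)
    (Or.inl (H23.isSolvable_of_isPGroup (h.e2s hG).isPGroup)) (hQ₀.le.trans inf_le_left)
    hQ₀.isPGroup hAQ₀
  obtain ⟨Q₂, hQ₂, hAQ₂, hQ₀₂⟩ := exists_inv_syl_ge hAg (hcop _ (by rw [L.card_cj]; exact hcσ))
    (Or.inl (H23.isSolvable_of_isPGroup (h.e2s hG).isPGroup)) hQ₀g
    hQ₀.isPGroup hAQ₀
  have e1 : ∀ {X Y : Subgroup G}, X ≤ Y → X ≠ ⊥ → normalizer (X : Set G) ⊓ Y ≠ ⊥ :=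
    fun hXY hX e => hX (le_bot_iff.1 (e ▸ le_inf Subgroup.le_normalizer hXY))
  exact h.disj hG hg hqσ hQ₁ hQ₂ hAQ₁ hAQ₂
    (normalizer_ne_top hG hQ₀1 (pgroup_ne_top hG hQ₀.isPGroup)) hAQ₀ (e1 hQ₀₁ hQ₀1) (e1 hQ₀₂ hQ₀1)

/-- BG 11.2(b) -/
theorem Exc.inf_cent (h : Exc M p A A₀) {g : G} (hg : g ∉ M) (hA : A ≤ cj g M) :
    sigmaCore M ⊓ centralizer ((cj g A₀ : Subgroup G) : Set G) = ⊥ := by
  rw [eq_bot_iff, ← h.inf_cj hG hg hA]
  refine inf_le_inf_left _ ?_
  rw [L.cent_cj]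
  exact L.cj_mono ((Subgroup.centralizer_le_normalizer _).trans h.nz_le)

theorem Exc.exists_not_mem (h : Exc M p A A₀) {P : Subgroup G} (hP : SylIn p P M) :
    ∃ g ∈ normalizer (P : Set G), g ∉ M := by
  by_contra hc
  push Not at hc
  exact h.nsig (mem_sigma_of_sylIn hG hP ((by rw [h.card]; exact dvd_pow_self p two_ne_zero :
    p ∣ Nat.card A).trans (Subgroup.card_dvd_of_le h.le)) hc)

theorem Exc.sol_sup (h : Exc M p A A₀) {X Y : Subgroup G} (hX : X ≤ M) (hY : Y ≤ M) :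
    Group.IsSolvable ↥(X ⊔ Y) :=
  sol hG (fun e => h.coatom.1 (top_le_iff.1 (e ▸ sup_le hX hY)))

/-- BG 11.3 -/
theorem Exc.nilpotent (h : Exc M p A A₀) : Group.IsNilpotent (sigmaCore M) := by
  obtain ⟨P, hP, hAP⟩ := L.exists_sylIn_ge (h.e2s hG).isPGroup h.le
  obtain ⟨g, hgN, hgM⟩ := h.exists_not_mem hG hP
  have hPg : cj g P = P := L.mem_nz_iff.1 hgN
  have hA : A ≤ cj g M := hAP.trans (hPg ▸ L.cj_mono hP.le)
  have hR : cj g A₀ ≤ M := by
    refine le_trans ?_ hP.le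
    rw [← hPg]
    exact L.cj_mono (h.le₀.trans hAP)
  have hc : Nat.card (cj g A₀) = p := by rw [L.card_cj, h.card₀]
  refine nilpotent_of_fpf (R := cj g A₀) (by rw [hc]; exact hp.out)
    (hR.trans (le_nz_sigmaCore M)) (h.sol_sup hG (sigmaCore_le M) hR) (odd_sub hG _)
    (by rw [hc]; exact h.coprime_sigma' hG) (h.inf_cent hG hgM hA)

/-- BG 11.5 -/
theorem Exc.sylow_abelian (h : Exc M p A A₀) {P : Subgroup G} (hP : SylIn p P M) (hAP : A ≤ P) :
    IsMulCommutative P := by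
  by_contra hna
  obtain ⟨z1, z2, z3, -, -⟩ := (h.e2s hG).struct hG hP.isPGroup hAP hna
  obtain ⟨g, hgN, hgM⟩ := h.exists_not_mem hG hP
  have hPg : cj g P = P := L.mem_nz_iff.1 hgN
  have hA : A ≤ cj g M := hAP.trans (hPg ▸ L.cj_mono hP.le)
  have hgZ : cj g (omZ p P) = omZ p P := by rw [cj_omZ, hPg]
  have hne : A₀ ≠ omZ p P := by
    rintro e
    exact hgM (h.nz_le (L.mem_nz_iff.2 (by rw [e, hgZ])))
  have hAgP : cj g A ≤ P := hPg ▸ L.cj_mono hAP
  obtain ⟨-, -, -, -, tr⟩ := ((h.e2s hG).cjE g).struct hG hP.isPGroup hAgP hna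
  have hne' : cj g A₀ ≠ omZ p P := by
    rw [← hgZ]; intro e; exact hne (L.cj_inj.1 e)
  have hZσ : sigmaCore M ≤ centralizer ((omZ p P : Subgroup G) : Set G) := by
    refine le_of_cent_le (p := p) (A := cj g A) (isEA_cj h.ea) (by rw [L.card_cj, h.card])
      (hAgP.trans (hP.le.trans (le_nz_sigmaCore M))) (h.coprime_sigma' hG) ?_
    intro X hX hXc
    by_cases hXZ : X = omZ p P
    · rw [hXZ]; exact inf_le_right
    · obtain ⟨x, hx, hxX⟩ := tr (cj g A₀) X (L.cj_mono h.le₀) (by rw [L.card_cj, h.card₀]) hne'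
        hX hXc hXZ
      have hxM : x ∈ M := hP.le hx.1
      have e1 : cj x (sigmaCore M) = sigmaCore M := L.mem_nz_iff.1 (le_nz_sigmaCore M hxM)
      rw [← hxX, L.cent_cj, ← e1, ← L.cj_inf, h.inf_cent hG hgM hA, L.cj_bot]
      exact bot_le
  have hZd : omZ p P ≤ ⁅M, M⁆ ⊓ centralizer (sigmaCore M : Set G) :=
    le_inf (z3.trans (Subgroup.commutator_mono hP.le hP.le))
      (by rw [Subgroup.le_centralizer_iff]; exact hZσ)
  have hZn := (normal_of_cent_derived hG h.coatom h.nsig hZd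
    (hP.isPGroup.to_le (omZ_le p P))).1
  have := coatom_normalizer_eq hG h.coatom (ne_bot_of_card z1) ((omZ_le p P).trans hP.le) hZn
  exact hgM (this ▸ L.mem_nz_iff.2 hgZ)

theorem Exc.sylow_mem (h : Exc M p A A₀) {P : Subgroup G} (hP : SylIn p P M) (hAP : A ≤ P)
    {x : G} (hx : x ∈ P) : x ^ p = 1 ↔ x ∈ A := by
  refine ⟨fun hxp => (h.e2s hG).mem ?_ hxp, fun hxA => h.ea.2 x hxA⟩
  rw [Subgroup.mem_centralizer_iff]
  intro a ha
  exact isMulCommutative_iff'.1 (h.sylow_abelian hG hP hAP) a (hAP ha) x hx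

theorem Exc.nz_sylow_le (h : Exc M p A A₀) {P : Subgroup G} (hP : SylIn p P M) (hAP : A ≤ P) :
    normalizer (P : Set G) ≤ normalizer (A : Set G) := by
  intro g hg
  have hPg : cj g P = P := L.mem_nz_iff.1 hg
  rw [L.mem_nz_iff]
  apply L.eq_of_le_of_card_le _ (by rw [L.card_cj])
  rintro _ ⟨a, ha, rfl⟩
  have h1 : (MulAut.conj g).toMonoidHom a ∈ P := hPg ▸ ⟨a, hAP ha, rfl⟩
  refine (h.sylow_mem hG hP hAP h1).1 ?_
  rw [← map_pow, h.ea.2 a ha, map_one]

/-- the conjugates of `A₀` under elements of `N_G(P)` outside `M` generate `A` -/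
theorem Exc.generate (h : Exc M p A A₀) {P : Subgroup G} (hP : SylIn p P M) (hAP : A ≤ P)
    {T : Subgroup G} (hT : ∀ g ∈ normalizer (P : Set G), g ∉ M → cj g A₀ ≤ T) : A ≤ T := by
  obtain ⟨g, hgN, hgM⟩ := h.exists_not_mem hG hP
  have hA : ∀ w ∈ normalizer (P : Set G), cj w A₀ ≤ A := fun w hw =>
    (L.cj_mono h.le₀).trans (L.mem_nz_iff.1 (h.nz_sylow_le hG hP hAP hw)).le
  -- `g⁻¹` : the order is odd
  have hg2 : cj g A₀ ≠ cj g⁻¹ A₀ := by
    intro e
    have h1 : cj (g * g) A₀ = A₀ := by rw [← L.cj_cj, e, L.cj_cj_inv]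
    have h2 : g * g ∈ M := h.nz_le (L.mem_nz_iff.2 h1)
    apply hgM
    have hodd : Odd (orderOf g) := (odd_card hG).of_dvd_nat (orderOf_dvd_natCard g)
    obtain ⟨k, hk⟩ := hodd
    have h3 : (g * g) ^ (k + 1) = g := by
      rw [← pow_two, ← pow_mul, show 2 * (k + 1) = orderOf g + 1 by omega, pow_succ,
        pow_orderOf_eq_one, one_mul]
    rw [← h3]
    exact M.pow_mem h2 _
  have hgi : g⁻¹ ∉ M := fun hc => hgM (by simpa using M.inv_mem hc)
  have hgiN : g⁻¹ ∈ normalizer (P : Set G) := inv_mem hgN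
  rw [← sup_eq_of_card h.card (hA g hgN) (hA g⁻¹ hgiN) (by rw [L.card_cj, h.card₀])
    (by rw [L.card_cj, h.card₀]) hg2]
  exact sup_le (hT g hgN hgM) (hT g⁻¹ hgiN hgi)

omit hG in
/-- a `p`-subgroup lies in every normal subgroup of index prime to `p` -/
theorem le_map_of_index {N : Subgroup M} (hN : N.Normal) (hi : ¬ p ∣ N.index) {B : Subgroup G}
    (hB : B ≤ M) (hBp : IsPGroup p B) : B ≤ N.map M.subtype := by
  intro b hb
  refine ⟨⟨b, hB hb⟩, ?_, rfl⟩
  have h1 : orderOf (QuotientGroup.mk' N ⟨b, hB hb⟩) ∣ N.index := orderOf_dvd_natCard _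
  obtain ⟨k, hk⟩ := hBp ⟨b, hb⟩
  have hk' : b ^ p ^ k = 1 := congrArg Subtype.val hk
  have h2 : orderOf (QuotientGroup.mk' N ⟨b, hB hb⟩) ∣ p ^ k := by
    apply orderOf_dvd_of_pow_eq_one
    rw [← map_pow, show (⟨b, hB hb⟩ : M) ^ p ^ k = 1 from Subtype.ext hk', map_one]
  have h3 : orderOf (QuotientGroup.mk' N ⟨b, hB hb⟩) ∣ 1 := by
    have : (p ^ k).Coprime N.index := ((Nat.Prime.coprime_iff_not_dvd hp.out).2 hi).pow_left k
    rw [← Nat.Coprime.gcd_eq_one this]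
    exact Nat.dvd_gcd h2 h1
  have h4 := orderOf_eq_one_iff.1 (Nat.dvd_one.1 h3)
  exact (QuotientGroup.eq_one_iff _).1 h4

/-- BG 11.4, first part: normal subgroups of `M` of prime order `q ∉ σ(M)`, `q ≠ p` are
centralized by `A`. -/
theorem Exc.normal_prime (h : Exc M p A A₀) {q : ℕ} [hq : Fact q.Prime] (hqp : q ≠ p)
    (hqσ : q ∉ sigma M) {X : Subgroup G} (hXM : X ≤ M) (hX : Nat.card X = q)
    (hn : M ≤ normalizer (X : Set G)) : A ≤ centralizer (X : Set G) := by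
  by_contra hcon
  have hM := h.coatom
  have hNX : normalizer (X : Set G) = M := coatom_normalizer_eq hG hM (ne_bot_of_card hX) hXM hn
  obtain ⟨-, B, hBe, hBc, hXB⟩ := not_sigma_normalizer hG hM hqσ hX hNX.le
  have hBM : B ≤ M := by
    rw [← hNX]
    refine le_trans ?_ (Subgroup.centralizer_le_normalizer _)
    exact (isMulCommutative_iff_le.1 hBe.1).trans (Subgroup.centralizer_le hXB)
  obtain ⟨P, hP, hAP⟩ := L.exists_sylIn_ge (h.e2s hG).isPGroup h.le
  have hqM : q ∣ Nat.card M := hX ▸ Subgroup.card_dvd_of_le hXM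
  have hpM : p ∣ Nat.card M := (by rw [h.card]; exact dvd_pow_self p two_ne_zero :
    p ∣ Nat.card A).trans (Subgroup.card_dvd_of_le h.le)
  have hβ : ∀ {r : ℕ}, r ∉ sigma M → r ∉ beta M := fun hr hb =>
    hr (alpha_subset_sigma hG hM (beta_subset_alpha M hb))
  -- `p < q`
  have hlt : p < q := by
    have h1 : p ∣ (pPrimeCore q M).index := by
      by_contra hc
      have h2 : A ≤ opp q M := le_map_of_index inferInstance hc h.le (h.e2s hG).isPGroup
      exact hcon (h2.trans (pPrime_commutes hXM hn (isPGroup_of_card_eq hX)))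
    exact lt_of_le_of_ne ((beta_struct hG hM hqM (hβ hqσ)).2 p hp.out h1) (Ne.symm hqp)
  have hqi : ¬ q ∣ (pPrimeCore p M).index := fun hd =>
    absurd ((beta_struct hG hM hpM (hβ h.nsig)).2 q hq.out hd) (by omega)
  -- an `A`-invariant Sylow `q`-subgroup
  have hAs : Group.IsSolvable A := H23.isSolvable_of_isPGroup (h.e2s hG).isPGroup
  obtain ⟨Q, hQ0, hAQ⟩ := exists_inv_syl (h.le.trans (le_nz_opp p M))
    (coprime_of_isPGroup (h.e2s hG).isPGroup (coprime_opp p M)) (Or.inl hAs) q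
  have hQ : SylIn q Q M := by
    obtain ⟨T, hT⟩ := L.exists_sylIn (p := q) M
    have hTo : T ≤ opp p M := le_map_of_index inferInstance hqi hT.le hT.isPGroup
    exact hT.of_card_le hQ0.isPGroup (hQ0.le.trans (opp_le p M))
      (hQ0.card_le hT.isPGroup hTo)
  obtain ⟨m, hm, hmB⟩ := hQ.exists_conj_le (isEA_isPGroup hBe) hBM
  have hmX : cj m X = X := L.mem_nz_iff.1 (hn hm)
  have h' : Exc M q (cj m B) X := by
    refine ⟨hM, hqσ, ?_, isEA_cj hBe, by rw [L.card_cj, hBc], hmX ▸ L.cj_mono hXB, hX, hNX.le⟩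
    exact hmB.trans hQ.le
  have hAB : A ≤ normalizer ((cj m B : Subgroup G) : Set G) := hAQ.trans (h'.nz_sylow_le hG hQ hmB)
  obtain ⟨y, hyN, hyM⟩ := h'.exists_not_mem hG hQ
  have hyQ : cj y Q = Q := L.mem_nz_iff.1 hyN
  have hXσ : X ≤ centralizer (sigmaCore M : Set G) := by
    haveI : Group.IsNilpotent X := (isPGroup_of_card_eq hX).isNilpotent
    refine (normal_sigma'_struct hG hM hXM hn this ?_).1
    exact isPiSub_of_isPGroup hqσ (isPGroup_of_card_eq hX)
  have hyX : cj y X ≤ cj m B :=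
    (L.cj_mono h'.le₀).trans (L.mem_nz_iff.1 (h'.nz_sylow_le hG hQ hmB hyN)).le
  have hfix := h'.inf_cent hG hyM (hmB.trans (hyQ ▸ L.cj_mono hQ.le))
  have hD : cj m B ⊓ centralizer (sigmaCore M : Set G) = X := by
    have hXD : X ≤ cj m B ⊓ centralizer (sigmaCore M : Set G) := le_inf h'.le₀ hXσ
    rcases card_eq_prime_or h'.card (X := cj m B ⊓ centralizer (sigmaCore M : Set G))
      inf_le_left with e | e | e
    · exact absurd (le_bot_iff.1 (hXD.trans e.le)) (ne_bot_of_card hX)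
    · exact (L.eq_of_le_of_card_le hXD (by rw [e, hX])).symm
    · exfalso
      have h1 : cj m B ≤ centralizer (sigmaCore M : Set G) := e ▸ inf_le_right
      have h2 : sigmaCore M ≤ centralizer ((cj y X : Subgroup G) : Set G) := by
        rw [Subgroup.le_centralizer_iff]; exact hyX.trans h1
      exact sigmaCore_ne_bot hG hM (le_bot_iff.1 (hfix ▸ le_inf le_rfl h2))
  -- `[B, A] ≤ X`
  let T : Subgroup G :=
    { carrier := {t | t ∈ M ∧ ∀ b ∈ cj m B, ⁅b, t⁆ ∈ X}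
      one_mem' := ⟨M.one_mem, fun b _ => by simp⟩
      mul_mem' := by
        rintro s t ⟨hs, hs'⟩ ⟨ht, ht'⟩
        refine ⟨M.mul_mem hs ht, fun b hb => ?_⟩
        have e : ⁅b, s * t⁆ = ⁅b, s⁆ * (s * ⁅b, t⁆ * s⁻¹) := by
          simp only [commutatorElement_def]; group
        rw [e]
        exact X.mul_mem (hs' b hb) (H23.mem_normalizer_conj hn hs (ht' b hb))
      inv_mem' := by
        rintro t ⟨ht, ht'⟩
        refine ⟨M.inv_mem ht, fun b hb => ?_⟩
        have e : ⁅b, t⁻¹⁆ = t⁻¹ * ⁅b, t⁆⁻¹ * t := by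
          simp only [commutatorElement_def]; group
        rw [e]
        exact H23.mem_normalizer_conj' hn ht (X.inv_mem (ht' b hb)) }
  have hcopB : (Nat.card (cj m B)).Coprime p := by
    rw [h'.card]
    exact ((Nat.coprime_primes hq.out hp.out).2 hqp).pow_left 2
  have hAT : A ≤ T := by
    refine h.generate hG hP hAP ?_
    intro g hgN hgM
    have hPg : cj g P = P := L.mem_nz_iff.1 hgN
    have hgA : cj g A₀ ≤ A :=
      (L.cj_mono h.le₀).trans (L.mem_nz_iff.1 (h.nz_sylow_le hG hP hAP hgN)).le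
    have hc : Nat.card (cj g A₀) = p := by rw [L.card_cj, h.card₀]
    have h1 : ⁅cj m B, cj g A₀⁆ ≤ centralizer (sigmaCore M : Set G) := by
      refine fpf_commutator (by rw [hc]; exact hp.out) (hgA.trans h.le_nz_sigma)
        (h'.le.trans (le_nz_sigmaCore M)) (hgA.trans hAB) ?_ (odd_sub hG _) ?_
        (by rw [hc]; exact h.coprime_sigma' hG) (by rw [hc]; exact hcopB)
        (h.inf_cent hG hgM (hAP.trans (hPg ▸ L.cj_mono hP.le)))
      · exact h.sol_sup hG (sup_le (sigmaCore_le M) h'.le) (hgA.trans h.le)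
      · rw [h'.card]
        exact (h'.coprime_sigma' hG).pow_right 2
    have h2 : ⁅cj m B, cj g A₀⁆ ≤ cj m B := H23.commutator_le_of_le_normalizer (hgA.trans hAB)
    intro t ht
    refine ⟨h.le (hgA ht), fun b hb => ?_⟩
    rw [← hD]
    exact ⟨h2 (commutator_mem_commutator hb ht), h1 (commutator_mem_commutator hb ht)⟩
  have hBA : ⁅cj m B, A⁆ ≤ X := by
    rw [Subgroup.commutator_le]
    intro b hb a ha
    exact (hAT ha).2 b hb
  have hCA : q ∣ Nat.card (centralizer (A : Set G)) := by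
    have h1 : cj m B ⊓ centralizer (A : Set G) ≠ ⊥ := by
      intro e
      have h2 := H23.commutator_sup_centralizer hAB
        (coprime_of_isPGroup (h.e2s hG).isPGroup hcopB) (Or.inl hAs)
      rw [e, sup_bot_eq] at h2
      have h3 : cj m B ≤ X := h2 ▸ hBA
      have h4 := L.card_le_of_le h3
      rw [h'.card, hX] at h4
      nlinarith [hq.out.two_le]
    exact (dvd_card_of_ne_bot ((isEA_isPGroup h'.ea).to_le inf_le_left) h1).trans
      (Subgroup.card_dvd_of_le inf_le_right)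
  obtain ⟨R, hR, hQR⟩ := exists_maxInv_ge (H := ⊤) (A := A) (π := {q}) (R := Q)
    (mem_inv_iff.2 ⟨le_top, hQ.isPGroup, hAQ⟩)
  obtain ⟨Ps, -, hAPs, -, -, -, hnar⟩ := (h.e2s hG).signalizer hG hqp hCA hR
  have hnR : IsNarrow q R := by
    obtain ⟨e1, e2, e3⟩ := (h'.e2s hG).subgroupOf (hmB.trans hQR)
    exact narrow_of_max_ea q (h'.ne_two hG) (maxInv_isPGroup hR) _ e1 e2 e3
  exact hcon (hAPs.trans ((hnar hnR).trans (Subgroup.centralizer_le (h'.le₀.trans (hmB.trans hQR)))))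

/-- BG 11.4: every Hall `σ(M)'`-subgroup containing `A` normalizes `A`; here for the ones that
contain the Sylow `p`-subgroup `P ≥ A`. -/
theorem Exc.hall_le_nz (h : Exc M p A A₀) {P E : Subgroup G} (hP : SylIn p P M) (hAP : A ≤ P)
    (hPE : P ≤ E) (hEM : E ≤ M) (hE : IsPiSub {r | r ∉ sigma M} E) :
    E ≤ normalizer (A : Set G) := by
  have hM := h.coatom
  have hAs : Group.IsSolvable A := H23.isSolvable_of_isPGroup (h.e2s hG).isPGroup
  have hEt : E ≠ ⊤ := fun e => hM.1 (top_le_iff.1 (e ▸ hEM))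
  have hPE' : SylIn p P E := hP.of_le hPE hEM
  have hK : opp p E ≤ M := (opp_le p E).trans hEM
  have hAK : A ≤ normalizer ((opp p E : Subgroup G) : Set G) :=
    (hAP.trans hPE).trans (le_nz_opp p E)
  have hKA : A ≤ centralizer ((opp p E : Subgroup G) : Set G) := by
    refine h.generate hG hP hAP ?_
    intro g hgN hgM
    have hPg : cj g P = P := L.mem_nz_iff.1 hgN
    have hgA : cj g A₀ ≤ A :=
      (L.cj_mono h.le₀).trans (L.mem_nz_iff.1 (h.nz_sylow_le hG hP hAP hgN)).le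
    have hc : Nat.card (cj g A₀) = p := by rw [L.card_cj, h.card₀]
    have hKσ : (Nat.card (sigmaCore M)).Coprime (Nat.card (opp p E)) :=
      coprime_sigma (isPiSub_sigmaCore M) (fun r hr hd =>
        hE r hr (hd.trans (Subgroup.card_dvd_of_le (opp_le p E))))
    have h1 : ⁅opp p E, cj g A₀⁆ ≤ centralizer (sigmaCore M : Set G) := by
      refine fpf_commutator (by rw [hc]; exact hp.out) (hgA.trans h.le_nz_sigma)
        (hK.trans (le_nz_sigmaCore M)) (hgA.trans hAK) ?_ (odd_sub hG _) hKσ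
        (by rw [hc]; exact h.coprime_sigma' hG) (by rw [hc]; exact coprime_opp p E)
        (h.inf_cent hG hgM (hAP.trans (hPg ▸ L.cj_mono hP.le)))
      exact h.sol_sup hG (sup_le (sigmaCore_le M) hK) (hgA.trans h.le)
    have h2 : ⁅opp p E, cj g A₀⁆ ≤ opp p E := H23.commutator_le_of_le_normalizer (hgA.trans hAK)
    have h3 : ⁅opp p E, cj g A₀⁆ ≤ ⁅M, M⁆ := Subgroup.commutator_mono hK (hgA.trans h.le)
    have h4 : ⁅opp p E, cj g A₀⁆ ≤ centralizer (A : Set G) := by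
      refine le_of_sylIn_le ?_
      intro q hq hqd
      haveI : Fact q.Prime := ⟨hq⟩
      obtain ⟨T, hT⟩ := L.exists_sylIn (p := q) ⁅opp p E, cj g A₀⁆
      refine ⟨T, hT, ?_⟩
      have hqK : q ∣ Nat.card (opp p E) := hqd.trans (Subgroup.card_dvd_of_le h2)
      have hqσ : q ∉ sigma M := hE q hq (hqK.trans (Subgroup.card_dvd_of_le (opp_le p E)))
      have hqp : q ≠ p := by
        rintro rfl
        exact (coprime_iff_not_dvd hq).1 (coprime_opp _ E) hqK
      obtain ⟨hTn, hTc⟩ := normal_of_cent_derived hG hM hqσ (X := T)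
        (le_inf (hT.le.trans h3) (hT.le.trans h1)) hT.isPGroup
      by_cases hT1 : T = ⊥
      · rw [hT1]; exact bot_le
      obtain ⟨X, hXT, hX⟩ := exists_order_p (dvd_card_of_ne_bot hT.isPGroup hT1)
      have hTM : T ≤ M := (hT.le.trans h2).trans hK
      have hXn : M ≤ normalizer (X : Set G) := by
        intro m hm
        rw [L.mem_nz_iff]
        exact eq_of_card_of_cyclic hTc ((L.cj_mono hXT).trans (L.mem_nz_iff.1 (hTn hm)).le) hXT
          (L.card_cj _ _)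
      have hAX := h.normal_prime hG hqp hqσ (hXT.trans hTM) hX hXn
      have hqT : (Nat.card A).Coprime q := coprime_card_of_ne hq hqp (h.e2s hG).isPGroup
      rw [Subgroup.le_centralizer_iff]
      refine Cfsg.Agent.S1443.result q (prime_ne_two hG hqK) T ⊥ A hT.isPGroup bot_le
        ⟨⟨⟨by rintro ⟨a, ha⟩ ⟨b, hb⟩; rw [Subgroup.mem_bot] at ha hb; subst ha; subst hb; rfl⟩⟩,
          fun x hx => by rw [Subgroup.mem_bot] at hx; rw [hx, one_pow]⟩
        (h.le.trans hTn) hqT ?_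
      rintro x hx hxq
      have hxT : x ∈ T := hx.1
      have e1 : zpowers x = X := eq_of_card_of_cyclic hTc (by rwa [Subgroup.zpowers_le]) hXT
        (by rw [Nat.card_zpowers, hxq, hX])
      rw [← centralizer_zpowers, e1]
      exact hAX
    have h5 := H23.le_centralizer_of_commutator_le (hgA.trans hAK)
      (by rw [hc]; exact (coprime_opp p E).symm) le_rfl
      (h4.trans (Subgroup.centralizer_le hgA))
    rwa [Subgroup.le_centralizer_iff] at h5
  intro x hx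
  have hr : PRankLE p 2 P := (pRankLE_sylIn hP).2 (pRankLE_two_of_not_sigma hG hM hp.out h.nsig)
  obtain ⟨a, ha, y, hy, rfl⟩ := rank_two_factor hG hEt hPE' hr hx
  refine mul_mem ?_ (h.nz_sylow_le hG hP hAP hy.2)
  refine Subgroup.centralizer_le_normalizer _ ?_
  rw [Subgroup.le_centralizer_iff] at hKA
  exact hKA ha

/-- BG 11.4 -/
theorem Exc.le_nz_sup (h : Exc M p A A₀) :
    M ≤ normalizer ((sigmaCore M ⊔ A : Subgroup G) : Set G) := by
  have hM := h.coatom
  obtain ⟨P, hP, hAP⟩ := L.exists_sylIn_ge (h.e2s hG).isPGroup h.le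
  have hPσ : IsPiSub {r | r ∉ sigma M} P := isPiSub_of_isPGroup h.nsig hP.isPGroup
  obtain ⟨E, hE, hPE⟩ := exists_hallOf_ge (coatom_sol hG hM) hP.le hPσ
  have hEA := h.hall_le_nz hG hP hAP hPE hE.1 (IsPiHallOf.isPi hE)
  have hσ := sigmaCore_hall hG hM
  obtain ⟨hc, -⟩ := IsPiHallOf.isComplIn (π' := {r | r ∉ sigma M}) (fun r _ => Iff.rfl) hσ hE
  have hgen : M ≤ sigmaCore M ⊔ E := by
    intro m hm
    obtain ⟨a, ha, b, hb, rfl⟩ := hc.2.2.2 m hm
    exact mul_mem (mem_sup_left ha) (mem_sup_right hb)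
  refine hgen.trans (sup_le (le_sup_left.trans Subgroup.le_normalizer) ?_)
  intro x hx
  rw [L.mem_nz_iff, L.cj_sup, L.mem_nz_iff.1 (le_nz_sigmaCore M (hE.1 hx)),
    L.mem_nz_iff.1 (hEA hx)]

end
end Cfsg.Agent.H12.BG
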