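import Cfsg.Agent.H12.BgE
import Cfsg.Agent.S1460
import Cfsg.Agent.S1462

set_option autoImplicit false
set_option linter.unusedSectionVars false
set_option linter.style.haveILetI false
set_option linter.unusedVariables false

/-! BG 12.1 - 12.5 -/

namespace Cfsg.Agent.H12.BG

open Subgroup
open Cfsg.Agent.L (cj nz SylIn)
open Cfsg.Agent.H14 (IsPiSub)
open Cfsg.Agent.OOT
open scoped commutatorElement

universe u

variable {G : Type u} [Group G] [Finite G]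

theorem le_nz_subgroupOf {A K H : Subgroup G} (h : A ≤ normalizer (K : Set G)) :
    A.subgroupOf H ≤ normalizer ((K.subgroupOf H : Subgroup H) : Set H) := by
  intro a ha
  rw [Subgroup.mem_subgroupOf] at ha
  rw [Subgroup.mem_normalizer_iff]
  intro x
  have := (Subgroup.mem_normalizer_iff.1 (h ha)) (x : G)
  simpa [Subgroup.mem_subgroupOf] using this

theorem card_subgroupOf {A H : Subgroup G} (h : A ≤ H) :
    Nat.card (A.subgroupOf H) = Nat.card A :=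
  Nat.card_congr (Subgroup.subgroupOfEquivOfLe h).toEquiv

/-- S1460 inside a subgroup -/
theorem derived_of_frattini {M K U S : Subgroup G} (hs : Group.IsSolvable M) (hK : K ≤ M)
    (hKn : M ≤ normalizer (K : Set G)) (hU : U ≤ M) (hKU : K ⊔ U = M) (hS : S ≤ U)
    (hcop : (Nat.card S).Coprime (Nat.card K)) (hSd : S ≤ ⁅M, M⁆) : S ≤ ⁅U, U⁆ := by
  haveI : Group.IsSolvable M := hs
  haveI : (K.subgroupOf M).Normal := by
    have := le_nz_subgroupOf (H := M) hKn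
    rw [Subgroup.subgroupOf_self] at this
    exact normalizer_eq_top_iff.1 (top_le_iff.1 this)
  have h1 : K.subgroupOf M ⊔ U.subgroupOf M = ⊤ := by
    rw [← Subgroup.subgroupOf_sup hK hU, hKU, Subgroup.subgroupOf_self]
  have h2 := (Cfsg.Agent.S1460.result (K.subgroupOf M) (U.subgroupOf M) (S.subgroupOf M) h1
    (Subgroup.subgroupOf_mono M hS) (by
      rw [card_subgroupOf (hS.trans hU), card_subgroupOf hK]; exact hcop)).1
  intro s hs'
  have hsM : s ∈ M := hU (hS hs')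
  have h3 : (⟨s, hsM⟩ : M) ∈ S.subgroupOf M ⊓ commutator M :=
    ⟨hs', le_commutator_subgroupOf hSd (show (⟨s, hsM⟩ : M) ∈ S.subgroupOf M from hs')⟩
  rw [h2] at h3
  have h4 : (U.subgroupOf M).map M.subtype = U := by
    rw [Subgroup.subgroupOf_map_subtype, inf_eq_left.2 hU]
  rw [← h4, ← Subgroup.map_commutator]
  exact ⟨⟨s, hsM⟩, h3.2, rfl⟩

section
variable (hG : IsMinSimpleOddOrder G) {p : ℕ} [hp : Fact p.Prime]
include hG

theorem E2s.le_opp {A : Subgroup G} (hA : E2s p A) {H K : Subgroup G} (hH : H ≠ ⊤) (hAH : A ≤ H)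
    (hK : K ≤ H) (hKp : (Nat.card K).Coprime p) (hn : A ≤ normalizer (K : Set G)) :
    K ≤ opp p H := by
  haveI : Group.IsSolvable H := sol hG hH
  obtain ⟨e1, e2, e3⟩ := hA.subgroupOf hAH
  have hp2 : p ≠ 2 := prime_ne_two hG (H := A) (by rw [hA.card]; exact dvd_pow_self p two_ne_zero)
  have := Cfsg.Agent.S1462.result p hp2 (plength_one hG hH p) (A.subgroupOf H) (K.subgroupOf H) e1 e3
    (by rw [card_subgroupOf hK]; exact hKp) (le_nz_subgroupOf hn)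
  intro k hk
  exact ⟨⟨k, hK hk⟩, this hk, rfl⟩

omit hp in
theorem sol_coatom_sub {M K : Subgroup G} (hM : IsCoatom M) (hK : K ≤ M) : Group.IsSolvable K :=
  sol hG (fun e => hM.1 (top_le_iff.1 (e ▸ hK)))

/-- BG 12.3 -/
theorem cent_of_nz_le {M Ms V A A₀ : Subgroup G} {π : Set ℕ} (hM : IsCoatom M)
    (hMs : IsCoatom Ms) (hne : Ms ≠ M) (hAM : A ≤ M) (hA : E2s p A) (hA₀ : A₀ ≤ A)
    (hA₀c : Nat.card A₀ = p) (hN : normalizer (A₀ : Set G) ≤ Ms)
    (hV : IsPiHallOf π V M) (hVn : M ≤ normalizer (V : Set G)) (hπ : π ⊆ sigma M) (hpπ : p ∉ π) :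
    V ⊓ Ms ≤ centralizer (A : Set G) := by
  have hCA : centralizer (A : Set G) ≤ Ms :=
    ((Subgroup.centralizer_le hA₀).trans (Subgroup.centralizer_le_normalizer _)).trans hN
  have hAMs : A ≤ Ms := hA.le_cent.trans hCA
  have hAs : Group.IsSolvable A := H23.isSolvable_of_isPGroup hA.isPGroup
  have hVp : (Nat.card V).Coprime p := by
    rw [coprime_iff_not_dvd hp.out]
    exact fun hd => hpπ (hV.2.1 p hp.out hd)
  have hcop : ∀ K : Subgroup G, (Nat.card K).Coprime p → (Nat.card A).Coprime (Nat.card K) :=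
    fun K hK => coprime_of_isPGroup hA.isPGroup hK
  have hnVM : A ≤ normalizer ((V ⊓ Ms : Subgroup G) : Set G) := by
    intro x hx
    rw [L.mem_nz_iff, L.cj_inf, L.mem_nz_iff.1 (hVn (hAM hx)),
      L.cj_eq_self_of_mem (hAMs hx)]
  refine le_of_sylIn_le ?_
  intro q hq hqd
  haveI : Fact q.Prime := ⟨hq⟩
  obtain ⟨Q₀, hQ₀, hAQ₀⟩ := exists_inv_syl hnVM (hcop _ (Nat.Coprime.coprime_dvd_left
    (Subgroup.card_dvd_of_le inf_le_left) hVp)) (Or.inl hAs) q
  refine ⟨Q₀, hQ₀, ?_⟩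
  have hqπ : q ∈ π := hV.2.1 q hq (hqd.trans (Subgroup.card_dvd_of_le inf_le_left))
  have hqσ := hπ hqπ
  have hqp : q ≠ p := by rintro rfl; exact hpπ hqπ
  have hQ₀1 : Q₀ ≠ ⊥ := by
    rintro rfl
    apply hQ₀.not_dvd
    rwa [Subgroup.relIndex_bot_left]
  obtain ⟨Q, hQV, hAQ, hQ₀Q⟩ := exists_inv_syl_ge (hAM.trans hVn) (hcop _ hVp)
    (Or.inl hAs) (hQ₀.le.trans inf_le_left) hQ₀.isPGroup hAQ₀
  have hQM : SylIn q Q M := by
    refine ⟨hQV.le.trans hV.1, hQV.isPGroup, ?_⟩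
    rw [← Subgroup.relIndex_mul_relIndex Q V M hQV.le hV.1]
    intro hd
    rcases (Nat.Prime.dvd_mul hq).1 hd with h | h
    · exact hQV.not_dvd h
    · exact hV.2.2 q hq hqπ h
  have hQt := sigma_sylow_top hG hM hqσ hQM
  have hQMs : Q ⊓ Ms = Q₀ := by
    refine (hQ₀.eq_of_le (hQV.isPGroup.to_le inf_le_left) (inf_le_inf_right _ hQV.le)
      (le_inf hQ₀Q (hQ₀.le.trans inf_le_right))).symm
  have hQ₀K : Q₀ ≤ opp p Ms := hA.le_opp hG hMs.1 hAMs (hQ₀.le.trans inf_le_right)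
    (coprime_card_of_ne hp.out (Ne.symm hqp) hQ₀.isPGroup) hAQ₀
  have hAK : A ≤ normalizer ((opp p Ms : Subgroup G) : Set G) := hAMs.trans (le_nz_opp p Ms)
  obtain ⟨Q₁, hQ₁, hAQ₁, hQ₀₁⟩ := exists_inv_syl_ge hAK (hcop _ (coprime_opp p Ms))
    (Or.inl hAs) hQ₀K hQ₀.isPGroup hAQ₀
  obtain ⟨Q₂, hQ₂, hQ₁₂⟩ := exists_maxInv_ge (H := ⊤) (A := A) (π := {q}) (R := Q₁)
    (mem_inv_iff.2 ⟨le_top, hQ₁.isPGroup, hAQ₁⟩)
  have hne1 : ∀ {X Y : Subgroup G}, Q₀ ≤ X → Q₀ ≤ Y → X ⊓ Y ≠ ⊥ := fun h1 h2 e =>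
    hQ₀1 (le_bot_iff.1 (e ▸ le_inf h1 h2))
  obtain ⟨k, hk, hk2⟩ := hA.meet_trans hG hqp (maxInv_of_sylow hQt hAQ) hQ₂ hMs.1 hAMs
    (hne1 (hQ₀.le.trans inf_le_right) hQ₀Q)
    (hne1 (hQ₀.le.trans inf_le_right) (hQ₀₁.trans hQ₁₂))
  have hkM : k ∈ Ms := hCA hk
  -- `Q₀` is a Sylow subgroup of `O_{p'}(Ms)`
  have hQ₂p := maxInv_isPGroup hQ₂
  have hQ₂n : A ≤ normalizer ((Q₂ ⊓ Ms : Subgroup G) : Set G) := by
    intro x hx
    rw [L.mem_nz_iff, L.cj_inf, L.mem_nz_iff.1 (maxInv_le_nz hQ₂ hx),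
      L.cj_eq_self_of_mem (hAMs hx)]
  have hQ₂K : Q₂ ⊓ Ms ≤ opp p Ms := hA.le_opp hG hMs.1 hAMs inf_le_right
    (coprime_card_of_ne hp.out (Ne.symm hqp) (hQ₂p.to_le inf_le_left)) hQ₂n
  have hc1 : Nat.card ↥(Q₂ ⊓ Ms) = Nat.card Q₀ := by
    rw [hk2, ← L.cj_eq_self_of_mem hkM, ← L.cj_inf, L.card_cj, hQMs]
  have hQ₀S : SylIn q Q₀ (opp p Ms) :=
    hQ₁.of_card_le hQ₀.isPGroup hQ₀K (by
      rw [← hc1]
      exact L.card_le_of_le (le_inf hQ₁₂ (hQ₁.le.trans (opp_le p Ms))))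
  have hQ₀M : Q₀ ≤ M := (hQ₀.le.trans inf_le_left).trans hV.1
  have hQ₀Ms : Q₀ ≤ Ms := hQ₀.le.trans inf_le_right
  by_cases hpσ : p ∈ sigma Ms
  · -- a Sylow `p`-subgroup containing `A` and normalizing `Q₀`
    obtain ⟨S, hS, hAS⟩ := L.exists_sylIn_ge hA.isPGroup hAMs
    have hSK : S ≤ normalizer ((opp p Ms : Subgroup G) : Set G) := hS.le.trans (le_nz_opp p Ms)
    obtain ⟨Q', hQ', hSQ'⟩ := exists_inv_syl hSK
      (coprime_of_isPGroup hS.isPGroup (coprime_opp p Ms))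
      (Or.inl (H23.isSolvable_of_isPGroup hS.isPGroup)) q
    obtain ⟨c, hc, hcQ⟩ := H23.invariant_sylow_conj hAK (hcop _ (coprime_opp p Ms)) (Or.inl hAs)
      (isSylowOf_iff_sylIn.2 hQ') (isSylowOf_iff_sylIn.2 hQ₀S) (hAS.trans hSQ') hAQ₀
    rw [smul_eq_cj] at hcQ
    have hcMs : c ∈ Ms := opp_le p Ms hc.1
    have hS' : SylIn p (cj c S) Ms := hS.cj_mem hcMs
    have hAc : cj c A = A := L.mem_nz_iff.1 (Subgroup.centralizer_le_normalizer _ hc.2)
    have hAS' : A ≤ cj c S := hAc ▸ L.cj_mono hAS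
    have hSQ₀ : cj c S ≤ normalizer (Q₀ : Set G) := by
      rw [← hcQ, show normalizer ((cj c Q' : Subgroup G) : Set G) = nz (cj c Q') from rfl, L.nz_cj]
      exact L.cj_mono hSQ'
    have hKU : opp p Ms ⊔ (Ms ⊓ nz Q₀) = Ms :=
      hallOf_frattini_sup (sol_coatom_sub hG hMs (opp_le p Ms)) (opp_le p Ms) (le_nz_opp p Ms)
        (sylIn_iff_hallOf.1 hQ₀S)
    have hd : cj c S ≤ ⁅Ms, Ms⁆ :=
      (sylow_le_derived_normalizer hG (sigma_sylow_top hG hMs hpσ hS')).trans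
        (Subgroup.commutator_mono (sigma_nz_le hG hpσ hS') (sigma_nz_le hG hpσ hS'))
    have hd2 : cj c S ≤ ⁅Ms ⊓ nz Q₀, Ms ⊓ nz Q₀⁆ :=
      derived_of_frattini (coatom_sol hG hMs) (opp_le p Ms) (le_nz_opp p Ms) inf_le_left hKU
        (le_inf hS'.le hSQ₀) (coprime_of_isPGroup hS'.isPGroup (coprime_opp p Ms)) hd
    have hr : PRankLE q 2 Q₀ := by
      by_contra hr
      exact hne (uniq_eq (sylow_uniq hG hQ₀.isPGroup hr) hM hQ₀M hMs hQ₀Ms)
    have hq2 : q ≠ 2 := prime_ne_two hG hqd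
    have := narrow_derived_centralizes hq2 hQ₀.isPGroup (Or.inl hr) inf_le_right
      (sol_coatom_sub hG hMs inf_le_left) (odd_sub hG _) hd2
      (coprime_card_of_ne hq hqp hS'.isPGroup)
    rw [Subgroup.le_centralizer_iff]
    exact hAS'.trans this
  · have h : Exc Ms p A A₀ := ⟨hMs, hpσ, hAMs, hA.ea, hA.card, hA₀, hA₀c, hN⟩
    have h1 : ⁅Q₀, A⁆ ≤ sigmaCore Ms ⊔ A := by
      have : ⁅Q₀, (sigmaCore Ms ⊔ A : Subgroup G)⁆ ≤ sigmaCore Ms ⊔ A := by
        rw [Subgroup.commutator_comm]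
        exact H23.commutator_le_of_le_normalizer (hQ₀Ms.trans (h.le_nz_sup hG))
      exact (Subgroup.commutator_mono le_rfl le_sup_right).trans this
    have h2 : ⁅Q₀, A⁆ ≤ Q₀ := H23.commutator_le_of_le_normalizer hAQ₀
    by_cases hqs : q ∈ sigma Ms
    · exfalso
      obtain ⟨g, hg⟩ := conj_of_sigma_sigma hG hMs hM (h.nilpotent hG) hqs hqσ
      have hgM : g ∉ Ms := fun hc => hne (by rw [← hg, L.cj_eq_self_of_mem hc])
      have h3 := h.inf_cj hG hgM (hg ▸ hAM)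
      apply hQ₀1
      rw [eq_bot_iff, ← h3]
      exact le_inf (le_sigmaCore hG hMs hQ₀Ms (isPiSub_of_isPGroup hqs hQ₀.isPGroup)) (hg ▸ hQ₀M)
    · have h4 : ⁅Q₀, A⁆ = ⊥ := by
        rw [eq_bot_iff, ← inf_eq_bot_of_isPGroup hQ₀.isPGroup (K := sigmaCore Ms ⊔ A) ?_]
        · exact le_inf h2 h1
        · rw [H23.card_sup_of_coprime h.le_nz_sigma
            (coprime_of_isPGroup hA.isPGroup (h.coprime_sigma' hG))]
          refine Nat.Coprime.mul_left ?_ (coprime_card_of_ne hq hqp hA.isPGroup)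
          rw [coprime_iff_not_dvd hq]
          exact fun hd => hqs (isPiSub_sigmaCore Ms q hq hd)
      exact (Subgroup.commutator_eq_bot_iff_le_centralizer.1 h4)

omit hG hp in
theorem coatom_eq_of_le {M L' : Subgroup G} (hM : IsCoatom M) (hL : IsCoatom L') (h : M ≤ L') :
    L' = M := by
  rcases hM.le_iff.1 h with e | e
  · exact absurd e hL.1
  · exact e

omit hG hp in
theorem exists_other {M X : Subgroup G} (hX : X ≠ ⊤)
    (h : ¬ (X ≤ M ∧ ∀ L' : Subgroup G, IsCoatom L' → X ≤ L' → L' = M)) :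
    ∃ Ms : Subgroup G, IsCoatom Ms ∧ Ms ≠ M ∧ X ≤ Ms := by
  by_contra hc
  push Not at hc
  apply h
  have h2 : ∀ L' : Subgroup G, IsCoatom L' → X ≤ L' → L' = M := by
    intro L' hL hXL
    by_contra hne
    exact hc L' hL hne hXL
  obtain ⟨Ms, hMs, hXM⟩ := exists_coatom_ge hX
  exact ⟨h2 Ms hMs hXM ▸ hXM, h2⟩

omit hG in
theorem ea2_not_rankLE_one {A : Subgroup G} (hA : IsElementaryAbelian p A)
    (hc : Nat.card A = p ^ 2) : ¬ RankLE 1 A := fun h =>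
  not_pRankLE_of_ea (k := 1) le_rfl hA (by rw [hc]) (h p hp.out)

/-- BG 12.4(b) -/
theorem ea2_no_nz {M A : Subgroup G} (hM : IsCoatom M) (hAM : A ≤ M)
    (hAe : IsElementaryAbelian p A) (hAc : Nat.card A = p ^ 2)
    (hno : ∀ A₀ : Subgroup G, A₀ ≤ A → Nat.card A₀ = p →
      ¬ (normalizer (A₀ : Set G) ≤ M ∧ ∀ L' : Subgroup G, IsCoatom L' →
        normalizer (A₀ : Set G) ≤ L' → L' = M)) :
    E2s p A ∧ p ∈ sigma M ∧ alphaCore M = ⊥ ∧ Group.IsNilpotent (sigmaCore M) := by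
  have hex : ∀ A₀ : Subgroup G, A₀ ≤ A → Nat.card A₀ = p →
      ∃ Ms : Subgroup G, IsCoatom Ms ∧ Ms ≠ M ∧ normalizer (A₀ : Set G) ≤ Ms := fun A₀ h1 h2 =>
    exists_other (nz_ne_top_of_card hG h2) (hno A₀ h1 h2)
  have hAA : A ≤ centralizer (A : Set G) := isMulCommutative_iff_le.1 hAe.1
  have hAMs : ∀ {A₀ Ms : Subgroup G}, A₀ ≤ A → normalizer (A₀ : Set G) ≤ Ms → A ≤ Ms :=
    fun h1 h2 => (hAA.trans (Subgroup.centralizer_le h1)).trans
      ((Subgroup.centralizer_le_normalizer _).trans h2)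
  have hpA : p ∣ Nat.card A := by rw [hAc]; exact dvd_pow_self p two_ne_zero
  have hnu : ¬ InUniqueMaximal A := by
    intro hu
    obtain ⟨A₀, hA₀, hA₀c⟩ := exists_order_p hpA
    obtain ⟨Ms, hMs, hne, hN⟩ := hex A₀ hA₀ hA₀c
    exact hne (uniq_eq hu hM hAM hMs (hAMs hA₀ hN))
  have hE : E2s p A := E2s.of_not_uniq hG hAe hAc hnu
  have hpM : p ∣ Nat.card M := hpA.trans (Subgroup.card_dvd_of_le hAM)
  have gen : ∀ {V : Subgroup G} {π : Set ℕ}, IsPiHallOf π V M → M ≤ normalizer (V : Set G) →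
      π ⊆ sigma M → p ∉ π → V ≤ centralizer (A : Set G) := by
    intro V π hV hVn hπ hpπ
    refine le_of_cent_le hAe hAc (hAM.trans hVn) ?_ ?_
    · rw [coprime_iff_not_dvd hp.out]
      exact fun hd => hpπ (hV.2.1 p hp.out hd)
    · intro X hX hXc
      obtain ⟨Ms, hMs, hne, hN⟩ := hex X hX hXc
      refine le_trans (inf_le_inf_left _ ?_)
        (cent_of_nz_le hG hM hMs hne hAM hE hX hXc hN hV hVn hπ hpπ)
      exact (Subgroup.centralizer_le_normalizer _).trans hN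
  have hpσ : p ∈ sigma M := by
    by_contra hpσ
    have h1 : sigmaCore M ≤ centralizer (A : Set G) :=
      gen (sigmaCore_hall hG hM) (le_nz_sigmaCore M) subset_rfl hpσ
    have h2 := rank_cent_sigma hG hM hAM (isPiSub_of_isPGroup hpσ hE.isPGroup)
    rw [Subgroup.le_centralizer_iff] at h1
    rw [inf_eq_left.2 h1] at h2
    exact ea2_not_rankLE_one hAe hAc h2
  have hpα : p ∉ alpha M := by
    intro hpα
    obtain ⟨P, hP, hAP⟩ := L.exists_sylIn_ge hE.isPGroup hAM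
    have hr : ¬ PRankLE p 2 P := fun h => hpα.2 ((pRankLE_sylIn hP).1 h)
    have hna : ¬ IsMulCommutative P := by
      intro hab
      obtain ⟨E, hEP, hEe, hEc⟩ := exists_ea_of_not_pRankLE hr
      have h1 : E ≤ A := hE.le_of_cent ((hEP.trans (isMulCommutative_iff_le.1 hab)).trans
        (Subgroup.centralizer_le hAP)) hEe
      have h2 := L.card_le_of_le h1
      rw [hEc, hAc] at h2
      exact absurd h2 (not_le.2 (Nat.pow_lt_pow_right hp.out.one_lt (by norm_num)))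
    obtain ⟨z1, z2, -, -, -⟩ := hE.struct hG hP.isPGroup hAP hna
    obtain ⟨Ms, hMs, hne, hN⟩ := hex _ z2 z1
    have hPMs : P ≤ Ms := by
      refine le_trans ?_ ((Subgroup.centralizer_le_normalizer _).trans hN)
      rw [Subgroup.le_centralizer_iff]
      exact omZ_le_centralizer p P
    exact hne (uniq_eq (sylow_uniq hG hP.isPGroup hr) hM hP.le hMs hPMs)
  have hα : alphaCore M = ⊥ := by
    by_contra hne
    have h1 : alphaCore M ≤ centralizer (A : Set G) :=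
      gen (alphaCore_hall hG hM) (le_normalizer_piCoreOf (alpha M) M) (alpha_subset_sigma hG hM) hpα
    obtain ⟨q, hq, hqd⟩ := Nat.exists_prime_and_dvd (n := Nat.card ↥(alphaCore M))
      (by rw [Ne, Subgroup.card_eq_one]; exact hne)
    haveI : Fact q.Prime := ⟨hq⟩
    have hqα : q ∈ alpha M := (alphaCore_hall hG hM).2.1 q hq hqd
    obtain ⟨T, hT⟩ := L.exists_sylIn (p := q) M
    have hT1 := alpha_sylow_le hG hM hqα hT
    have hr : ¬ PRankLE q 2 T := fun h => hqα.2 ((pRankLE_sylIn hT).1 h)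
    exact hnu (Cfsg.Agent.S1403.result hG A (hE.ne_top hG) (ea2_not_rankLE_one hAe hAc)
      (Or.inr (not_rankLE_of_sylow (hT1.trans h1) hr)))
  refine ⟨hE, hpσ, hα, ?_⟩
  refine beta'_nilpotent hG hM (sigmaCore_le_derived hG hM) ?_
  intro q hq _ hqβ
  haveI : Fact q.Prime := ⟨hq⟩
  have hqα := beta_subset_alpha M hqβ
  obtain ⟨T, hT⟩ := L.exists_sylIn (p := q) M
  have hT1 := alpha_sylow_le hG hM hqα hT
  rw [hα, le_bot_iff] at hT1
  apply hqα.2
  rw [← pRankLE_sylIn hT, hT1]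
  exact pRankLE_of_not_dvd (by rw [Subgroup.card_bot]; exact hq.one_lt.ne' ∘ Nat.dvd_one.1)

/-- BG 12.4(a) -/
theorem ea2_cent_le {M A : Subgroup G} (hM : IsCoatom M) (hAM : A ≤ M)
    (hAe : IsElementaryAbelian p A) (hAc : Nat.card A = p ^ 2) : centralizer (A : Set G) ≤ M := by
  by_cases hno : ∀ A₀ : Subgroup G, A₀ ≤ A → Nat.card A₀ = p →
      ¬ (normalizer (A₀ : Set G) ≤ M ∧ ∀ L' : Subgroup G, IsCoatom L' →
        normalizer (A₀ : Set G) ≤ L' → L' = M)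
  swap
  · push Not at hno
    obtain ⟨A₀, h1, -, h3, -⟩ := hno
    exact ((Subgroup.centralizer_le h1).trans (Subgroup.centralizer_le_normalizer _)).trans h3
  obtain ⟨hE, hpσ, -, hnil⟩ := ea2_no_nz hG hM hAM hAe hAc hno
  obtain ⟨P, hP⟩ := L.exists_sylIn (p := p) (sigmaCore M)
  have hPM : SylIn p P M := sylIn_of_sigmaCore hG hM hpσ hP
  have hPn : M ≤ normalizer (P : Set G) := sylIn_normal hnil hP (le_nz_sigmaCore M)
  have hAP : A ≤ P := by
    obtain ⟨x, hx, hxA⟩ := hPM.exists_conj_le hE.isPGroup hAM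
    rw [L.cj_le_iff] at hxA
    have := L.mem_nz_iff.1 (hPn (M.inv_mem hx))
    rwa [this] at hxA
  by_cases hab : IsMulCommutative P
  · have hAn : M ≤ normalizer (A : Set G) := by
      intro g hg
      have hPg : cj g P = P := L.mem_nz_iff.1 (hPn hg)
      rw [L.mem_nz_iff]
      apply L.eq_of_le_of_card_le _ (by rw [L.card_cj])
      rintro _ ⟨a, ha, rfl⟩
      have h1 : (MulAut.conj g).toMonoidHom a ∈ P := hPg ▸ ⟨a, hAP ha, rfl⟩
      refine hE.mem ?_ ?_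
      · exact Subgroup.centralizer_le hAP (isMulCommutative_iff_le.1 hab h1)
      · rw [← map_pow, hAe.2 a ha, map_one]
    rw [← coatom_normalizer_eq hG hM hE.ne_bot hAM hAn]
    exact Subgroup.centralizer_le_normalizer _
  · obtain ⟨z1, z2, -, -, -⟩ := hE.struct hG hPM.isPGroup hAP hab
    exfalso
    have hZn : normalizer ((omZ p P : Subgroup G) : Set G) = M :=
      coatom_normalizer_eq hG hM (ne_bot_of_card z1) (z2.trans hAM)
        (hPn.trans (normalizer_le_normalizer_omZ p P))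
    exact hno _ z2 z1 ⟨hZn.le, fun L' hL h => coatom_eq_of_le hM hL (hZn ▸ h)⟩

end
end Cfsg.Agent.H12.BG
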