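import Cfsg.Agent.H12.BgF

set_option autoImplicit false
set_option linter.unusedSectionVars false
set_option linter.style.haveILetI false
set_option linter.unusedVariables false

/-! BG 12.1 -/

namespace Cfsg.Agent.H12.BG

open Subgroup
open Cfsg.Agent.L (cj nz SylIn)
open Cfsg.Agent.H14 (IsPiSub)
open Cfsg.Agent.OOT
open scoped commutatorElement

universe u

variable {G : Type u} [Group G] [Finite G]

section
variable (hG : IsMinSimpleOddOrder G)
include hG

theorem compl_card {M E : Subgroup G} (hE : IsComplIn E (sigmaCore M) M) :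
    Nat.card E * Nat.card (sigmaCore M) = Nat.card M := by
  have := (IsComplIn.isComplement' hE).card_mul_card
  rwa [card_subgroupOf hE.1, card_subgroupOf hE.2.1] at this

theorem compl_hall {M E : Subgroup G} (hM : IsCoatom M) (hE : IsComplIn E (sigmaCore M) M) :
    IsPiHallOf {r | r ∉ sigma M} E M := by
  have hc := compl_card hG hE
  have h1 := L.card_mul_relIndex hE.1
  have h2 := L.card_mul_relIndex hE.2.1
  have hE0 : 0 < Nat.card E := Nat.card_pos
  have hs0 : 0 < Nat.card (sigmaCore M) := Nat.card_pos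
  have e1 : E.relIndex M = Nat.card (sigmaCore M) := Nat.eq_of_mul_eq_mul_left hE0 (by rw [h1, hc])
  have e2 : (sigmaCore M).relIndex M = Nat.card E :=
    Nat.eq_of_mul_eq_mul_left hs0 (by rw [h2, ← hc, mul_comm])
  refine ⟨hE.1, fun r hr hd hrσ => ?_, fun r hr hrσ hd => ?_⟩
  · exact (sigmaCore_hall hG hM).2.2 r hr hrσ (e2 ▸ hd)
  · exact hrσ ((sigmaCore_hall hG hM).2.1 r hr (e1 ▸ hd))

theorem compl_isPi {M E : Subgroup G} (hM : IsCoatom M) (hE : IsComplIn E (sigmaCore M) M) :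
    IsPiSub {r | r ∉ sigma M} E := IsPiHallOf.isPi (compl_hall hG hM hE)

omit hG in
theorem compl_sup {M E : Subgroup G} (hE : IsComplIn E (sigmaCore M) M) : sigmaCore M ⊔ E = M := by
  apply le_antisymm (sup_le hE.2.1 hE.1)
  intro m hm
  obtain ⟨a, ha, b, hb, rfl⟩ := hE.2.2.2 m hm
  exact mul_mem (mem_sup_right ha) (mem_sup_left hb)

/-- a Sylow `p`-subgroup of `E`, `p ∉ σ(M)`, is a Sylow `p`-subgroup of `M` -/
theorem compl_sylow {M E T : Subgroup G} {p : ℕ} [hp : Fact p.Prime] (hM : IsCoatom M)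
    (hE : IsComplIn E (sigmaCore M) M) (hpσ : p ∉ sigma M) (hT : SylIn p T E) : SylIn p T M := by
  rw [sylIn_iff_hallOf] at hT ⊢
  exact IsPiHallOf.trans (by rintro r rfl; exact hpσ) hT (compl_hall hG hM hE)

/-- BG 12.1: `E'` is nilpotent -/
theorem compl_derived_nilpotent {M E : Subgroup G} (hM : IsCoatom M)
    (hE : IsComplIn E (sigmaCore M) M) : Group.IsNilpotent ↥⁅E, E⁆ := by
  refine beta'_nilpotent hG hM (Subgroup.commutator_mono hE.1 hE.1) ?_
  intro q hq hqd hqβ
  have h1 : q ∣ Nat.card E := hqd.trans (Subgroup.card_dvd_of_le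
    (H23.commutator_le_of_le_normalizer Subgroup.le_normalizer))
  exact compl_isPi hG hM hE q hq h1 (alpha_subset_sigma hG hM (beta_subset_alpha M hqβ))

/-- BG 12.1: Hall `τ₁`-subgroups are cyclic -/
theorem tau1_cyclic {M E₁ : Subgroup G} (hM : IsCoatom M) (hEM : E₁ ≤ M)
    (h1 : IsPiSub (tau1 M) E₁) : IsCyclic E₁ := by
  have h2 : E₁ ⊓ ⁅M, M⁆ = ⊥ := by
    apply Subgroup.inf_eq_bot_of_coprime
    apply Nat.Coprime.symm
    apply Nat.coprime_of_dvd
    intro k hk hk2 hk3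
    exact (h1 k hk hk3).2.2.2.1 hk2
  have h3 : ⁅E₁, E₁⁆ = ⊥ := by
    rw [eq_bot_iff, ← h2]
    exact le_inf (H23.commutator_le_of_le_normalizer Subgroup.le_normalizer)
      (Subgroup.commutator_mono hEM hEM)
  have h4 : IsMulCommutative E₁ := by
    rw [isMulCommutative_iff_le]
    exact Subgroup.commutator_eq_bot_iff_le_centralizer.1 h3
  have h5 : Group.IsNilpotent E₁ := by
    letI : CommGroup E₁ := { (inferInstance : Group E₁) with mul_comm := fun a b => h4.is_comm.comm a b }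
    infer_instance
  refine isCyclic_of_rank_one_nilpotent (odd_sub hG _) h5 ?_
  intro r hr
  haveI : Fact r.Prime := ⟨hr⟩
  by_cases hd : r ∣ Nat.card E₁
  · have := (h1 r hr hd).2.2.2.2
    exact H10.pRankLE_mono hEM this
  · exact pRankLE_of_not_dvd hd

/-- Sylow `p`-subgroups of `M` for `p ∉ σ(M)` of `p`-rank one are cyclic -/
theorem sylow_cyclic_of_rank_one {M T : Subgroup G} {p : ℕ} [hp : Fact p.Prime]
    (hpM : p ∣ Nat.card M) (hr : PRankLE p 1 M) (hT : IsPGroup p T) (hTM : T ≤ M) : IsCyclic T :=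
  isCyclic_of_pRankLE_one (prime_ne_two hG hpM) hT (H10.pRankLE_mono hTM hr)

/-- the Sylow `p`-subgroups, `p ∈ τ₃(M)`, of the complement `E` lie in `E'` -/
theorem tau3_sylow_le {M E T : Subgroup G} {p : ℕ} [hp : Fact p.Prime] (hM : IsCoatom M)
    (hE : IsComplIn E (sigmaCore M) M) (hpτ : p ∈ tau3 M) (hT : SylIn p T E) : T ≤ ⁅E, E⁆ := by
  obtain ⟨-, hpσ, hpd, hr⟩ := hpτ
  have hTM : SylIn p T M := compl_sylow hG hM hE hpσ hT
  have hMM : ⁅M, M⁆ ≤ M := H23.commutator_le_of_le_normalizer Subgroup.le_normalizer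
  have hcyc : IsCyclic T := sylow_cyclic_of_rank_one hG
    (hpd.trans (Subgroup.card_dvd_of_le hMM)) hr hT.isPGroup hTM.le
  have hTd : T ≤ ⁅M, M⁆ := by
    haveI : IsCyclic (hTM.toSylow : Subgroup M) := by
      rw [L.SylIn.toSylow_coe]
      exact isCyclic_of_surjective _ (Subgroup.subgroupOfEquivOfLe hTM.le).symm.surjective
    have h1 : p ∣ Nat.card (commutator M) := by
      rw [← map_commutator_subtype, Subgroup.card_map_of_injective M.subtype_injective] at hpd
      exact hpd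
    have h2 := (Sylow.not_dvd_card_commutator_or_not_dvd_index_commutator
      hTM.toSylow).resolve_left (fun h => h h1)
    have h3 := le_map_of_index (p := p) (N := commutator M) inferInstance h2 hTM.le hT.isPGroup
    rwa [map_commutator_subtype] at h3
  refine derived_of_frattini (coatom_sol hG hM) hE.2.1 (le_nz_sigmaCore M) hE.1 (compl_sup hE)
    hT.le ?_ hTd
  refine coprime_of_isPGroup hT.isPGroup ?_
  rw [coprime_iff_not_dvd hp.out]
  exact fun hd => hpσ (isPiSub_sigmaCore M p hp.out hd)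

/-- BG 12.1 for `τ₃` -/
theorem tau3_struct {M E E₃ : Subgroup G} (hM : IsCoatom M)
    (hE : IsComplIn E (sigmaCore M) M) (h3 : IsPiHallOf (tau3 M) E₃ E) :
    IsCyclic E₃ ∧ E₃ ≤ ⁅E, E⁆ ∧ E ≤ normalizer (E₃ : Set G) := by
  have hsyl : ∀ q : ℕ, q.Prime → q ∣ Nat.card E₃ → ∃ T, SylIn q T E₃ ∧ T ≤ ⁅E, E⁆ ∧
      SylIn q T E := by
    intro q hq hqd
    haveI : Fact q.Prime := ⟨hq⟩
    obtain ⟨T, hT⟩ := L.exists_sylIn (p := q) E₃
    have hqτ := h3.2.1 q hq hqd
    have hTE : SylIn q T E := by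
      have h4 := hT
      rw [sylIn_iff_hallOf] at h4 ⊢
      exact IsPiHallOf.trans (by rintro r rfl; exact hqτ) h4 h3
    exact ⟨T, hT, tau3_sylow_le hG hM hE hqτ hTE, hTE⟩
  have hle : E₃ ≤ ⁅E, E⁆ := by
    refine le_of_sylIn_le fun q hq hqd => ?_
    obtain ⟨T, h1, h2, -⟩ := hsyl q hq hqd
    exact ⟨T, h1, h2⟩
  have hnil := compl_derived_nilpotent hG hM hE
  have hEE : ⁅E, E⁆ ≤ E := H23.commutator_le_of_le_normalizer Subgroup.le_normalizer
  have hn3 : Group.IsNilpotent E₃ :=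
    H10.isNilpotent_of_le hle hnil
  refine ⟨?_, hle, ?_⟩
  · refine isCyclic_of_rank_one_nilpotent (odd_sub hG _) hn3 ?_
    intro r hr
    haveI : Fact r.Prime := ⟨hr⟩
    by_cases hd : r ∣ Nat.card E₃
    · exact H10.pRankLE_mono (h3.1.trans hE.1) (h3.2.1 r hr hd).2.2.2
    · exact pRankLE_of_not_dvd hd
  · intro x hx
    rw [L.mem_nz_iff]
    apply L.eq_of_le_of_card_le _ (by rw [L.card_cj])
    refine le_of_sylIn_le fun q hq hqd => ?_
    rw [L.card_cj] at hqd
    haveI : Fact q.Prime := ⟨hq⟩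
    obtain ⟨T, h1, h2, h4⟩ := hsyl q hq hqd
    refine ⟨cj x T, h1.cj x, ?_⟩
    have h5 : E ≤ normalizer (T : Set G) :=
      sylIn_normal hnil (h4.of_le h2 hEE) (by
        intro y hy
        rw [L.mem_nz_iff, L.cj_commutator, L.cj_eq_self_of_mem hy])
    rw [L.mem_nz_iff.1 (h5 hx)]
    exact h1.le

end
end Cfsg.Agent.H12.BG
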