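import Cfsg.Agent.H12.BgG

set_option autoImplicit false
set_option linter.unusedSectionVars false
set_option linter.style.haveILetI false
set_option linter.unusedVariables false

/-! BG 12.5 - 12.6 -/

namespace Cfsg.Agent.H12.BG

open Subgroup
open Cfsg.Agent.L (cj nz SylIn)
open Cfsg.Agent.H14 (IsPiSub)
open Cfsg.Agent.OOT
open scoped commutatorElement

universe u

variable {G : Type u} [Group G] [Finite G]

/-- `M` maximal, `p ∉ σ(M)`, `A ≤ M` elementary abelian of order `p²` (so `p ∈ τ₂(M)`). -/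
structure Tau2 (M : Subgroup G) (p : ℕ) (A : Subgroup G) : Prop where
  coatom : IsCoatom M
  nsig : p ∉ sigma M
  le : A ≤ M
  ea : IsElementaryAbelian p A
  card : Nat.card A = p ^ 2

section
variable (hG : IsMinSimpleOddOrder G) {p : ℕ} [hp : Fact p.Prime] {M A : Subgroup G}
include hG

theorem Tau2.exc (h : Tau2 M p A) : ∃ A₀ : Subgroup G, Exc M p A A₀ := by
  by_contra hc
  push Not at hc
  refine h.nsig (ea2_no_nz hG h.coatom h.le h.ea h.card ?_).2.1
  rintro A₀ h1 h2 ⟨h3, -⟩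
  exact hc A₀ ⟨h.coatom, h.nsig, h.le, h.ea, h.card, h1, h2, h3⟩

theorem Tau2.e2s (h : Tau2 M p A) : E2s p A :=
  E2s.of_not_sigma hG h.coatom h.nsig h.le h.ea h.card

theorem Tau2.cent_le (h : Tau2 M p A) : centralizer (A : Set G) ≤ M := by
  obtain ⟨A₀, h0⟩ := h.exc hG
  exact h0.cent_le

theorem Tau2.nilpotent (h : Tau2 M p A) : Group.IsNilpotent (sigmaCore M) := by
  obtain ⟨A₀, h0⟩ := h.exc hG
  exact h0.nilpotent hG

theorem Tau2.dvd (h : Tau2 M p A) : p ∣ Nat.card M :=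
  (by rw [h.card]; exact dvd_pow_self p two_ne_zero :
    p ∣ Nat.card A).trans (Subgroup.card_dvd_of_le h.le)

theorem Tau2.ne_two (h : Tau2 M p A) : p ≠ 2 := prime_ne_two hG (h.dvd hG)

omit hG in
theorem Tau2.cj_mem (h : Tau2 M p A) {g : G} (hg : g ∈ M) : Tau2 M p (cj g A) :=
  ⟨h.coatom, h.nsig, (L.cj_mono h.le).trans (L.cj_eq_self_of_mem hg).le, isEA_cj h.ea,
    by rw [L.card_cj, h.card]⟩

theorem Tau2.coprime_sigma' (h : Tau2 M p A) : (Nat.card (sigmaCore M)).Coprime p := by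
  obtain ⟨A₀, h0⟩ := h.exc hG
  exact h0.coprime_sigma' hG

/-- 12.5(b), part -/
theorem Tau2.sylow_abelian (h : Tau2 M p A) {P : Subgroup G} (hP : IsPGroup p P) (hPM : P ≤ M) :
    IsMulCommutative P := by
  obtain ⟨T, hT, hPT⟩ := L.exists_sylIn_ge hP hPM
  refine isMulCommutative_mono hPT ?_
  obtain ⟨x, hx, hxA⟩ := hT.exists_conj_le (isEA_isPGroup h.ea) h.le
  obtain ⟨A₀, h0⟩ := (h.cj_mem hx).exc hG
  exact h0.sylow_abelian hG hT hxA

theorem Tau2.sylow_mem (h : Tau2 M p A) {P : Subgroup G} (hP : IsPGroup p P) (hPM : P ≤ M)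
    (hAP : A ≤ P) {x : G} (hx : x ∈ P) : x ^ p = 1 ↔ x ∈ A := by
  refine ⟨fun hxp => (h.e2s hG).mem ?_ hxp, fun hxA => h.ea.2 x hxA⟩
  rw [Subgroup.mem_centralizer_iff]
  intro a ha
  exact isMulCommutative_iff'.1 (h.sylow_abelian hG hP hPM) a (hAP ha) x hx

theorem Tau2.nz_sylow_le (h : Tau2 M p A) {P : Subgroup G} (hP : SylIn p P M) (hAP : A ≤ P) :
    normalizer (P : Set G) ≤ normalizer (A : Set G) := by
  obtain ⟨A₀, h0⟩ := h.exc hG
  exact h0.nz_sylow_le hG hP hAP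

theorem Tau2.nz_not_le (h : Tau2 M p A) {P : Subgroup G} (hP : SylIn p P M) :
    ¬ normalizer (P : Set G) ≤ M := fun hc => h.nsig (mem_sigma_of_sylIn hG hP (h.dvd hG) hc)

theorem Tau2.le_nz_sup (h : Tau2 M p A) :
    M ≤ normalizer ((sigmaCore M ⊔ A : Subgroup G) : Set G) := by
  obtain ⟨A₀, h0⟩ := h.exc hG
  exact h0.le_nz_sup hG

omit hG hp in
theorem Tau2.le_nz_sigma (h : Tau2 M p A) : A ≤ normalizer ((sigmaCore M : Subgroup G) : Set G) :=
  h.le.trans (le_nz_sigmaCore M)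

/-- 12.5(d) -/
theorem Tau2.inf_cent (h : Tau2 M p A) : sigmaCore M ⊓ centralizer (A : Set G) = ⊥ := by
  by_contra hne
  obtain ⟨q, hq, hqd⟩ := Nat.exists_prime_and_dvd
    (n := Nat.card ↥(sigmaCore M ⊓ centralizer (A : Set G)))
    (by rw [Ne, Subgroup.card_eq_one]; exact hne)
  haveI : Fact q.Prime := ⟨hq⟩
  have hqσ : q ∈ sigma M := isPiSub_sigmaCore M q hq
    (hqd.trans (Subgroup.card_dvd_of_le inf_le_left))
  have hqp : q ≠ p := by rintro rfl; exact h.nsig hqσ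
  obtain ⟨Q, hQ, hAQ⟩ := exists_inv_syl h.le_nz_sigma
    (coprime_of_isPGroup (h.e2s hG).isPGroup (h.coprime_sigma' hG))
    (Or.inl (H23.isSolvable_of_isPGroup (h.e2s hG).isPGroup)) q
  have hQM := sylIn_of_sigmaCore hG h.coatom hqσ hQ
  obtain ⟨P, hP, hAP, hPQ, -, hN, -⟩ := (h.e2s hG).signalizer hG hqp
    (hqd.trans (Subgroup.card_dvd_of_le inf_le_right))
    (maxInv_of_sylow (sigma_sylow_top hG h.coatom hqσ hQM) hAQ)
  have hNQ := sigma_nz_le hG hqσ hQM
  have hNP : normalizer (P : Set G) ≤ M := by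
    rw [hN]
    exact sup_le ((Subgroup.centralizer_le hAP).trans (h.cent_le hG)) (inf_le_right.trans hNQ)
  exact h.nsig (mem_sigma_of_sylIn hG (hP.of_le (hPQ.trans hNQ) le_top) (h.dvd hG) hNP)

/-- 12.5(f) -/
theorem Tau2.exists_fpf (h : Tau2 M p A) : ∃ A₁ : Subgroup G, A₁ ≤ A ∧ Nat.card A₁ = p ∧
    sigmaCore M ⊓ centralizer (A₁ : Set G) = ⊥ := by
  obtain ⟨A₀, h0⟩ := h.exc hG
  obtain ⟨P, hP, hAP⟩ := L.exists_sylIn_ge (h.e2s hG).isPGroup h.le
  obtain ⟨g, hgN, hgM⟩ := h0.exists_not_mem hG hP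
  have hPg : cj g P = P := L.mem_nz_iff.1 hgN
  refine ⟨cj g A₀, ?_, by rw [L.card_cj, h0.card₀],
    h0.inf_cent hG hgM (hAP.trans (hPg ▸ L.cj_mono hP.le))⟩
  exact (L.cj_mono h0.le₀).trans (L.mem_nz_iff.1 (h.nz_sylow_le hG hP hAP hgN)).le

/-- 12.5(e) -/
theorem Tau2.inf_other (h : Tau2 M p A) {Ms : Subgroup G} (hMs : IsCoatom Ms) (hne : Ms ≠ M)
    (hAMs : A ≤ Ms) : sigmaCore M ⊓ Ms = ⊥ := by
  by_contra hbot
  have hA := h.e2s hG
  have hM := h.coatom
  have hAs : Group.IsSolvable A := H23.isSolvable_of_isPGroup hA.isPGroup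
  obtain ⟨q, hq, hqd⟩ := Nat.exists_prime_and_dvd
    (n := Nat.card ↥(sigmaCore M ⊓ Ms)) (by rw [Ne, Subgroup.card_eq_one]; exact hbot)
  haveI : Fact q.Prime := ⟨hq⟩
  have hqσ : q ∈ sigma M := isPiSub_sigmaCore M q hq
    (hqd.trans (Subgroup.card_dvd_of_le inf_le_left))
  have hqp : q ≠ p := by rintro rfl; exact h.nsig hqσ
  have hcop : ∀ K : Subgroup G, (Nat.card K).Coprime p → (Nat.card A).Coprime (Nat.card K) :=
    fun K hK => coprime_of_isPGroup hA.isPGroup hK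
  have hn : A ≤ normalizer ((sigmaCore M ⊓ Ms : Subgroup G) : Set G) := by
    intro x hx
    rw [L.mem_nz_iff, L.cj_inf, L.mem_nz_iff.1 (h.le_nz_sigma hx),
      L.cj_eq_self_of_mem (hAMs hx)]
  obtain ⟨Q₀, hQ₀, hAQ₀⟩ := exists_inv_syl hn (hcop _ (Nat.Coprime.coprime_dvd_left
    (Subgroup.card_dvd_of_le inf_le_left) (h.coprime_sigma' hG))) (Or.inl hAs) q
  have hQ₀1 : Q₀ ≠ ⊥ := by
    rintro rfl
    apply hQ₀.not_dvd
    rwa [Subgroup.relIndex_bot_left]
  obtain ⟨Q, hQ, hAQ, hQ₀Q⟩ := exists_inv_syl_ge h.le_nz_sigma (hcop _ (h.coprime_sigma' hG))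
    (Or.inl hAs) (hQ₀.le.trans inf_le_left) hQ₀.isPGroup hAQ₀
  have hQM := sylIn_of_sigmaCore hG hM hqσ hQ
  have hQt := sigma_sylow_top hG hM hqσ hQM
  have hQ₀Ms : Q₀ ≤ Ms := hQ₀.le.trans inf_le_right
  by_cases hps : p ∈ sigma Ms
  · -- `N_{Ms}(A) ≤ M`
    have hNA : Ms ⊓ nz A ≤ M := by
      rintro x ⟨hx1, hx2⟩
      have hAx : cj x A = A := L.mem_nz_iff.1 hx2
      have hQx : cj x Q ∈ maxInvSubgroups ⊤ A {q} := by
        have := inv_cj (k := x) (maxInv_of_sylow hQt hAQ)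
        rwa [hAx] at this
      have hne1 : ∀ {X Y : Subgroup G}, Q₀ ≤ X → Q₀ ≤ Y → X ⊓ Y ≠ ⊥ := fun h1 h2 e =>
        hQ₀1 (le_bot_iff.1 (e ▸ le_inf h1 h2))
      have hne2 : Ms ⊓ cj x Q ≠ ⊥ := by
        intro e
        apply hQ₀1
        rw [← L.cj_eq_bot (g := x), eq_bot_iff, ← e]
        exact le_inf ((L.cj_mono hQ₀Ms).trans (L.cj_eq_self_of_mem hx1).le) (L.cj_mono hQ₀Q)
      obtain ⟨k, hk, hk2⟩ := hA.meet_trans hG hqp (maxInv_of_sylow hQt hAQ) hQx hMs.1 hAMs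
        (hne1 hQ₀Ms hQ₀Q) hne2
      have hkM : k ∈ M := h.cent_le hG hk
      have h1 : k⁻¹ * x ∈ M := by
        apply sigma_nz_le hG hqσ hQM
        rw [L.mem_nz_iff, ← L.cj_cj, hk2, L.cj_inv_cj]
      have := M.mul_mem hkM h1
      rwa [mul_inv_cancel_left] at this
    obtain ⟨S, hS, hAS⟩ := L.exists_sylIn_ge hA.isPGroup hAMs
    have hSt := sigma_sylow_top hG hMs hps hS
    have hNS : S ⊓ nz A ≤ centralizer (A : Set G) := by
      have h1 : IsMulCommutative ↥(S ⊓ nz A) :=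
        h.sylow_abelian hG (hS.isPGroup.to_le inf_le_left) ((inf_le_inf_right _ hS.le).trans hNA)
      exact (isMulCommutative_iff_le.1 h1).trans
        (Subgroup.centralizer_le (le_inf hAS (L.le_nz A)))
    have hSab : IsMulCommutative S := by
      by_contra hna
      obtain ⟨z1, z2, -, -, tr⟩ := hA.struct hG hS.isPGroup hAS hna
      obtain ⟨A₁, hA₁, hA₁c, hA₁ne⟩ := exists_ne_order_p hA.ea hA.card z1
      -- a third subgroup of order `p`
      obtain ⟨A₂, hA₂, hA₂c, hA₂ne, hA₂ne'⟩ : ∃ A₂ : Subgroup G, A₂ ≤ A ∧ Nat.card A₂ = p ∧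
          A₂ ≠ omZ p S ∧ A₂ ≠ A₁ := by
        obtain ⟨z, hz, hz1⟩ := exists_mem_ne_one (ne_bot_of_card z1)
        obtain ⟨a, ha, ha1⟩ := exists_mem_ne_one (ne_bot_of_card hA₁c)
        have hzA := z2 hz
        have haA := hA₁ ha
        have haz : z * a ∈ A := A.mul_mem hzA haA
        have hi : omZ p S ⊓ A₁ = ⊥ := inf_eq_bot_of_card_prime z1 hA₁c (Ne.symm hA₁ne)
        have h1 : z * a ≠ 1 := by
          intro e
          apply hz1
          have : z ∈ omZ p S ⊓ A₁ := ⟨hz, by rw [eq_inv_of_mul_eq_one_left e]; exact A₁.inv_mem ha⟩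
          rwa [hi, Subgroup.mem_bot] at this
        refine ⟨zpowers (z * a), by rwa [Subgroup.zpowers_le],
          card_zpowers_eq_prime (h.ea.2 _ haz) h1, ?_, ?_⟩
        · intro e
          apply ha1
          have h2 : z * a ∈ omZ p S := e ▸ Subgroup.mem_zpowers _
          have h3 : a ∈ omZ p S := by
            have := (omZ p S).mul_mem ((omZ p S).inv_mem hz) h2
            rwa [inv_mul_cancel_left] at this
          have : a ∈ omZ p S ⊓ A₁ := ⟨h3, ha⟩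
          rwa [hi, Subgroup.mem_bot] at this
        · intro e
          apply hz1
          have h2 : z * a ∈ A₁ := e ▸ Subgroup.mem_zpowers _
          have h3 : z ∈ A₁ := by
            have := A₁.mul_mem h2 (A₁.inv_mem ha)
            rwa [mul_inv_cancel_right] at this
          have : z ∈ omZ p S ⊓ A₁ := ⟨hz, h3⟩
          rwa [hi, Subgroup.mem_bot] at this
      obtain ⟨x, hx, hxA⟩ := tr A₁ A₂ hA₁ hA₁c hA₁ne hA₂ hA₂c hA₂ne
      apply hA₂ne'
      rw [← hxA]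
      exact L.mem_nz_iff.1 (Subgroup.centralizer_le_normalizer _
        (Subgroup.centralizer_le hA₁ (hNS hx)))
    have hSM : S ≤ M := by
      refine le_trans ?_ (h.cent_le hG)
      exact (isMulCommutative_iff_le.1 hSab).trans (Subgroup.centralizer_le hAS)
    have hSM' : SylIn p S M := hSt.of_le hSM le_top
    refine h.nz_not_le hG hSM' ?_
    refine le_trans (le_inf (sigma_nz_le hG hps hS) (h.nz_sylow_le hG hSM' hAS)) hNA
  · have h' : Tau2 Ms p A := ⟨hMs, hps, hAMs, h.ea, h.card⟩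
    have h1 : ⁅Q₀, A⁆ ≤ sigmaCore Ms ⊔ A := by
      have : ⁅Q₀, (sigmaCore Ms ⊔ A : Subgroup G)⁆ ≤ sigmaCore Ms ⊔ A := by
        rw [Subgroup.commutator_comm]
        exact H23.commutator_le_of_le_normalizer (hQ₀Ms.trans (h'.le_nz_sup hG))
      exact (Subgroup.commutator_mono le_rfl le_sup_right).trans this
    have h2 : ⁅Q₀, A⁆ = Q₀ := by
      have h3 := H23.commutator_sup_centralizer hAQ₀
        (hcop _ (coprime_card_of_ne hp.out (Ne.symm hqp) hQ₀.isPGroup)) (Or.inl hAs)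
      have h4 : Q₀ ⊓ centralizer (A : Set G) = ⊥ := by
        rw [eq_bot_iff, ← h.inf_cent hG]
        exact inf_le_inf_right _ (hQ₀.le.trans inf_le_left)
      rwa [h4, sup_bot_eq] at h3
    rw [h2] at h1
    have hqs : q ∈ sigma Ms := by
      by_contra hqs
      apply hQ₀1
      rw [eq_bot_iff, ← inf_eq_bot_of_isPGroup hQ₀.isPGroup (K := sigmaCore Ms ⊔ A) ?_]
      · exact le_inf le_rfl h1
      · rw [H23.card_sup_of_coprime h'.le_nz_sigma (hcop _ (h'.coprime_sigma' hG))]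
        refine Nat.Coprime.mul_left ?_ (coprime_card_of_ne hq hqp hA.isPGroup)
        rw [coprime_iff_not_dvd hq]
        exact fun hd => hqs (isPiSub_sigmaCore Ms q hq hd)
    obtain ⟨A₀, h0⟩ := h.exc hG
    obtain ⟨g, hg⟩ := conj_of_sigma_sigma hG hM hMs (h.nilpotent hG) hqσ hqs
    have hgM : g ∉ M := fun hc => hne (by rw [← hg, L.cj_eq_self_of_mem hc])
    have h3 := h0.inf_cj hG hgM (hg ▸ hAMs)
    apply hQ₀1
    rw [eq_bot_iff, ← h3]
    exact le_inf (hQ₀.le.trans inf_le_left) (hg ▸ hQ₀Ms)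

/-! ### BG 12.6 -/

/-- 12.6: `A` is normal in the complement -/
theorem Tau2.compl_le_nz (h : Tau2 M p A) {E : Subgroup G} (hE : IsComplIn E (sigmaCore M) M)
    (hAE : A ≤ E) : E ≤ normalizer (A : Set G) := by
  have h1 : E ⊓ (sigmaCore M ⊔ A) = A := by
    apply le_antisymm
    · rintro x ⟨hxE, hx⟩
      obtain ⟨s, hs, a, ha, rfl⟩ := (H23.mem_sup_iff_of_le_normalizer h.le_nz_sigma).1 hx
      have h2 : s ∈ E ⊓ sigmaCore M := by
        refine ⟨?_, hs⟩
        have := E.mul_mem hxE (E.inv_mem (hAE ha))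
        rwa [mul_inv_cancel_right] at this
      rw [hE.2.2.1, Subgroup.mem_bot] at h2
      rwa [h2, one_mul]
    · exact le_inf hAE le_sup_right
  intro x hx
  rw [L.mem_nz_iff]
  nth_rewrite 1 [← h1]
  rw [L.cj_inf, L.cj_eq_self_of_mem hx, L.mem_nz_iff.1 (h.le_nz_sup hG (hE.1 hx)), h1]

/-- 12.6: `A` contains all the elements of order `p` of the complement -/
theorem Tau2.compl_mem (h : Tau2 M p A) {E : Subgroup G} (hE : IsComplIn E (sigmaCore M) M)
    (hAE : A ≤ E) {x : G} (hx : x ∈ E) (hxp : x ^ p = 1) : x ∈ A := by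
  have hn := h.compl_le_nz hG hE hAE
  have hxA : zpowers x ≤ normalizer (A : Set G) := by
    rw [Subgroup.zpowers_le]; exact hn hx
  have hP : IsPGroup p ↥(A ⊔ zpowers x) :=
    IsPGroup.to_sup_of_normal_left' (isEA_isPGroup h.ea) (isEA_isPGroup (isEA_zpowers hxp)) hxA
  refine (h.sylow_mem hG hP (sup_le h.le (by rw [Subgroup.zpowers_le]; exact hE.1 hx)) le_sup_left
    (mem_sup_right (Subgroup.mem_zpowers x))).1 hxp

theorem Tau2.nz_inf_eq (h : Tau2 M p A) {E : Subgroup G} (hE : IsComplIn E (sigmaCore M) M)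
    (hAE : A ≤ E) : M ⊓ normalizer (A : Set G) = E := by
  apply le_antisymm _ (le_inf hE.1 (h.compl_le_nz hG hE hAE))
  rintro x ⟨hxM, hxN⟩
  obtain ⟨e, he, s, hs, rfl⟩ := hE.2.2.2 x hxM
  have hsN : s ∈ normalizer (A : Set G) := by
    have := (normalizer (A : Set G)).mul_mem
      ((normalizer (A : Set G)).inv_mem (h.compl_le_nz hG hE hAE he)) hxN
    rwa [inv_mul_cancel_left] at this
  have hsC : s ∈ centralizer (A : Set G) := by
    rw [Subgroup.mem_centralizer_iff]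
    intro a ha
    have h1 : s * a * s⁻¹ * a⁻¹ ∈ A ⊓ sigmaCore M := by
      refine ⟨A.mul_mem ?_ (A.inv_mem ha), ?_⟩
      · exact (Subgroup.mem_normalizer_iff.1 hsN a).1 ha
      · have h2 : a * s⁻¹ * a⁻¹ ∈ sigmaCore M :=
          H23.mem_normalizer_conj h.le_nz_sigma ha ((sigmaCore M).inv_mem hs)
        have := (sigmaCore M).mul_mem hs h2
        simpa [mul_assoc] using this
    have h2 : A ⊓ sigmaCore M = ⊥ :=
      inf_eq_bot_of_isPGroup (isEA_isPGroup h.ea) (h.coprime_sigma' hG)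
    rw [h2, Subgroup.mem_bot, mul_inv_eq_one, mul_inv_eq_iff_eq_mul] at h1
    exact h1.symm
  have hs1 : s ∈ sigmaCore M ⊓ centralizer (A : Set G) := ⟨hs, hsC⟩
  rw [h.inf_cent hG, Subgroup.mem_bot] at hs1
  rw [hs1, mul_one]
  exact he

theorem Tau2.nz_not_le' (h : Tau2 M p A) : ¬ normalizer (A : Set G) ≤ M := by
  intro hc
  obtain ⟨P, hP, hAP⟩ := L.exists_sylIn_ge (h.e2s hG).isPGroup h.le
  exact h.nz_not_le hG hP ((h.nz_sylow_le hG hP hAP).trans hc)

/-- 12.6, last part; for arbitrary subgroups `X` centralized by `A` -/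
theorem Tau2.cent_only (h : Tau2 M p A) {X : Subgroup G} (hX1 : X ≠ ⊥)
    (hXA : X ≤ centralizer (A : Set G))
    (hX : sigmaCore M ⊓ centralizer (X : Set G) ≠ ⊥) :
    centralizer (X : Set G) ≤ M ∧ ∀ L' : Subgroup G, IsCoatom L' → centralizer (X : Set G) ≤ L' →
      L' = M := by
  have h1 : ∀ L' : Subgroup G, IsCoatom L' → centralizer (X : Set G) ≤ L' → L' = M := by
    intro L' hL hXL
    by_contra hne
    apply hX
    rw [eq_bot_iff, ← h.inf_other hG hL hne ?_]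
    · exact inf_le_inf_left _ hXL
    · rw [Subgroup.le_centralizer_iff] at hXA
      exact hXA.trans hXL
  obtain ⟨Ms, hMs, hXM⟩ := exists_coatom_ge (centralizer_ne_top hG hX1)
  exact ⟨h1 Ms hMs hXM ▸ hXM, h1⟩

end
end Cfsg.Agent.H12.BG
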