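import Cfsg.Agent.H12.BgH

set_option autoImplicit false
set_option linter.unusedSectionVars false
set_option linter.style.haveILetI false
set_option linter.unusedVariables false

/-! BG 12.7 -/

namespace Cfsg.Agent.H12.BG

open Subgroup
open Cfsg.Agent.L (cj nz SylIn)
open Cfsg.Agent.H14 (IsPiSub)
open Cfsg.Agent.OOT
open scoped commutatorElement

universe u

variable {G : Type u} [Group G] [Finite G]

theorem pow_eq_one_of_card {p : ℕ} {X : Subgroup G} (hX : Nat.card X = p) {x : G} (hx : x ∈ X) :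
    x ^ p = 1 := by
  have h1 := pow_card_eq_one' (G := X) (x := ⟨x, hx⟩)
  rw [hX] at h1
  exact congrArg Subtype.val h1

section
variable (hG : IsMinSimpleOddOrder G) {p : ℕ} [hp : Fact p.Prime] {M A : Subgroup G}
include hG

theorem tau2_of_ea {q : ℕ} [hq : Fact q.Prime] {B : Subgroup G} (hM : IsCoatom M)
    (hqσ : q ∉ sigma M) (hB : B ≤ M) (hBe : IsElementaryAbelian q B) (hBc : Nat.card B = q ^ 2) :
    q ∈ tau2 M :=
  ⟨hq.out, hqσ, pRankLE_two_of_not_sigma hG hM hq.out hqσ,
    not_pRankLE_of_ea hB hBe (by rw [hBc])⟩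

/-- for `q ∈ τ₂(M)` there is an elementary abelian subgroup of order `q²` in the complement -/
theorem exists_tau2_compl {E : Subgroup G} {q : ℕ} [hq : Fact q.Prime] (hM : IsCoatom M)
    (hE : IsComplIn E (sigmaCore M) M) (hqτ : q ∈ tau2 M) : ∃ B : Subgroup G, B ≤ E ∧
      Tau2 M q B := by
  obtain ⟨-, hqσ, -, hr⟩ := hqτ
  obtain ⟨B, hB, hBe, hBc⟩ := exists_ea_of_not_pRankLE hr
  obtain ⟨g, hg, hgB⟩ := IsPiHallOf.exists_conj_le (coatom_sol hG hM) (compl_hall hG hM hE) hB
    (isPiSub_of_isPGroup (π := {r | r ∉ sigma M}) hqσ (isEA_isPGroup hBe))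
  exact ⟨cj g B, hgB, ⟨hM, hqσ, hgB.trans hE.1, isEA_cj hBe, by rw [L.card_cj, hBc]⟩⟩

/-- two primes in `τ₂(M)` -/
theorem Tau2.commute (h : Tau2 M p A) {E : Subgroup G} (hE : IsComplIn E (sigmaCore M) M)
    (hAE : A ≤ E) {q : ℕ} [hq : Fact q.Prime] (hqp : q ≠ p) {B : Subgroup G} (hB : Tau2 M q B)
    (hBE : B ≤ E) : B ≤ centralizer (A : Set G) := by
  have h1 : ⁅B, A⁆ ≤ B ⊓ A := le_inf
    (H23.commutator_le_of_le_normalizer (hAE.trans (hB.compl_le_nz hG hE hBE)))
    (by rw [Subgroup.commutator_comm]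
        exact H23.commutator_le_of_le_normalizer (hBE.trans (h.compl_le_nz hG hE hAE)))
  have h2 : B ⊓ A = ⊥ := inf_eq_bot_of_isPGroup (isEA_isPGroup hB.ea)
    (coprime_card_of_ne hq.out hqp (isEA_isPGroup h.ea))
  rw [h2, le_bot_iff] at h1
  exact Subgroup.commutator_eq_bot_iff_le_centralizer.1 h1

/-- if `p, q ∈ τ₂(M)` are different, `C_G(A)` contains a Sylow `q`-subgroup of `G`:
with the roles of `A`, `B` exchanged, a Sylow `p`-subgroup of `G` containing `A` centralizes `B`. -/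
theorem Tau2.sylow_cent (h : Tau2 M p A) {E : Subgroup G} (hE : IsComplIn E (sigmaCore M) M)
    (hAE : A ≤ E) {q : ℕ} [hq : Fact q.Prime] (hqp : q ≠ p) {B : Subgroup G} (hB : Tau2 M q B)
    (hBE : B ≤ E) : ∃ P, SylIn p P ⊤ ∧ A ≤ P ∧ P ≤ centralizer (B : Set G) ∧ P ≤ M := by
  have hBA := h.commute hG hE hAE hqp hB hBE
  have hqC : q ∣ Nat.card (centralizer (A : Set G)) :=
    (by rw [hB.card]; exact dvd_pow_self q two_ne_zero :
      q ∣ Nat.card B).trans (Subgroup.card_dvd_of_le hBA)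
  have hAB : A ≤ centralizer (B : Set G) := by rwa [Subgroup.le_centralizer_iff]
  obtain ⟨R, hR, hBR⟩ := exists_maxInv_ge (H := ⊤) (A := A) (π := {q}) (R := B)
    (mem_inv_iff.2 ⟨le_top, isEA_isPGroup hB.ea,
      hAB.trans (Subgroup.centralizer_le_normalizer _)⟩)
  obtain ⟨P, hP, hAP, -, -, -, hnar⟩ := (h.e2s hG).signalizer hG hqp hqC hR
  have hnR : IsNarrow q R := by
    obtain ⟨e1, e2, e3⟩ := (hB.e2s hG).subgroupOf hBR
    exact narrow_of_max_ea q (hB.ne_two hG) (maxInv_isPGroup hR) _ e1 e2 e3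
  have hPB : P ≤ centralizer (B : Set G) := (hnar hnR).trans (Subgroup.centralizer_le hBR)
  exact ⟨P, hP, hAP, hPB, hPB.trans (hB.cent_le hG)⟩

/-- BG 12.7 -/
theorem Tau2.nonab (h : Tau2 M p A) {E : Subgroup G} (hE : IsComplIn E (sigmaCore M) M)
    (hAE : A ≤ E) (hna : ∀ S : Subgroup G, SylIn p S ⊤ → ¬ IsMulCommutative S) :
    tau2 M = {p} ∧
      (Nat.card ↥(A ⊓ centralizer (sigmaCore M : Set G)) = p ∧
        fittingOf M = sigmaCore M ⊔ (A ⊓ centralizer (sigmaCore M : Set G))) ∧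
      ∀ X : Subgroup G, X ≤ E → Nat.card X = p → X ≠ A ⊓ centralizer (sigmaCore M : Set G) →
        sigmaCore M ⊓ centralizer (X : Set G) = ⊥ ∧ ¬ centralizer (X : Set G) ≤ M := by
  have hM := h.coatom
  have hA := h.e2s hG
  obtain ⟨P, hPE, hAP⟩ := L.exists_sylIn_ge hA.isPGroup hAE
  have hP : SylIn p P M := compl_sylow hG hM hE h.nsig hPE
  have hPab : IsMulCommutative P := h.sylow_abelian hG hP.isPGroup hP.le
  obtain ⟨S, hS, hPS⟩ := L.exists_sylIn_ge hP.isPGroup (le_top : P ≤ ⊤)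
  have hSna := hna S hS
  obtain ⟨z1, z2, -, ⟨Y, -, -, -, -, hY⟩, tr⟩ := hA.struct hG hS.isPGroup (hAP.trans hPS) hSna
  have hPC : P ≤ centralizer (A : Set G) :=
    (isMulCommutative_iff_le.1 hPab).trans (Subgroup.centralizer_le hAP)
  have hSCA : S ⊓ centralizer (A : Set G) = P :=
    (hP.eq_of_le (hS.isPGroup.to_le inf_le_left) (inf_le_right.trans (h.cent_le hG))
      (le_inf hPS hPC)).symm
  have hSM : S ⊓ M = P :=
    (hP.eq_of_le (hS.isPGroup.to_le inf_le_left) inf_le_right (le_inf hPS hP.le)).symm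
  have hSCZ : S ≤ centralizer ((omZ p S : Subgroup G) : Set G) := by
    rw [Subgroup.le_centralizer_iff]; exact omZ_le_centralizer p S
  have hSnM : ¬ S ≤ M := fun hc => hSna (h.sylow_abelian hG hS.isPGroup hc)
  have only : ∀ {X : Subgroup G}, X ≤ A → Nat.card X = p →
      sigmaCore M ⊓ centralizer (X : Set G) ≠ ⊥ → centralizer (X : Set G) ≤ M ∧
        ∀ L' : Subgroup G, IsCoatom L' → centralizer (X : Set G) ≤ L' → L' = M :=
    fun h1 h2 h3 => h.cent_only hG (ne_bot_of_card h2) (h1.trans hA.le_cent) h3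
  have hZσ : sigmaCore M ⊓ centralizer ((omZ p S : Subgroup G) : Set G) = ⊥ := by
    by_contra hne
    exact hSnM (hSCZ.trans (only z2 z1 hne).1)
  have hcopσ := h.coprime_sigma' hG
  obtain ⟨A₀, hA₀, hA₀c, hA₀ne⟩ : ∃ A₀ : Subgroup G, A₀ ≤ A ∧ Nat.card A₀ = p ∧
      sigmaCore M ⊓ centralizer (A₀ : Set G) ≠ ⊥ := by
    by_contra hc
    push Not at hc
    refine sigmaCore_ne_bot hG hM (le_bot_iff.1 (le_of_cent_le h.ea h.card h.le_nz_sigma hcopσ ?_))
    intro X hX hXc
    exact (hc X hX hXc).le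
  have hA₀Z : A₀ ≠ omZ p S := by rintro rfl; exact hA₀ne hZσ
  -- `x ∈ S ∩ M` centralizes
  have hfixA : ∀ x ∈ S, x ∈ M → cj x A₀ = A₀ := by
    intro x hxS hxM
    have hxP : x ∈ P := hSM ▸ ⟨hxS, hxM⟩
    exact L.mem_nz_iff.1 (Subgroup.centralizer_le_normalizer _
      (Subgroup.centralizer_le hA₀ (hPC hxP)))
  have huniq : ∀ X : Subgroup G, X ≤ A → Nat.card X = p →
      sigmaCore M ⊓ centralizer (X : Set G) ≠ ⊥ → X = A₀ := by
    intro X hX hXc hXne
    have hXZ : X ≠ omZ p S := by rintro rfl; exact hXne hZσ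
    obtain ⟨x, hx, hxA⟩ := tr A₀ X hA₀ hA₀c hA₀Z hX hXc hXZ
    have h1 : centralizer (X : Set G) ≤ cj x M := by
      rw [← hxA, L.cent_cj]
      exact L.cj_mono (only hA₀ hA₀c hA₀ne).1
    have h2 := (only hX hXc hXne).2 _ (coatom_cj hM x) h1
    have hxM : x ∈ M := by
      rw [← coatom_normalizer_self hG hM]; exact L.mem_nz_iff.2 h2
    rw [← hxA]
    exact hfixA x hx.1 hxM
  have hcent : sigmaCore M ≤ centralizer (A₀ : Set G) := by
    refine le_of_cent_le h.ea h.card h.le_nz_sigma hcopσ ?_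
    intro X hX hXc
    by_cases hXA : X = A₀
    · rw [hXA]; exact inf_le_right
    · by_contra hc
      refine hXA (huniq X hX hXc ?_)
      intro e
      rw [e] at hc
      exact hc bot_le
  have hA₀eq : A ⊓ centralizer (sigmaCore M : Set G) = A₀ := by
    have h1 : A₀ ≤ A ⊓ centralizer (sigmaCore M : Set G) :=
      le_inf hA₀ (by rwa [Subgroup.le_centralizer_iff])
    rcases card_eq_prime_or h.card (X := A ⊓ centralizer (sigmaCore M : Set G))
      inf_le_left with e | e | e
    · exact absurd (le_bot_iff.1 (h1.trans e.le)) (ne_bot_of_card hA₀c)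
    · exact (L.eq_of_le_of_card_le h1 (by rw [e, hA₀c])).symm
    · exfalso
      have h2 : A ≤ centralizer (sigmaCore M : Set G) := e ▸ inf_le_right
      have h3 : sigmaCore M ≤ centralizer ((omZ p S : Subgroup G) : Set G) := by
        rw [Subgroup.le_centralizer_iff]; exact z2.trans h2
      exact sigmaCore_ne_bot hG hM (le_bot_iff.1 (hZσ ▸ le_inf le_rfl h3))
  have part1 : tau2 M = {p} := by
    ext q
    rw [Set.mem_singleton_iff]
    constructor
    · intro hqτ
      by_contra hqp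
      haveI : Fact q.Prime := ⟨hqτ.1⟩
      obtain ⟨B, hBE, hB⟩ := exists_tau2_compl hG hM hE hqτ
      obtain ⟨Ps, hPs, -, -, hPsM⟩ := h.sylow_cent hG hE hAE hqp hB hBE
      exact hna Ps hPs (h.sylow_abelian hG hPs.isPGroup hPsM)
    · rintro rfl
      exact tau2_of_ea hG hM h.nsig h.le h.ea h.card
  rw [hA₀eq]
  refine ⟨part1, ⟨hA₀c, ?_⟩, ?_⟩
  · -- the Fitting subgroup
    have hEn : M ≤ normalizer (A₀ : Set G) := by
      rw [← compl_sup hE]
      refine sup_le (hcent.trans (Subgroup.centralizer_le_normalizer _)) ?_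
      intro x hx
      have h1 : x ∈ normalizer ((centralizer (sigmaCore M : Set G) : Subgroup G) : Set G) :=
        normalizer_le_normalizer_centralizer _ (le_nz_sigmaCore M (hE.1 hx))
      rw [L.mem_nz_iff, ← hA₀eq, L.cj_inf, L.mem_nz_iff.1 (h.compl_le_nz hG hE hAE hx),
        L.mem_nz_iff.1 h1]
    apply le_antisymm
    · refine le_of_sylIn_le fun r hr hrd => ?_
      haveI : Fact r.Prime := ⟨hr⟩
      obtain ⟨R, hR⟩ := L.exists_sylIn (p := r) (fittingOf M)
      refine ⟨R, hR, ?_⟩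
      have hRM : R ≤ M := hR.le.trans (fittingOf_le M)
      have hRn : M ≤ normalizer (R : Set G) :=
        sylIn_normal (fittingOf_nilpotent M) hR (le_normalizer_fittingOf M)
      by_cases hrσ : r ∈ sigma M
      · exact (le_sigmaCore hG hM hRM (isPiSub_of_isPGroup hrσ hR.isPGroup)).trans le_sup_left
      · have hRnil : Group.IsNilpotent R := hR.isPGroup.isNilpotent
        obtain ⟨hRσ, hRc, -⟩ := normal_sigma'_struct hG hM hRM hRn hRnil
          (isPiSub_of_isPGroup (π := {r | r ∉ sigma M}) hrσ hR.isPGroup)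
        have hR1 : R ≠ ⊥ := by
          rintro rfl
          apply hR.not_dvd
          rwa [Subgroup.relIndex_bot_left]
        obtain ⟨X, hXR, hX⟩ := exists_order_p (dvd_card_of_ne_bot hR.isPGroup hR1)
        have hXn : M ≤ normalizer (X : Set G) := by
          intro m hm
          rw [L.mem_nz_iff]
          exact eq_of_card_of_cyclic hRc ((L.cj_mono hXR).trans (L.mem_nz_iff.1 (hRn hm)).le) hXR
            (L.card_cj _ _)
        have hNX := coatom_normalizer_eq hG hM (ne_bot_of_card hX) (hXR.trans hRM) hXn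
        have hr1 := (not_sigma_normalizer hG hM hrσ hX hNX.le).1
        have hrτ : r ∈ tau2 M := ⟨hr, hrσ, pRankLE_two_of_not_sigma hG hM hr hrσ, hr1⟩
        rw [part1, Set.mem_singleton_iff] at hrτ
        subst hrτ
        refine le_trans ?_ le_sup_right
        have hRP : R ≤ P := by
          obtain ⟨x, hx, hxR⟩ := hP.exists_conj_le hR.isPGroup hRM
          rwa [L.mem_nz_iff.1 (hRn hx)] at hxR
        have memA : ∀ z ∈ R, z ^ r = 1 → z ∈ A₀ := by
          intro z hz hzr
          rw [← hA₀eq]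
          exact ⟨(h.sylow_mem hG hP.isPGroup hP.le hAP (hRP hz)).1 hzr, hRσ hz⟩
        intro x hx
        by_contra hxA
        have hx1 : x ^ r ≠ 1 := fun e => hxA (memA x hx e)
        have h3 : zpowers (x ^ r) ≠ ⊥ := by
          rw [Ne, Subgroup.zpowers_eq_bot]; exact hx1
        have h4 : IsPGroup r (zpowers (x ^ r)) := hR.isPGroup.to_le (by
          rw [Subgroup.zpowers_le]; exact R.pow_mem hx r)
        obtain ⟨X', hX', hX'c⟩ := exists_order_p (dvd_card_of_ne_bot h4 h3)
        have h5 : X' = A₀ := by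
          apply L.eq_of_le_of_card_le _ (by rw [hX'c, hA₀c])
          intro z hz
          refine memA z ?_ (pow_eq_one_of_card hX'c hz)
          exact (show zpowers (x ^ r) ≤ R by
            rw [Subgroup.zpowers_le]; exact R.pow_mem hx r) (hX' hz)
        obtain ⟨y1, y2⟩ := hY A₀ hA₀ hA₀c hA₀Z
        have h6 : x ∈ A₀ ⊔ Y := by
          rw [y2, hSCA]; exact hRP hx
        have hYn : Y ≤ normalizer (A₀ : Set G) := by
          have : Y ≤ S ⊓ centralizer (A : Set G) := y2 ▸ le_sup_right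
          exact (this.trans inf_le_right).trans
            ((Subgroup.centralizer_le hA₀).trans (Subgroup.centralizer_le_normalizer _))
        obtain ⟨a, ha, y, hy, rfl⟩ := (H23.mem_sup_iff_of_le_normalizer hYn).1 h6
        have hay : Commute a y := by
          have : Y ≤ S ⊓ centralizer (A : Set G) := y2 ▸ le_sup_right
          exact Subgroup.mem_centralizer_iff.1 (this hy).2 a (hA₀ ha)
        have h7 : (a * y) ^ r = y ^ r := by
          rw [hay.mul_pow, h.ea.2 a (hA₀ ha), one_mul]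
        have h8 : A₀ ≤ Y := by
          rw [← h5]
          refine hX'.trans ?_
          rw [Subgroup.zpowers_le, h7]
          exact Y.pow_mem hy r
        exact ne_bot_of_card hA₀c (le_bot_iff.1 (y1 ▸ le_inf le_rfl h8))
    · refine sup_le ?_ ?_
      · exact le_fittingOf (sigmaCore_le M) (le_nz_sigmaCore M) (h.nilpotent hG)
      · exact le_fittingOf (hA₀.trans h.le) hEn (isPGroup_of_card_eq hA₀c).isNilpotent
  · intro X hXE hXc hXne
    have hXA : X ≤ A := fun x hx => h.compl_mem hG hE hAE (hXE hx) (pow_eq_one_of_card hXc hx)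
    have h1 : sigmaCore M ⊓ centralizer (X : Set G) = ⊥ := by
      by_contra hc
      exact hXne (huniq X hXA hXc hc)
    refine ⟨h1, fun hc => ?_⟩
    by_cases hXZ : X = omZ p S
    · rw [hXZ] at hc
      exact hSnM (hSCZ.trans hc)
    · obtain ⟨x, hx, hxA⟩ := tr A₀ X hA₀ hA₀c hA₀Z hXA hXc hXZ
      have h2 : centralizer (A₀ : Set G) ≤ cj x⁻¹ M := by
        rw [← L.cj_le_iff, ← L.cent_cj, hxA]
        exact hc
      have h3 := (only hA₀ hA₀c hA₀ne).2 _ (coatom_cj hM x⁻¹) h2
      have hxM : x⁻¹ ∈ M := by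
        rw [← coatom_normalizer_self hG hM]; exact L.mem_nz_iff.2 h3
      apply hXne
      rw [← hxA]
      exact hfixA x hx.1 (by simpa using M.inv_mem hxM)

end
end Cfsg.Agent.H12.BG
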