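import Cfsg.Agent.H12.BgI

set_option autoImplicit false
set_option linter.unusedSectionVars false
set_option linter.style.haveILetI false
set_option linter.unusedVariables false

/-! BG 12.8 - 12.9, 12.15 -/

namespace Cfsg.Agent.H12.BG

open Subgroup
open Cfsg.Agent.L (cj nz SylIn)
open Cfsg.Agent.H14 (IsPiSub)
open Cfsg.Agent.OOT
open scoped commutatorElement

universe u

variable {G : Type u} [Group G] [Finite G]

/-- a nilpotent group with abelian Sylow subgroups is abelian -/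
theorem abelian_of_sylow_abelian {N : Subgroup G} (hn : Group.IsNilpotent N)
    (h : ∀ (p : ℕ) (_ : Fact p.Prime) (T : Subgroup G), SylIn p T N → IsMulCommutative T) :
    IsMulCommutative N := by
  rw [isMulCommutative_iff_le]
  refine le_of_sylIn_le fun p hp hpd => ?_
  haveI : Fact p.Prime := ⟨hp⟩
  obtain ⟨T, hT⟩ := L.exists_sylIn (p := p) N
  refine ⟨T, hT, ?_⟩
  have hTn : N ≤ normalizer (T : Set G) := sylIn_normal hn hT Subgroup.le_normalizer
  rw [Subgroup.le_centralizer_iff]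
  refine le_of_sylIn_le fun q hq hqd => ?_
  haveI : Fact q.Prime := ⟨hq⟩
  obtain ⟨Q, hQ⟩ := L.exists_sylIn (p := q) N
  refine ⟨Q, hQ, ?_⟩
  by_cases hqp : q = p
  · subst hqp
    obtain ⟨x, hx, hxQ⟩ := hT.exists_conj_eq hQ
    rw [L.mem_nz_iff.1 (hTn hx)] at hxQ
    rw [← hxQ]
    exact isMulCommutative_iff_le.1 (h q ⟨hp⟩ T hT)
  · have hQn : N ≤ normalizer (Q : Set G) := sylIn_normal hn hQ Subgroup.le_normalizer
    have h1 : ⁅Q, T⁆ ≤ Q ⊓ T := le_inf
      (H23.commutator_le_of_le_normalizer (hT.le.trans hQn))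
      (by rw [Subgroup.commutator_comm]
          exact H23.commutator_le_of_le_normalizer (hQ.le.trans hTn))
    rw [inf_eq_bot_of_isPGroup hQ.isPGroup (coprime_card_of_ne hq hqp hT.isPGroup),
      le_bot_iff] at h1
    exact Subgroup.commutator_eq_bot_iff_le_centralizer.1 h1

section
variable (hG : IsMinSimpleOddOrder G)
include hG

/-- `p`-subgroups of `M`, `p ∉ σ(M)`, are abelian -/
theorem nonsigma_pgroup_abelian {M P : Subgroup G} {p : ℕ} [hp : Fact p.Prime] (hM : IsCoatom M)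
    (hpσ : p ∉ sigma M) (hP : IsPGroup p P) (hPM : P ≤ M) : IsMulCommutative P := by
  by_cases h1 : P = ⊥
  · rw [isMulCommutative_iff_le, h1]; exact bot_le
  have hpM : p ∣ Nat.card M := (dvd_card_of_ne_bot hP h1).trans (Subgroup.card_dvd_of_le hPM)
  by_cases hr : PRankLE p 1 M
  · have : IsCyclic P := sylow_cyclic_of_rank_one hG hpM hr hP hPM
    infer_instance
  · obtain ⟨B, hB, hBe, hBc⟩ := exists_ea_of_not_pRankLE hr
    have h : Tau2 M p B := ⟨hM, hpσ, hB, hBe, hBc⟩
    exact h.sylow_abelian hG hP hPM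

/-- S1420 (A) -/
theorem sigma'_nilpotent_abelian {M N : Subgroup G} (hM : IsCoatom M) (hN : N ≤ M)
    (hn : Group.IsNilpotent N) (hπ : IsPiSub {r | r ∉ sigma M} N) : IsMulCommutative N := by
  refine abelian_of_sylow_abelian hn ?_
  intro p hp T hT
  by_cases h1 : T = ⊥
  · rw [isMulCommutative_iff_le, h1]; exact bot_le
  refine nonsigma_pgroup_abelian hG hM ?_ hT.isPGroup (hT.le.trans hN)
  exact hπ p hp.out ((dvd_card_of_ne_bot hT.isPGroup h1).trans (Subgroup.card_dvd_of_le hT.le))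

/-- S1420 (C) -/
theorem sigma_noncyclic_nz {M P : Subgroup G} {p : ℕ} [hp : Fact p.Prime] (hM : IsCoatom M)
    (hpσ : p ∈ sigma M) (hP : IsPGroup p P) (hPM : P ≤ M) (hnc : ¬ IsCyclic P) :
    normalizer (P : Set G) ≤ M := by
  have hr : ¬ PRankLE p 1 P := fun h =>
    hnc (isCyclic_of_pRankLE_one (prime_ne_two hG hpσ.2.1) hP h)
  obtain ⟨A, hA, hAe, hAc⟩ := exists_ea_of_not_pRankLE hr
  rw [sigma_group_norm hG hM hpσ hP hPM]
  exact sup_le inf_le_left ((Subgroup.centralizer_le hA).trans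
    (ea2_cent_le hG hM (hA.trans hPM) hAe hAc))

/-- transport of uniqueness of centralizers -/
theorem cent_only_conj {M : Subgroup G} (hM : IsCoatom M) {x g : G} (hg : g ∈ M)
    (h : centralizer ({g * x * g⁻¹} : Set G) ≤ M ∧ ∀ L' : Subgroup G, IsCoatom L' →
      centralizer ({g * x * g⁻¹} : Set G) ≤ L' → L' = M) :
    centralizer ({x} : Set G) ≤ M ∧ ∀ L' : Subgroup G, IsCoatom L' →
      centralizer ({x} : Set G) ≤ L' → L' = M := by
  have e : centralizer ({g * x * g⁻¹} : Set G) = cj g (centralizer ({x} : Set G)) := by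
    rw [← centralizer_zpowers, ← centralizer_zpowers, ← L.cent_cj]
    congr 2
    exact (MonoidHom.map_zpowers (MulAut.conj g).toMonoidHom x).symm
  rw [e] at h
  have hgM : cj g⁻¹ M = M := L.cj_eq_self_of_mem (M.inv_mem hg)
  refine ⟨?_, fun L' hL hxL => ?_⟩
  · have := h.1
    rwa [L.cj_le_iff, hgM] at this
  · have h1 := h.2 (cj g L') (coatom_cj hL g) (L.cj_mono hxL)
    rw [L.cj_eq_iff, hgM] at h1
    exact h1

/-- S1420 (D) -/
theorem tau2_cent_only {M E : Subgroup G} (hM : IsCoatom M) (hE : IsComplIn E (sigmaCore M) M)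
    {x : G} (hx : x ∈ M) (hx1 : x ≠ 1)
    (hπ : ∀ p : ℕ, p.Prime → p ∣ orderOf x → p ∈ tau2 M) (hxσ : x ∈ sigmaHat M) :
    centralizer ({x} : Set G) ≤ M ∧ ∀ L' : Subgroup G, IsCoatom L' →
      centralizer ({x} : Set G) ≤ L' → L' = M := by
  have hX : IsPiSub {r | r ∉ sigma M} (zpowers x) := by
    intro p hp hd
    rw [Nat.card_zpowers] at hd
    exact (hπ p hp hd).2.1
  obtain ⟨g, hg, hgX⟩ := IsPiHallOf.exists_conj_le (coatom_sol hG hM) (compl_hall hG hM hE)
    (by rwa [Subgroup.zpowers_le]) hX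
  apply cent_only_conj hG hM hg
  have eX : cj g (zpowers x) = zpowers (g * x * g⁻¹) := MonoidHom.map_zpowers _ x
  rw [eX] at hgX
  have hord : orderOf (g * x * g⁻¹) = orderOf x := by
    rw [← Nat.card_zpowers, ← Nat.card_zpowers, ← eX, L.card_cj]
  have hx1' : g * x * g⁻¹ ≠ 1 := by
    intro e
    apply hx1
    rw [← orderOf_eq_one_iff, ← hord, e, orderOf_one]
  obtain ⟨p, hp, hpd⟩ := Nat.exists_prime_and_dvd (n := orderOf x)
    (by rw [Ne, orderOf_eq_one_iff]; exact hx1)
  haveI : Fact p.Prime := ⟨hp⟩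
  obtain ⟨A, hAE, hA⟩ := exists_tau2_compl hG hM hE (hπ p hp hpd)
  have hEA : E ≤ normalizer (A : Set G) := hA.compl_le_nz hG hE hAE
  have hXA : zpowers (g * x * g⁻¹) ≤ centralizer (A : Set G) := by
    refine le_of_sylIn_le fun q hq hqd => ?_
    haveI : Fact q.Prime := ⟨hq⟩
    obtain ⟨T, hT⟩ := L.exists_sylIn (p := q) (zpowers (g * x * g⁻¹))
    refine ⟨T, hT, ?_⟩
    rw [Nat.card_zpowers, hord] at hqd
    have hTE : T ≤ E := hT.le.trans hgX
    by_cases hqp : q = p
    · subst hqp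
      have h1 : IsPGroup q ↥(A ⊔ T) :=
        IsPGroup.to_sup_of_normal_left' (isEA_isPGroup hA.ea) hT.isPGroup (hTE.trans hEA)
      have h2 := hA.sylow_abelian hG h1 (sup_le hA.le (hTE.trans hE.1))
      exact (le_sup_right.trans (isMulCommutative_iff_le.1 h2)).trans
        (Subgroup.centralizer_le (show A ≤ A ⊔ T from le_sup_left))
    · obtain ⟨B, hBE, hB⟩ := exists_tau2_compl hG hM hE (hπ q hq hqd)
      obtain ⟨Q, hQ, -, hQA, hQM⟩ := hB.sylow_cent hG hE hBE (Ne.symm hqp) hA hAE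
      have hQE : Q ≤ E := by
        rw [← hA.nz_inf_eq hG hE hAE]
        exact le_inf hQM (hQA.trans (Subgroup.centralizer_le_normalizer _))
      obtain ⟨y, hy, hyT⟩ := (hQ.of_le hQE le_top).exists_conj_le hT.isPGroup hTE
      rw [L.cj_le_iff] at hyT
      have e : cj y⁻¹ (centralizer (A : Set G)) = centralizer (A : Set G) := by
        rw [← L.cent_cj, L.mem_nz_iff.1 (hEA (E.inv_mem hy))]
      exact hyT.trans (e ▸ L.cj_mono hQA)
  have hfix : sigmaCore M ⊓ centralizer ((zpowers (g * x * g⁻¹) : Subgroup G) : Set G) ≠ ⊥ := by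
    obtain ⟨-, y, hy, hy1, hxy⟩ := hxσ
    intro e
    apply hy1
    have h1 : g * y * g⁻¹ ∈ sigmaCore M ⊓ centralizer ((zpowers (g * x * g⁻¹) : Subgroup G) : Set G) := by
      rw [Subgroup.mem_inf]
      refine ⟨H23.mem_normalizer_conj (le_nz_sigmaCore M) hg hy, ?_⟩
      rw [centralizer_zpowers, Subgroup.mem_centralizer_singleton_iff]
      have h2 : g * (x * y) * g⁻¹ = g * (y * x) * g⁻¹ := by rw [hxy]
      simpa [mul_assoc] using h2.symm
    rw [e, Subgroup.mem_bot] at h1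
    simpa using h1
  have := hA.cent_only hG (X := zpowers (g * x * g⁻¹))
    (by rw [Ne, Subgroup.zpowers_eq_bot]; exact hx1') hXA hfix
  rwa [centralizer_zpowers] at this

/-- S1424 -/
theorem sigma_other_max {M Ms X S : Subgroup G} {q : ℕ} [hq : Fact q.Prime] (hM : IsCoatom M)
    (hqσ : q ∈ sigma M) (hXq : IsPGroup q X) (hX1 : X ≠ ⊥) (hXM : X ≤ M) (hMs : IsCoatom Ms)
    (hne : Ms ≠ M) (hN : normalizer (X : Set G) ≤ Ms) (hS : SylIn q S (M ⊓ Ms)) (hXS : X ≤ S) :
    (∀ g : G, Ms ≠ cj g M) ∧ normalizer (S : Set G) ≤ M ∧ SylIn q S Ms := by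
  have hSM : S ≤ M := hS.le.trans inf_le_left
  have hSMs : S ≤ Ms := hS.le.trans inf_le_right
  have hNS : normalizer (S : Set G) ≤ M := by
    by_cases hc : IsCyclic S
    · have h1 : normalizer (S : Set G) ≤ Ms := by
        refine le_trans ?_ hN
        intro g hg
        rw [L.mem_nz_iff]
        exact eq_of_card_of_cyclic hc ((L.cj_mono hXS).trans (L.mem_nz_iff.1 hg).le) hXS
          (L.card_cj _ _)
      obtain ⟨T, hT, hST⟩ := L.exists_sylIn_ge hS.isPGroup hSM
      have h2 : T ⊓ nz S = S :=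
        (hS.eq_of_le (hT.isPGroup.to_le inf_le_left)
          (le_inf (inf_le_left.trans hT.le) (inf_le_right.trans h1))
          (le_inf hST (L.le_nz S))).symm
      have h3 : S = T := by
        by_contra h3
        have := L.lt_inf_nz hT.isPGroup (lt_of_le_of_ne hST h3)
        rw [h2] at this
        exact lt_irrefl _ this
      rw [h3]
      exact sigma_nz_le hG hqσ hT
    · exact sigma_noncyclic_nz hG hM hqσ hS.isPGroup hSM hc
  refine ⟨?_, hNS, ?_⟩
  · rintro g rfl
    have h1 : cj g⁻¹ X ≤ M := by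
      rw [L.cj_le_iff, inv_inv]; exact hXS.trans hSMs
    obtain ⟨m, hm, c, hc, e⟩ := sigma_group_trans hG hM hqσ hXq hXM h1
    apply hne
    have h2 : c ∈ cj g M := hN (Subgroup.centralizer_le_normalizer _ hc)
    have h3 : g = c⁻¹ * m⁻¹ := by rw [← inv_inv g, e, mul_inv_rev]
    have h4 : cj g M = cj c⁻¹ M := by
      rw [h3, ← L.cj_cj, L.cj_eq_self_of_mem (M.inv_mem hm)]
    have h5 : cj c (cj g M) = cj g M := L.cj_eq_self_of_mem h2
    rw [← h5, h4, L.cj_cj_inv]
  · obtain ⟨T, hT, hST⟩ := L.exists_sylIn_ge hS.isPGroup hSMs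
    have h2 : T ⊓ nz S = S :=
      (hS.eq_of_le (hT.isPGroup.to_le inf_le_left)
        (le_inf (inf_le_right.trans hNS) (inf_le_left.trans hT.le))
        (le_inf hST (L.le_nz S))).symm
    have h3 : S = T := by
      by_contra h3
      have := L.lt_inf_nz hT.isPGroup (lt_of_le_of_ne hST h3)
      rw [h2] at this
      exact lt_irrefl _ this
    rw [h3]; exact hT

end
end Cfsg.Agent.H12.BG
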