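import Cfsg.Agent.H12.BgJ

set_option autoImplicit false
set_option linter.unusedSectionVars false
set_option linter.style.haveILetI false
set_option linter.unusedVariables false

/-! BG 12.13 - 12.14 -/

namespace Cfsg.Agent.H12.BG

open Subgroup
open Cfsg.Agent.L (cj nz SylIn)
open Cfsg.Agent.H14 (IsPiSub)
open Cfsg.Agent.OOT
open scoped commutatorElement

universe u

section
variable {X : Type u} [Group X] [Finite X] {p : ℕ} [hp : Fact p.Prime]

/-- if `A/Z` is cyclic with `Z` central in `A`, then `A` is abelian -/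
theorem abelian_of_cyclic_quot {Z A : Subgroup X} [Z.Normal] (hZA : A ≤ centralizer (Z : Set X))
    (hc : IsCyclic (A.map (QuotientGroup.mk' Z))) : IsMulCommutative A := by
  let g := ((QuotientGroup.mk' Z).comp A.subtype)
  have hr : g.range = A.map (QuotientGroup.mk' Z) := by
    rw [MonoidHom.range_comp, Subgroup.range_subtype]
  haveI : IsCyclic g.range := by rw [hr]; exact hc
  rw [isMulCommutative_iff']
  intro a ha b hb
  have := commutative_of_cyclic_center_quotient g.rangeRestrict (by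
    intro x hx
    rw [MonoidHom.ker_rangeRestrict, MonoidHom.mem_ker] at hx
    have hxZ : (x : X) ∈ Z := (QuotientGroup.eq_one_iff _).1 hx
    rw [Subgroup.mem_center_iff]
    intro y
    exact Subtype.ext (Subgroup.mem_centralizer_iff.1 (hZA y.2) x hxZ).symm) ⟨a, ha⟩ ⟨b, hb⟩
  exact congrArg Subtype.val this

/-- generation by centralizers modulo a normal subgroup `Z` -/
theorem le_of_cent_quot {Z A K T : Subgroup X} [Z.Normal] (hZA : Z ≤ A) (hAp : IsPGroup p A)
    (hab : ∀ a ∈ A, ∀ b ∈ A, ⁅a, b⁆ ∈ Z) (hnc : ¬ IsCyclic (A.map (QuotientGroup.mk' Z)))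
    (hn : A ≤ normalizer (K : Set X)) (hcop : (Nat.card K).Coprime p) (hZT : Z ≤ T)
    (h : ∀ a ∈ A, a ∉ Z → K ⊓ centralizer ({a} : Set X) ≤ T) : K ≤ T := by
  set f := QuotientGroup.mk' Z
  have hf : ∀ x : X, f x = 1 ↔ x ∈ Z := fun x => QuotientGroup.eq_one_iff x
  have h1 : IsMulCommutative (A.map f) := by
    rw [isMulCommutative_iff']
    rintro _ ⟨a, ha, rfl⟩ _ ⟨b, hb, rfl⟩
    have := (hf _).2 (hab a ha b hb)
    rw [map_commutatorElement, commutatorElement_eq_one_iff_mul_comm] at this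
    exact this
  have h2 : A.map f ≤ normalizer ((K.map f : Subgroup (X ⧸ Z)) : Set (X ⧸ Z)) :=
    (Subgroup.map_mono hn).trans (Subgroup.le_normalizer_map f)
  have h3 : (Nat.card (A.map f)).Coprime (Nat.card (K.map f)) :=
    coprime_of_isPGroup (hAp.map f) (Nat.Coprime.coprime_dvd_left (Subgroup.card_map_dvd K f) hcop)
  have h4 := H23.iSup_centralizer_of_not_isCyclic h1 hnc h2 h3
  have hKZ : K ⊓ Z = ⊥ := by
    rw [inf_comm]
    exact inf_eq_bot_of_isPGroup (hAp.to_le hZA) hcop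
  have h5 : K.map f ≤ T.map f := by
    rw [← h4]
    refine iSup_le ?_
    rintro ⟨a', ha', ha1⟩
    obtain ⟨a, ha, rfl⟩ := ha'
    have haZ : a ∉ Z := fun hc => ha1 ((hf a).2 hc)
    rintro _ ⟨⟨k, hk, rfl⟩, hkc⟩
    refine ⟨k, h a ha haZ ⟨hk, ?_⟩, rfl⟩
    have h6 : f k * f a = f a * f k := by
      have := Subgroup.mem_centralizer_singleton_iff.1 hkc
      exact this
    have h7 : ⁅k, a⁆ ∈ K ⊓ Z := by
      refine ⟨?_, (hf _).1 ?_⟩
      · have e : ⁅k, a⁆ = k * (a * k⁻¹ * a⁻¹) := by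
          simp only [commutatorElement_def]; group
        rw [e]
        exact K.mul_mem hk (H23.mem_normalizer_conj hn ha (K.inv_mem hk))
      · rw [map_commutatorElement, commutatorElement_eq_one_iff_mul_comm]
        exact h6
    rw [hKZ, Subgroup.mem_bot, commutatorElement_eq_one_iff_mul_comm] at h7
    exact Subgroup.mem_centralizer_singleton_iff.2 h7
  intro k hk
  obtain ⟨t, ht, e⟩ := h5 (Subgroup.mem_map_of_mem f hk)
  have h8 : t⁻¹ * k ∈ Z := by
    rw [← hf, map_mul, map_inv, e, inv_mul_cancel]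
  have := T.mul_mem ht (hZT h8)
  rwa [mul_inv_cancel_left] at this

end

variable {G : Type u} [Group G] [Finite G] (hG : IsMinSimpleOddOrder G)
include hG

/-- `M = M_α S N_M(S)` for a Sylow `p`-subgroup `S` of `M`, `p ∈ σ(M)` -/
theorem alpha_frattini {M S : Subgroup G} {p : ℕ} [hp : Fact p.Prime] (hM : IsCoatom M)
    (hpσ : p ∈ sigma M) (hS : SylIn p S M) : M ≤ (alphaCore M ⊔ S) ⊔ normalizer (S : Set G) := by
  have h1 := (sigma_sylow_image hG hM hpσ hS).2
  set f := QuotientGroup.mk' (piCore (alpha M) M)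
  have hαM : alphaCore M ≤ M := piCoreOf_le (alpha M) M
  have h2 : ((S.subgroupOf M).map f).comap f = S.subgroupOf M ⊔ piCore (alpha M) M := by
    rw [Subgroup.comap_map_eq, QuotientGroup.ker_mk']
  have h3 : (S.subgroupOf M ⊔ piCore (alpha M) M).Normal := by
    rw [← h2]; exact h1.comap f
  have h4 : M ≤ normalizer ((alphaCore M ⊔ S : Subgroup G) : Set G) := by
    have := le_normalizer_map_subtype h3
    rwa [Subgroup.map_sup, Subgroup.subgroupOf_map_subtype, inf_eq_left.2 hS.le,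
      sup_comm] at this
  have h5 := hallOf_frattini_sup (sol_coatom_sub hG hM (sup_le hαM hS.le))
    (sup_le hαM hS.le) h4 (sylIn_iff_hallOf.1 (hS.of_le le_sup_right (sup_le hαM hS.le)))
  nth_rewrite 1 [← h5]
  exact sup_le_sup_left inf_le_right _

theorem nonab_aux {M H S P₁ Z X₀ : Subgroup G} {p : ℕ} [hp : Fact p.Prime] (hM : IsCoatom M)
    (hH : IsCoatom H) (hne : H ≠ M) (hS : SylIn p S ⊤) (hNM : normalizer (S : Set G) ≤ M)
    (hNH : normalizer (S : Set G) ≤ H) (hr : PRankLE p 2 S) (hP₁ : P₁ ≤ S)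
    (hna : ¬ IsMulCommutative P₁) (hexp : ∀ x ∈ P₁, x ^ p = 1) (hZ : Nat.card Z = p)
    (hZP : Z ≤ P₁) (hPZ : P₁ ≤ centralizer (Z : Set G)) (hd : ⁅P₁, P₁⁆ ≤ Z) (hX₀ : X₀ ≤ P₁)
    (hX₀c : Nat.card X₀ = p) (hX₀Z : X₀ ≠ Z) 
    (hC : alphaCore M ⊓ centralizer (X₀ : Set G) ≤ centralizer (Z : Set G)) : False := by
  have hSM : S ≤ M := Subgroup.le_normalizer.trans hNM
  have hSH : S ≤ H := Subgroup.le_normalizer.trans hNH
  have hSM' : SylIn p S M := hS.of_le hSM le_top
  have hpσ : p ∈ sigma M := by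
    refine mem_sigma_of_sylIn hG hSM' ?_ hNM
    rw [← hZ]; exact Subgroup.card_dvd_of_le (hZP.trans (hP₁.trans hSM))
  have hpα : p ∉ alpha M := fun h => h.2 ((pRankLE_sylIn hSM').1 hr)
  have hαp : (Nat.card (alphaCore M)).Coprime p := by
    rw [coprime_iff_not_dvd hp.out]
    exact fun hd => hpα ((alphaCore_hall hG hM).2.1 p hp.out hd)
  have hαn : M ≤ normalizer ((alphaCore M : Subgroup G) : Set G) :=
    le_normalizer_piCoreOf (alpha M) M
  -- elementary abelian subgroups
  have key : ∀ X : Subgroup G, X ≤ P₁ → Nat.card X = p → X ≠ Z → IsElementaryAbelian p (X ⊔ Z) ∧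
      Nat.card ↥(X ⊔ Z) = p ^ 2 := by
    intro X hX hXc hXZ
    have hXZ' : X ≤ centralizer (Z : Set G) := hX.trans hPZ
    refine ⟨isEA_sup (isEA_of_card_eq hXc) (isEA_of_card_eq hZ) hXZ', ?_⟩
    rw [sup_comm, H23.card_sup_of_inf_eq_bot (hXZ'.trans (Subgroup.centralizer_le_normalizer _))
      (inf_eq_bot_of_card_prime hXc hZ hXZ), hZ, hXc, pow_two]
  have key2 : ∀ X : Subgroup G, X ≤ P₁ → Nat.card X = p → X ≠ Z →
      centralizer ((X ⊔ Z : Subgroup G) : Set G) ≤ H := by
    intro X hX hXc hXZ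
    obtain ⟨e1, e2⟩ := key X hX hXc hXZ
    exact ea2_cent_le hG hH ((sup_le hX hZP).trans (hP₁.trans hSH)) e1 e2
  obtain ⟨hAe, hAc⟩ := key X₀ hX₀ hX₀c hX₀Z
  have hAP : X₀ ⊔ Z ≤ P₁ := sup_le hX₀ hZP
  have hAnu : ¬ InUniqueMaximal (X₀ ⊔ Z) := fun hu =>
    hne (uniq_eq hu hM (hAP.trans (hP₁.trans hSM)) hH (hAP.trans (hP₁.trans hSH)))
  have hA := E2s.of_not_uniq hG hAe hAc hAnu
  have hPp : IsPGroup p P₁ := hS.isPGroup.to_le hP₁
  obtain ⟨z1, z2, -, -, tr⟩ := hA.struct hG hPp hAP hna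
  have hZo : Z = omZ p P₁ := by
    apply L.eq_of_le_of_card_le _ (by rw [z1, hZ])
    intro z hz
    rw [mem_omZ]
    exact ⟨⟨hZP hz, by rw [Subgroup.le_centralizer_iff] at hPZ; exact hPZ hz⟩, hexp z (hZP hz)⟩
  have h1 : alphaCore M ≤ centralizer (Z : Set G) := by
    refine le_of_cent_le hAe hAc (hAP.trans ((hP₁.trans hSM).trans hαn)) hαp ?_
    intro X hX hXc
    by_cases hXZ : X = Z
    · rw [hXZ]; exact inf_le_right
    · obtain ⟨x, hx, hxX⟩ := tr X₀ X le_sup_left hX₀c (hZo ▸ hX₀Z) hX hXc (hZo ▸ hXZ)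
      have hxM : x ∈ M := hSM (hP₁ hx.1)
      have e1 : cj x (alphaCore M) = alphaCore M := L.mem_nz_iff.1 (hαn hxM)
      have e2 : cj x (centralizer (Z : Set G)) = centralizer (Z : Set G) := by
        rw [← L.cent_cj, L.mem_nz_iff.1 (Subgroup.centralizer_le_normalizer _ (hPZ hx.1))]
      rw [← hxX, L.cent_cj, ← e1, ← L.cj_inf, ← e2]
      exact L.cj_mono hC
  have h2 : alphaCore M ≤ H := by
    set W := centralizer (Z : Set G)
    have hZW : Z ≤ W := hZP.trans hPZ
    haveI : (Z.subgroupOf W).Normal := by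
      have := le_nz_subgroupOf (H := W) (Subgroup.centralizer_le_normalizer (Z : Set G))
      rw [Subgroup.subgroupOf_self] at this
      exact normalizer_eq_top_iff.1 (top_le_iff.1 this)
    have h3 : (alphaCore M).subgroupOf W ≤ H.subgroupOf W := by
      refine le_of_cent_quot (p := p) (Z := Z.subgroupOf W) (A := P₁.subgroupOf W)
        (Subgroup.subgroupOf_mono W hZP) ((hPp.comap_of_injective _ W.subtype_injective)) ?_ ?_
        (le_nz_subgroupOf ((hP₁.trans hSM).trans hαn)) (by rwa [card_subgroupOf h1])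
        (Subgroup.subgroupOf_mono W (hZP.trans (hP₁.trans hSH))) ?_
      · intro a ha b hb
        exact hd (Subgroup.commutator_mem_commutator ha hb)
      · intro hc
        apply hna
        have h4 := abelian_of_cyclic_quot (Z := Z.subgroupOf W) (A := P₁.subgroupOf W) ?_ hc
        · rw [isMulCommutative_iff'] at h4 ⊢
          intro a ha b hb
          exact congrArg Subtype.val (h4 ⟨a, hPZ ha⟩ ha ⟨b, hPZ hb⟩ hb)
        · intro a ha
          rw [Subgroup.mem_centralizer_iff]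
          intro z hz
          exact Subtype.ext (Subgroup.mem_centralizer_iff.1 (hPZ ha) z hz)
      · intro a ha haZ
        have haP : (a : G) ∈ P₁ := ha
        have haZ' : (a : G) ∉ Z := haZ
        have ha1 : (a : G) ≠ 1 := fun e => haZ' (e ▸ Z.one_mem)
        have hac : Nat.card (zpowers (a : G)) = p := card_zpowers_eq_prime (hexp _ haP) ha1
        have h5 := key2 (zpowers (a : G)) (by rwa [Subgroup.zpowers_le]) hac
          (fun e => haZ' (e ▸ Subgroup.mem_zpowers _))
        rintro k ⟨hk1, hk2⟩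
        refine h5 ?_
        have hkZ : (k : G) ∈ centralizer (Z : Set G) := k.2
        have hka : (k : G) ∈ centralizer ((zpowers (a : G) : Subgroup G) : Set G) := by
          rw [centralizer_zpowers, Subgroup.mem_centralizer_singleton_iff]
          exact congrArg Subtype.val (Subgroup.mem_centralizer_singleton_iff.1 hk2)
        rw [← Subgroup.zpowers_le, Subgroup.le_centralizer_iff] at hkZ hka ⊢
        exact sup_le hka hkZ
    intro x hx
    exact h3 (show (⟨x, h1 hx⟩ : W) ∈ (alphaCore M).subgroupOf W from hx)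
  have h6 : M ≤ H := (alpha_frattini hG hM hpσ hSM').trans (sup_le (sup_le h2 hSH) hNH)
  exact hne (coatom_eq_of_le hM hH h6)

omit hG in
theorem exists_ne_of_not_uniq {P : Subgroup G} (hP : P ≠ ⊤) (h : ¬ InUniqueMaximal P) :
    ∃ M H : Subgroup G, IsCoatom M ∧ IsCoatom H ∧ H ≠ M ∧ P ≤ M ∧ P ≤ H := by
  obtain ⟨M, hM, hPM⟩ := exists_coatom_ge hP
  by_contra hc
  push Not at hc
  apply h
  refine ⟨M, ⟨hM, hPM⟩, ?_⟩
  rintro H ⟨hH, hPH⟩
  by_contra hne
  exact hc M H hM hH hne hPM hPH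

theorem nonab_sigma {M P : Subgroup G} {p : ℕ} [hp : Fact p.Prime] (hM : IsCoatom M)
    (hP : IsPGroup p P) (hPM : P ≤ M) (hna : ¬ IsMulCommutative P) : p ∈ sigma M := by
  by_contra hpσ
  exact hna (nonsigma_pgroup_abelian hG hM hpσ hP hPM)

omit [Finite G] hG in
theorem not_cyclic_of_nonab {P : Subgroup G} (hna : ¬ IsMulCommutative P) : ¬ IsCyclic P :=
  fun _ => hna inferInstance

/-- BG 12.13 for Sylow subgroups -/
theorem nonab_sylow_uniq {S : Subgroup G} {p : ℕ} [hp : Fact p.Prime] (hS : SylIn p S ⊤)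
    (hna : ¬ IsMulCommutative S) : InUniqueMaximal S := by
  by_contra hnu
  obtain ⟨M, H, hM, hH, hne, hSM, hSH⟩ := exists_ne_of_not_uniq (pgroup_ne_top hG hS.isPGroup) hnu
  have hnc := not_cyclic_of_nonab hna
  have hpM := nonab_sigma hG hM hS.isPGroup hSM hna
  have hpH := nonab_sigma hG hH hS.isPGroup hSH hna
  have hNM := sigma_noncyclic_nz hG hM hpM hS.isPGroup hSM hnc
  have hNH := sigma_noncyclic_nz hG hH hpH hS.isPGroup hSH hnc
  have hr : PRankLE p 2 S := by
    by_contra hr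
    exact hnu (sylow_uniq hG hS.isPGroup hr)
  obtain ⟨P₁, P₂, hsup, hcomm, hna1, hc3, hexp, hcyc, hclo⟩ :=
    (sylow_rank_two hG hS hr).resolve_left hna
  have hP₁ : P₁ ≤ S := hsup ▸ le_sup_left
  have hP₁p : IsPGroup p P₁ := hS.isPGroup.to_le hP₁
  have hexp' : ∀ x ∈ P₁, x ^ p = 1 := by
    intro x hx
    have := Monoid.pow_exponent_eq_one (⟨x, hx⟩ : P₁)
    rw [hexp] at this
    exact congrArg Subtype.val this
  set Z := P₁ ⊓ centralizer (P₁ : Set G) with hZdef
  have hZP₂ : Z ≤ P₂ := by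
    rw [← hclo, Subgroup.closure_le]
    exact fun x hx => hx.1
  have hZ1 : Z ≠ ⊥ := by
    intro e
    have h1 : P₁ ≠ ⊥ := by
      rintro rfl
      rw [Subgroup.card_bot] at hc3
      exact absurd hc3.symm (Nat.one_lt_pow (by norm_num) hp.out.one_lt).ne'
    obtain ⟨x, hx, hxo, hx1⟩ := exists_central_in_normal hG hP₁p le_rfl Subgroup.le_normalizer h1
    have h2 : x ∈ Z := (mem_omZ.1 hxo).1
    rw [e, Subgroup.mem_bot] at h2
    exact hx1 h2
  have hZc : Nat.card Z = p := by
    haveI := hcyc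
    have h1 : IsCyclic Z := isCyclic_of_injective (Subgroup.inclusion hZP₂)
      (Subgroup.inclusion_injective hZP₂)
    have h2 := card_dvd_prime_of_cyclic h1 (fun x hx => hexp' x hx.1)
    rcases (Nat.dvd_prime hp.out).1 h2 with h3 | h3
    · exact absurd (Subgroup.card_eq_one.1 h3) hZ1
    · exact h3
  have hPZ : P₁ ≤ centralizer (Z : Set G) := by
    rw [Subgroup.le_centralizer_iff]; exact inf_le_right
  have hd : ⁅P₁, P₁⁆ ≤ Z := by
    rw [hZdef, center_eq_commutator_of_card_cube hc3 hna1]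
  -- the other maximal subgroup
  by_cases hcase : ∃ X₀ : Subgroup G, X₀ ≤ P₁ ∧ Nat.card X₀ = p ∧ X₀ ≠ Z ∧
      alphaCore M ⊓ centralizer (X₀ : Set G) ≤ centralizer (Z : Set G)
  · obtain ⟨X₀, h1, h2, h3, h4⟩ := hcase
    exact nonab_aux hG hM hH hne hS hNM hNH hr hP₁ hna1 hexp' hZc inf_le_left hPZ hd h1 h2 h3 h4
  · push Not at hcase
    obtain ⟨a, ha, haZ⟩ : ∃ a ∈ P₁, a ∉ Z := by
      by_contra hc
      push Not at hc
      apply hna1
      rw [isMulCommutative_iff_le]
      exact fun x hx => (hc x hx).2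
    have ha1 : a ≠ 1 := fun e => haZ (e ▸ Z.one_mem)
    have hac : Nat.card (zpowers a) = p := card_zpowers_eq_prime (hexp' a ha) ha1
    have haP : zpowers a ≤ P₁ := by rwa [Subgroup.zpowers_le]
    have haZ' : zpowers a ≠ Z := fun e => haZ (e ▸ Subgroup.mem_zpowers _)
    have hXZ' : zpowers a ≤ centralizer (Z : Set G) := haP.trans hPZ
    have hAe : IsElementaryAbelian p (zpowers a ⊔ Z) :=
      isEA_sup (isEA_of_card_eq hac) (isEA_of_card_eq hZc) hXZ'
    have hAc : Nat.card (zpowers a ⊔ Z : Subgroup G) = p ^ 2 := by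
      rw [sup_comm, H23.card_sup_of_inf_eq_bot (hXZ'.trans (Subgroup.centralizer_le_normalizer _))
        (inf_eq_bot_of_card_prime hac hZc haZ'), hZc, hac, pow_two]
    have hAP : zpowers a ⊔ Z ≤ P₁ := sup_le haP inf_le_left
    have hAM : zpowers a ⊔ Z ≤ M := hAP.trans (hP₁.trans hSM)
    have hAH : zpowers a ⊔ Z ≤ H := hAP.trans (hP₁.trans hSH)
    have hA := E2s.of_not_uniq hG hAe hAc (fun hu => hne (uniq_eq hu hM hAM hH hAH))
    have hZC : centralizer ((zpowers a ⊔ Z : Subgroup G) : Set G) ≤ centralizer (Z : Set G) :=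
      Subgroup.centralizer_le (show Z ≤ zpowers a ⊔ Z from le_sup_right)
    have hα : ∀ {K : Subgroup G}, IsCoatom K → SylIn p S K → p ∉ alpha K := fun hK hSK h =>
      h.2 ((pRankLE_sylIn hSK).1 hr)
    have hNX : normalizer ((zpowers a : Subgroup G) : Set G) ≤ M := by
      obtain ⟨L', hL, hNL⟩ := exists_coatom_ge (nz_ne_top_of_card hG hac)
      by_cases hLM : L' = M
      · rwa [hLM] at hNL
      exfalso
      apply hcase (zpowers a) haP hac haZ'
      have h5 := cent_of_nz_le hG hM hL hLM hAM hA (A₀ := zpowers a) le_sup_left hac hNL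
        (alphaCore_hall hG hM) (le_normalizer_piCoreOf (alpha M) M) (alpha_subset_sigma hG hM)
        (hα hM (hS.of_le hSM le_top))
      exact (inf_le_inf_left _ ((Subgroup.centralizer_le_normalizer _).trans hNL)).trans
        (h5.trans hZC)
    have h5 := cent_of_nz_le hG hH hM (Ne.symm hne) hAH hA (A₀ := zpowers a) le_sup_left hac hNX
        (alphaCore_hall hG hH) (le_normalizer_piCoreOf (alpha H) H) (alpha_subset_sigma hG hH)
        (hα hH (hS.of_le hSH le_top))
    refine nonab_aux hG hH hM (Ne.symm hne) hS hNH hNM hr hP₁ hna1 hexp' hZc inf_le_left hPZ hd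
      haP hac haZ' ?_
    exact (inf_le_inf_left _ ((Subgroup.centralizer_le_normalizer _).trans hNX)).trans
      (h5.trans hZC)

/-- BG 12.13 -/
theorem nonab_uniq {p : ℕ} [hp : Fact p.Prime] : ∀ (n : ℕ) (P : Subgroup G),
    Nat.card G - Nat.card P = n → IsPGroup p P → ¬ IsMulCommutative P → InUniqueMaximal P := by
  intro n
  induction n using Nat.strong_induction_on with
  | _ n ih =>
    intro P hn hP hna
    by_contra hnu
    obtain ⟨M, H, hM, hH, hne, hPM, hPH⟩ := exists_ne_of_not_uniq (pgroup_ne_top hG hP) hnu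
    have hnc := not_cyclic_of_nonab hna
    have hpM := nonab_sigma hG hM hP hPM hna
    have hpH := nonab_sigma hG hH hP hPH hna
    have hNM := sigma_noncyclic_nz hG hM hpM hP hPM hnc
    have hNH := sigma_noncyclic_nz hG hH hpH hP hPH hnc
    obtain ⟨T, hT, hPT⟩ := L.exists_sylIn_ge hP (le_top : P ≤ ⊤)
    have hPT' : P = T := by
      by_contra h3
      have hlt := L.lt_inf_nz hT.isPGroup (lt_of_le_of_ne hPT h3)
      have h4 : ¬ IsMulCommutative ↥(T ⊓ nz P) := fun h => hna (isMulCommutative_mono hlt.le h)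
      have h5 := L.card_lt_of_lt hlt
      have h6 : Nat.card ↥(T ⊓ nz P) ≤ Nat.card G := by
        have := Subgroup.card_le_card_group (T ⊓ nz P)
        exact this
      have h7 := ih (Nat.card G - Nat.card ↥(T ⊓ nz P)) (by omega) (T ⊓ nz P) rfl
        (hT.isPGroup.to_le inf_le_left) h4
      exact hne (uniq_eq h7 hM (inf_le_right.trans hNM) hH (inf_le_right.trans hNH))
    subst hPT'
    exact hnu (nonab_sylow_uniq hG hT hna)

/-- BG 12.13 -/
theorem nonabelian_uniq {p : ℕ} [hp : Fact p.Prime] {P : Subgroup G} (hP : IsPGroup p P)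
    (hna : ¬ IsMulCommutative P) : InUniqueMaximal P := nonab_uniq hG _ P rfl hP hna

/-! ### BG 12.14 -/

omit hG in
/-- a normal `p`-complement, as a subgroup of `G` -/
theorem exists_normal_compl {H P : Subgroup G} {p : ℕ} [hp : Fact p.Prime]
    (h : HasNormalPComplement p H) (hP : SylIn p P H) : ∃ N : Subgroup G, N ≤ H ∧
      H ≤ normalizer (N : Set G) ∧ (Nat.card N).Coprime p ∧ N ⊔ P = H := by
  obtain ⟨P₀, N, hN, hc⟩ := h
  have hNn : H ≤ normalizer ((N.map H.subtype : Subgroup G) : Set G) := le_normalizer_map_subtype hN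
  refine ⟨N.map H.subtype, Subgroup.map_subtype_le _, hNn, ?_, ?_⟩
  · rw [Subgroup.card_map_of_injective H.subtype_injective, coprime_iff_not_dvd hp.out]
    have h1 : (P₀ : Subgroup H).index = Nat.card N := hc.index_eq_card
    rw [← h1]
    exact P₀.not_dvd_index
  · have h0 := L.sylIn_of_sylow P₀
    obtain ⟨x, hx, hxP⟩ := h0.exists_conj_eq hP
    have h1 : N.map H.subtype ⊔ (P₀ : Subgroup H).map H.subtype = H := by
      rw [← Subgroup.map_sup, hc.sup_eq_top, ← MonoidHom.range_eq_map, Subgroup.range_subtype]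
    rw [← hxP]
    nth_rewrite 1 [← L.mem_nz_iff.1 (hNn hx)]
    rw [← L.cj_sup, h1, L.cj_eq_self_of_mem hx]

theorem sigma_order_p_aux {M X P : Subgroup G} {p : ℕ} [hp : Fact p.Prime] (hM : IsCoatom M)
    (hpσ : p ∈ sigma M) (hX : Nat.card X = p) (hP : SylIn p P (sigmaCore M)) (hXP : X ≤ P)
    (h : p ∈ beta M ∨ X ≤ ⁅sigmaCore M, sigmaCore M⁆) :
    InUniqueMaximal (P ⊓ centralizer (X : Set G)) := by
  have hPM := sylIn_of_sigmaCore hG hM hpσ hP
  have hPt := sigma_sylow_top hG hM hpσ hPM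
  by_cases hβ : p ∈ beta M
  · have h1 := ideal_subnorm_uniq hG hβ.2 hPt hXP
    refine uniq_mono h1 (le_inf inf_le_left ?_) (pgroup_ne_top hG (hPt.isPGroup.to_le inf_le_left))
    have hT : IsPGroup p ↥(P ⊓ normalizer (X : Set G)) := hPt.isPGroup.to_le inf_le_left
    obtain ⟨x, hx, hxo, hx1⟩ := exists_central_in_normal hG hT
      (le_inf hXP Subgroup.le_normalizer) inf_le_right (ne_bot_of_card hX)
    rw [← eq_zpowers_of_prime (hX ▸ hp.out) hx hx1, Subgroup.le_centralizer_iff,
      Subgroup.zpowers_le]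
    rw [eq_zpowers_of_prime (hX ▸ hp.out) hx hx1]
    exact omZ_le_centralizer _ _ hxo
  · have hXd := h.resolve_left hβ
    have hσM : sigmaCore M ≤ M := sigmaCore_le M
    have hpM : p ∣ Nat.card M := hpσ.2.1
    have hc := H2.HasNormalPComplement.of_le (beta_struct hG hM hpM hβ).1
      (sigmaCore_le_derived hG hM)
    obtain ⟨N, hN, hNn, hNp, hNP⟩ := exists_normal_compl hc hP
    have hXP' : X ≤ ⁅P, P⁆ := derived_of_frattini (sol_coatom_sub hG hM hσM) hN hNn hP.le hNP hXP
      (coprime_of_isPGroup (isPGroup_of_card_eq hX) hNp) hXd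

    have hna : ¬ IsMulCommutative P := by
      intro hab
      rw [isMulCommutative_iff_le] at hab
      rw [Subgroup.commutator_eq_bot_iff_le_centralizer.2 hab, le_bot_iff] at hXP'
      exact ne_bot_of_card hX hXP'
    by_cases hnC : ¬ IsMulCommutative ↥(P ⊓ centralizer (X : Set G))
    · exact nonabelian_uniq hG (hPt.isPGroup.to_le inf_le_left) hnC
    push Not at hnC
    have hXZ : ¬ P ≤ centralizer (X : Set G) := by
      intro hc
      rw [inf_eq_left.2 hc] at hnC
      exact hna hnC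
    have hP1 : P ≠ ⊥ := by
      rintro rfl
      exact hXZ bot_le
    obtain ⟨z, hz, hzo, hz1⟩ := exists_central_in_normal hG hPt.isPGroup le_rfl
      Subgroup.le_normalizer hP1
    have hzc : Nat.card (zpowers z) = p := card_zpowers_eq_prime (mem_omZ.1 hzo).2 hz1
    have hzC : zpowers z ≤ centralizer (P : Set G) := by
      rw [Subgroup.zpowers_le]; exact omZ_le_centralizer _ _ hzo
    have hne : X ≠ zpowers z := by
      intro e
      apply hXZ
      rw [e, Subgroup.le_centralizer_iff]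
      exact hzC
    have hXz : X ≤ centralizer ((zpowers z : Subgroup G) : Set G) := by
      rw [Subgroup.le_centralizer_iff]
      exact hzC.trans (Subgroup.centralizer_le hXP)
    have hAe : IsElementaryAbelian p (X ⊔ zpowers z) :=
      isEA_sup (isEA_of_card_eq hX) (isEA_of_card_eq hzc) hXz
    have hAc : Nat.card (X ⊔ zpowers z : Subgroup G) = p ^ 2 := by
      rw [sup_comm, H23.card_sup_of_inf_eq_bot (hXz.trans (Subgroup.centralizer_le_normalizer _))
        (inf_eq_bot_of_card_prime hX hzc hne), hzc, hX, pow_two]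
    have hAP : X ⊔ zpowers z ≤ P := sup_le hXP (by rwa [Subgroup.zpowers_le])
    have hXX : X ≤ centralizer (X : Set G) := isMulCommutative_iff_le.1 (isEA_of_card_eq hX).1
    have hAC : X ⊔ zpowers z ≤ P ⊓ centralizer (X : Set G) :=
      le_inf hAP (sup_le hXX (hzC.trans (Subgroup.centralizer_le hXP)))
    by_cases hu : InUniqueMaximal (X ⊔ zpowers z)
    · exact uniq_mono hu hAC (pgroup_ne_top hG (hPt.isPGroup.to_le inf_le_left))
    exfalso
    have hA := E2s.of_not_uniq hG hAe hAc hu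
    obtain ⟨-, Z, -, -, -, -, hSZ, hZc, -, -, hd⟩ := hA.sylow_struct hG hPt hAP hna
    have h1 : X ≤ Z := (le_inf hXP' le_sup_left).trans hd
    have h2 : X = Z := L.eq_of_le_of_card_le h1 (by rw [hX, hZc])
    exact hXZ (h2 ▸ hSZ)

/-- BG 12.14 -/
theorem sigma_order_p_uniq {M X P : Subgroup G} {p : ℕ} [hp : Fact p.Prime] (hM : IsCoatom M)
    (hpσ : p ∈ sigma M) (hXM : X ≤ M) (hX : Nat.card X = p) (hP : SylIn p P (sigmaCore M))
    (h : p ∈ beta M ∨ X ≤ ⁅sigmaCore M, sigmaCore M⁆) :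
    (centralizer (X : Set G) ≤ M ∧ ∀ L' : Subgroup G, IsCoatom L' → centralizer (X : Set G) ≤ L' →
      L' = M) ∧ InUniqueMaximal P ∧ P ≤ M := by
  have hPM := sylIn_of_sigmaCore hG hM hpσ hP
  obtain ⟨m, hm, hmX⟩ := hPM.exists_conj_le (isPGroup_of_card_eq hX) hXM
  have hmσ : cj m (sigmaCore M) = sigmaCore M := L.mem_nz_iff.1 (le_nz_sigmaCore M hm)
  have h' : p ∈ beta M ∨ cj m X ≤ ⁅sigmaCore M, sigmaCore M⁆ := by
    refine h.imp id fun h => ?_
    rw [← hmσ, ← L.cj_commutator]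
    exact L.cj_mono h
  have h1 := sigma_order_p_aux hG hM hpσ (X := cj m X) (by rw [L.card_cj, hX]) hP hmX h'
  refine ⟨?_, uniq_mono h1 inf_le_left (pgroup_ne_top hG hP.isPGroup), hPM.le⟩
  have h2 : InUniqueMaximal (centralizer ((cj m X : Subgroup G) : Set G)) :=
    uniq_mono h1 inf_le_right (centralizer_ne_top hG
      (ne_bot_of_card (p := p) (by rw [L.card_cj, hX])))
  have hxP : P ⊓ centralizer ((cj m X : Subgroup G) : Set G) ≤ M := inf_le_left.trans hPM.le
  have h3 : centralizer ((cj m X : Subgroup G) : Set G) ≤ M :=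
    uniq_le h1 hM hxP inf_le_right (centralizer_ne_top hG
      (ne_bot_of_card (p := p) (by rw [L.card_cj, hX])))
  have hmM : cj m⁻¹ M = M := L.cj_eq_self_of_mem (M.inv_mem hm)
  rw [L.cent_cj] at h2 h3
  refine ⟨?_, fun L' hL hXL => ?_⟩
  · rwa [L.cj_le_iff, hmM] at h3
  · have h4 := uniq_eq h2 hM h3 (coatom_cj hL m) (L.cj_mono hXL)
    rw [L.cj_eq_iff, hmM] at h4
    exact h4

end Cfsg.Agent.H12.BG
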