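import Cfsg.Agent.H12.BgK

set_option autoImplicit false
set_option linter.unusedSectionVars false
set_option linter.style.haveILetI false
set_option linter.unusedVariables false

/-! splitting of abelian groups under a twisted automorphism; exponents -/

namespace Cfsg.Agent.H12.BG

open Subgroup
open Cfsg.Agent.L (cj nz SylIn)
open Cfsg.Agent.H14 (IsPiSub)
open Cfsg.Agent.OOT
open scoped commutatorElement

universe u

section
variable {S : Type*} [CommGroup S]

/-- the twisted norm -/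
def twNorm (θ : S →* S) (m ζ : ℕ) : S →* S where
  toFun x := ∏ i ∈ Finset.range m, (θ^[i] x) ^ (ζ ^ i)
  map_one' := by
    apply Finset.prod_eq_one
    intro i hi
    clear hi
    have : θ^[i] (1 : S) = 1 := by
      induction i with
      | zero => rfl
      | succ i ih => rw [Function.iterate_succ_apply', ih, map_one]
    rw [this, one_pow]
  map_mul' x y := by
    rw [← Finset.prod_mul_distrib]
    apply Finset.prod_congr rfl
    intro i hi
    clear hi
    have : θ^[i] (x * y) = θ^[i] x * θ^[i] y := by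
      induction i with
      | zero => rfl
      | succ i ih => rw [Function.iterate_succ_apply', ih, map_mul, Function.iterate_succ_apply',
          Function.iterate_succ_apply']
    rw [this, mul_pow]

theorem twNorm_apply (θ : S →* S) (m ζ : ℕ) (x : S) :
    twNorm θ m ζ x = ∏ i ∈ Finset.range m, (θ^[i] x) ^ (ζ ^ i) := rfl

theorem twNorm_fix (θ : S →* S) (m ζ : ℕ) (hm : ∀ x, θ^[m] x = x) (hζ : ∀ x : S, x ^ (ζ ^ m) = x)
    (x : S) : (θ (twNorm θ m ζ x)) ^ ζ = twNorm θ m ζ x := by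
  set f : ℕ → S := fun i => (θ^[i] x) ^ (ζ ^ i) with hf
  have h1 : (θ (twNorm θ m ζ x)) ^ ζ = ∏ i ∈ Finset.range m, f (i + 1) := by
    rw [twNorm_apply, map_prod, ← Finset.prod_pow]
    apply Finset.prod_congr rfl
    intro i _
    simp only [hf]
    rw [map_pow, ← pow_mul, Function.iterate_succ_apply', pow_succ]
  have h2 : (∏ i ∈ Finset.range m, f (i + 1)) * f 0 = (∏ i ∈ Finset.range m, f i) * f m := by
    rw [← Finset.prod_range_succ', Finset.prod_range_succ]
  have h3 : f 0 = f m := by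
    simp only [hf]
    rw [hm, hζ, Function.iterate_zero, id, pow_zero, pow_one]
  rw [h3] at h2
  rw [h1, twNorm_apply]
  exact mul_right_cancel h2

theorem twNorm_of_fix (θ : S →* S) (m ζ : ℕ) {y : S} (hy : (θ y) ^ ζ = y) :
    twNorm θ m ζ y = y ^ m := by
  rw [twNorm_apply]
  have : ∀ i, (θ^[i] y) ^ (ζ ^ i) = y := by
    intro i
    induction i with
    | zero => rw [Function.iterate_zero, id, pow_zero, pow_one]
    | succ i ih =>
      rw [Function.iterate_succ_apply', pow_succ, pow_mul, ← map_pow, ih, hy]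
  rw [Finset.prod_congr rfl (fun i _ => this i), Finset.prod_const, Finset.card_range]

theorem twNorm_comm (θ τ : S →* S) (m ζ : ℕ) (h : ∀ x, τ (θ x) = θ (τ x)) (x : S) :
    twNorm θ m ζ (τ x) = τ (twNorm θ m ζ x) := by
  rw [twNorm_apply, twNorm_apply, map_prod]
  apply Finset.prod_congr rfl
  intro i hi
  clear hi
  have : θ^[i] (τ x) = τ (θ^[i] x) := by
    induction i with
    | zero => rfl
    | succ i ih => rw [Function.iterate_succ_apply', ih, ← h, Function.iterate_succ_apply']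
  rw [this, map_pow]

end

section
variable {G : Type u} [Group G] [Finite G]

/-- conjugation as an endomorphism of `S` -/
def cjHom {S : Subgroup G} {g : G} (hg : g ∈ normalizer (S : Set G)) : S →* S where
  toFun x := ⟨g * x * g⁻¹, (Subgroup.mem_normalizer_iff.1 hg x).1 x.2⟩
  map_one' := Subtype.ext (by simp)
  map_mul' x y := Subtype.ext (by simp [mul_assoc])

theorem cjHom_coe {S : Subgroup G} {g : G} (hg : g ∈ normalizer (S : Set G)) (x : S) :
    ((cjHom hg x : S) : G) = g * x * g⁻¹ := rfl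

theorem cjHom_iterate {S : Subgroup G} {g : G} (hg : g ∈ normalizer (S : Set G)) (x : S) (i : ℕ) :
    (((cjHom hg)^[i] x : S) : G) = g ^ i * x * (g ^ i)⁻¹ := by
  induction i with
  | zero => simp
  | succ i ih =>
    rw [Function.iterate_succ_apply', cjHom_coe, ih, pow_succ']
    group

/-- splitting of an abelian `p`-group normalized by `g` of `p'`-order modulo the centralizer -/
theorem exists_twisted_split {p : ℕ} [hp : Fact p.Prime] {S : Subgroup G}
    (hS : IsMulCommutative S) (hSp : IsPGroup p S) {g : G} (hg : g ∈ normalizer (S : Set G))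
    {m ζ : ℕ} (hm : g ^ m ∈ centralizer (S : Set G)) (hmp : m.Coprime p)
    (hζ : ∀ x ∈ S, x ^ (ζ ^ m) = x) {N : Subgroup G} (hN : N ≤ normalizer (S : Set G))
    (hNc : ∀ n ∈ N, ⁅n, g⁆ ∈ centralizer (S : Set G)) :
    ∃ F K : Subgroup G, F ≤ S ∧ K ≤ S ∧ F ⊓ K = ⊥ ∧ F ⊔ K = S ∧ N ≤ normalizer (F : Set G) ∧
      N ≤ normalizer (K : Set G) ∧ ∀ y ∈ S, y ∈ F ↔ (g * y * g⁻¹) ^ ζ = y := by
  letI : CommGroup S :=
    { (inferInstance : Group S) with mul_comm := fun a b => hS.is_comm.comm a b }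
  set θ : S →* S := cjHom hg with hθ
  set π : S →* S := twNorm θ m ζ with hπ
  have hm' : ∀ x : S, θ^[m] x = x := by
    intro x
    apply Subtype.ext
    rw [cjHom_iterate, ← Subgroup.mem_centralizer_iff.1 hm x x.2, mul_inv_cancel_right]
  have hζ' : ∀ x : S, x ^ (ζ ^ m) = x := fun x => Subtype.ext (hζ x x.2)
  have hfix := twNorm_fix θ m ζ hm' hζ'
  have hoff : ∀ y : S, (θ y) ^ ζ = y → π y = y ^ m := fun y hy => twNorm_of_fix θ m ζ hy
  have hcard : (Nat.card S).Coprime m := by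
    obtain ⟨k, hk⟩ := IsPGroup.iff_card.1 hSp
    rw [hk]; exact Nat.Coprime.pow_left k hmp.symm
  have hinv : ∀ x : S, ∃ j : ℕ, (x ^ m) ^ j = x := by
    intro x
    obtain ⟨k, hk⟩ := exists_pow_eq_self_of_coprime (x := x) (n := m)
      (Nat.Coprime.coprime_dvd_right (orderOf_dvd_natCard x) hcard.symm)
    exact ⟨k, hk⟩
  let F' : Subgroup S :=
    { carrier := {y | (θ y) ^ ζ = y}
      one_mem' := by simp
      mul_mem' := by
        intro a b ha hb
        simp only [Set.mem_ofPred_eq] at ha hb ⊢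
        rw [map_mul, mul_pow, ha, hb]
      inv_mem' := by
        intro a ha
        simp only [Set.mem_ofPred_eq] at ha ⊢
        rw [map_inv, inv_pow, ha] }
  have hF' : ∀ y : S, y ∈ F' ↔ (θ y) ^ ζ = y := fun y => Iff.rfl
  have hcomm : ∀ n (hn : n ∈ N), ∀ x : S,
      cjHom (hN hn) (θ x) = θ (cjHom (hN hn) x) := by
    intro n hn x
    apply Subtype.ext
    have h1 := Subgroup.mem_centralizer_iff.1 (hNc n hn)
    simp only [hθ, cjHom_coe]
    have h2 : g * (n * x * n⁻¹) * g⁻¹ ∈ S := (θ (cjHom (hN hn) x)).2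
    have h3 := h1 _ h2
    have h4 : n * (g * x * g⁻¹) * n⁻¹ = ⁅n, g⁆ * (g * (n * x * n⁻¹) * g⁻¹) * ⁅n, g⁆⁻¹ := by
      simp only [commutatorElement_def]; group
    rw [h4, ← h3, mul_inv_cancel_right]
  refine ⟨F'.map S.subtype, π.ker.map S.subtype, Subgroup.map_subtype_le _,
    Subgroup.map_subtype_le _, ?_, ?_, ?_, ?_, ?_⟩
  · rw [← Subgroup.map_inf _ _ _ S.subtype_injective]
    have : F' ⊓ π.ker = ⊥ := by
      rw [eq_bot_iff]
      rintro y ⟨hy1, hy2⟩
      have h1 : y ^ m = 1 := by rw [← hoff y hy1]; exact hy2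
      obtain ⟨j, hj⟩ := hinv y
      rw [h1, one_pow] at hj
      rw [Subgroup.mem_bot, ← hj]
    rw [this, Subgroup.map_bot]
  · rw [← Subgroup.map_sup]
    have : F' ⊔ π.ker = ⊤ := by
      rw [eq_top_iff]
      intro x _
      obtain ⟨j, hj⟩ := hinv x
      rw [← hj]
      refine pow_mem ?_ j
      have h1 : x ^ m = π x * ((π x)⁻¹ * x ^ m) := by rw [mul_inv_cancel_left]
      rw [h1]
      refine Subgroup.mul_mem_sup (hfix x) ?_
      rw [MonoidHom.mem_ker, map_mul, map_inv, map_pow, hoff (π x) (hfix x), inv_mul_cancel]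
    rw [this, ← MonoidHom.range_eq_map, Subgroup.range_subtype]
  · refine H23.le_normalizer_of_conj_mem ?_
    rintro n hn _ ⟨y, hy, rfl⟩
    refine ⟨cjHom (hN hn) y, ?_, rfl⟩
    rw [SetLike.mem_coe, hF', ← hcomm n hn, ← map_pow]
    congr 1
  · refine H23.le_normalizer_of_conj_mem ?_
    rintro n hn _ ⟨y, hy, rfl⟩
    refine ⟨cjHom (hN hn) y, ?_, rfl⟩
    rw [SetLike.mem_coe, MonoidHom.mem_ker]
    rw [hπ, twNorm_comm θ (cjHom (hN hn)) m ζ (hcomm n hn) y]
    have : π y = 1 := hy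
    rw [← hπ, this, map_one]
  · intro y hy
    constructor
    · rintro ⟨z, hz, rfl⟩
      exact congrArg Subtype.val ((hF' z).1 hz)
    · intro h
      exact ⟨⟨y, hy⟩, (hF' _).2 (Subtype.ext h), rfl⟩

end
theorem pow_pow_modEq_one {p a : ℕ} (h : a ≡ 1 [MOD p]) (k : ℕ) :
    a ^ p ^ k ≡ 1 [MOD p ^ (k + 1)] := by
  have h1 : (p : ℤ) ∣ (a : ℤ) - 1 := by
    have := (Nat.modEq_iff_dvd.1 h.symm)
    simpa using this
  have h2 := dvd_sub_pow_of_dvd_sub (R := ℤ) (p := p) h1 k
  rw [one_pow] at h2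
  apply Nat.ModEq.symm
  rw [Nat.modEq_iff_dvd]
  push_cast
  exact_mod_cast h2

theorem exists_zeta {p : ℕ} [hp : Fact p.Prime] {l m : ℕ} (hm : 0 < m) (h : l ^ m ≡ 1 [MOD p])
    (k : ℕ) : ∃ ζ : ℕ, l * ζ ≡ 1 [MOD p] ∧ ζ ^ m ≡ 1 [MOD p ^ k] := by
  refine ⟨(l ^ (m - 1)) ^ p ^ k, ?_, ?_⟩
  · have h1 : ∀ (j : ℕ) (a : ℕ), a ^ p ^ j ≡ a [MOD p] := by
      intro j a
      induction j with
      | zero => simp [Nat.ModEq.refl]
      | succ j ih =>
        rw [pow_succ, pow_mul]
        have h2 : ∀ b : ℕ, b ^ p ≡ b [MOD p] := by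
          intro b
          rw [← ZMod.natCast_eq_natCast_iff]
          push_cast
          exact ZMod.pow_card _
        exact (h2 _).trans ih
    refine ((h1 k (l ^ (m - 1))).mul_left l).trans ?_
    rw [← pow_succ', Nat.sub_add_cancel hm]
    exact h
  · have e : ((l ^ (m - 1)) ^ p ^ k) ^ m = ((l ^ m) ^ (m - 1)) ^ p ^ k := by
      rw [← pow_mul, ← pow_mul, ← pow_mul, ← pow_mul]
      congr 1
      ring
    rw [e]
    have h2 : (l ^ m) ^ (m - 1) ≡ 1 [MOD p] := by
      have := h.pow (m - 1)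
      rwa [one_pow] at this
    exact (pow_pow_modEq_one h2 k).of_dvd (pow_dvd_pow p (Nat.le_succ k))

end Cfsg.Agent.H12.BG
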