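import Cfsg.Agent.H12.BgL

set_option autoImplicit false
set_option linter.unusedSectionVars false
set_option linter.style.haveILetI false
set_option linter.unusedVariables false

/-! BG 12.8: abelian Sylow subgroups -/

namespace Cfsg.Agent.H12.BG

open Subgroup
open Cfsg.Agent.L (cj nz SylIn)
open Cfsg.Agent.H14 (IsPiSub)
open Cfsg.Agent.OOT
open scoped commutatorElement

universe u

variable {G : Type u} [Group G] [Finite G]

theorem nilpotent_commute {F A B : Subgroup G} (hF : Group.IsNilpotent F) {p q : ℕ}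
    [hp : Fact p.Prime] [hq : Fact q.Prime] (hpq : q ≠ p) (hA : A ≤ F) (hB : B ≤ F)
    (hAp : IsPGroup p A) (hBq : IsPGroup q B) : B ≤ centralizer (A : Set G) := by
  obtain ⟨T, hT, hAT⟩ := L.exists_sylIn_ge hAp hA
  obtain ⟨Q, hQ, hBQ⟩ := L.exists_sylIn_ge hBq hB
  have h1 : F ≤ normalizer (T : Set G) := sylIn_normal hF hT Subgroup.le_normalizer
  have h2 : F ≤ normalizer (Q : Set G) := sylIn_normal hF hQ Subgroup.le_normalizer
  have h3 : ⁅Q, T⁆ ≤ Q ⊓ T := le_inf
      (H23.commutator_le_of_le_normalizer (hT.le.trans h2))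
      (by rw [Subgroup.commutator_comm]
          exact H23.commutator_le_of_le_normalizer (hQ.le.trans h1))
  rw [inf_eq_bot_of_isPGroup hQ.isPGroup (coprime_card_of_ne hq.out hpq hT.isPGroup),
      le_bot_iff] at h3
  exact (hBQ.trans (Subgroup.commutator_eq_bot_iff_le_centralizer.1 h3)).trans
    (Subgroup.centralizer_le hAT)

/-- an abelian Sylow subgroup of a nilpotent group is central -/
theorem nilpotent_le_cent_sylow {F S : Subgroup G} (hF : Group.IsNilpotent F) {p : ℕ}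
    [hp : Fact p.Prime] (hS : SylIn p S F) (hab : IsMulCommutative S) :
    F ≤ centralizer (S : Set G) := by
  refine le_of_sylIn_le fun q hq hqd => ?_
  haveI : Fact q.Prime := ⟨hq⟩
  by_cases hqp : q = p
  · subst hqp
    exact ⟨S, hS, isMulCommutative_iff_le.1 hab⟩
  · obtain ⟨T, hT⟩ := L.exists_sylIn (p := q) F
    exact ⟨T, hT, nilpotent_commute hF hqp hS.le hT.le hS.isPGroup hT.isPGroup⟩

/-- elementary abelian centralization: a `q'`-group centralizing the elements of order `q` of an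
abelian `q`-group -/
theorem cent_of_cent_omega {q : ℕ} [hq : Fact q.Prime] (hq2 : q ≠ 2) {S B K : Subgroup G}
    (hS : IsPGroup q S) (hK : K ≤ normalizer (S : Set G)) (hKq : (Nat.card K).Coprime q)
    (hmem : ∀ x ∈ S, x ^ q = 1 → x ∈ B) (hKB : K ≤ centralizer (B : Set G)) :
    K ≤ centralizer (S : Set G) := by
  refine Cfsg.Agent.S1443.result q hq2 S ⊥ K hS bot_le
        ⟨⟨⟨by rintro ⟨a, ha⟩ ⟨b, hb⟩; rw [Subgroup.mem_bot] at ha hb; subst ha; subst hb; rfl⟩⟩,
          fun x hx => by rw [Subgroup.mem_bot] at hx; rw [hx, one_pow]⟩ hK hKq ?_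
  rintro x ⟨hx, -⟩ hxo
  have h1 := hmem x hx (by rw [← hxo]; exact pow_orderOf_eq_one x)
  rw [← centralizer_zpowers]
  exact hKB.trans (Subgroup.centralizer_le (by rwa [SetLike.coe_subset_coe, Subgroup.zpowers_le]))

structure TAb (M E : Subgroup G) (p : ℕ) (A S : Subgroup G) : Prop where
  t : Tau2 M p A
  hE : IsComplIn E (sigmaCore M) M
  hAE : A ≤ E
  hS : SylIn p S ⊤
  hAS : A ≤ S
  hab : IsMulCommutative S

section
variable (hG : IsMinSimpleOddOrder G) {p : ℕ} [hp : Fact p.Prime] {M E A S : Subgroup G}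
include hG

omit hG in
theorem TAb.S_le_cent (h : TAb M E p A S) : S ≤ centralizer (A : Set G) :=
  (isMulCommutative_iff_le.1 h.hab).trans (Subgroup.centralizer_le h.hAS)

theorem TAb.cent_le_E (h : TAb M E p A S) : centralizer (A : Set G) ≤ E := by
  rw [← h.t.nz_inf_eq hG h.hE h.hAE]
  exact le_inf (h.t.cent_le hG) (Subgroup.centralizer_le_normalizer _)

theorem TAb.S_le_E (h : TAb M E p A S) : S ≤ E := h.S_le_cent.trans (h.cent_le_E hG)

theorem TAb.S_le_M (h : TAb M E p A S) : S ≤ M := (h.S_le_E hG).trans h.hE.1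

theorem TAb.sylE (h : TAb M E p A S) : SylIn p S E := h.hS.of_le (h.S_le_E hG) le_top

theorem TAb.sylM (h : TAb M E p A S) : SylIn p S M := h.hS.of_le (h.S_le_M hG) le_top

theorem TAb.mem (h : TAb M E p A S) {x : G} (hx : x ∈ S) : x ^ p = 1 ↔ x ∈ A :=
  h.t.sylow_mem hG h.hS.isPGroup (h.S_le_M hG) h.hAS hx

theorem TAb.nzS_le (h : TAb M E p A S) : normalizer (S : Set G) ≤ normalizer (A : Set G) :=
  h.t.nz_sylow_le hG (h.sylM hG) h.hAS

omit hG in
theorem TAb.A_le_N (h : TAb M E p A S) : A ≤ normalizer (A : Set G) := Subgroup.le_normalizer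

theorem TAb.E_le_N (h : TAb M E p A S) : E ≤ normalizer (A : Set G) :=
  h.t.compl_le_nz hG h.hE h.hAE

theorem TAb.N_ne_top (h : TAb M E p A S) : normalizer (A : Set G) ≠ ⊤ :=
  normalizer_ne_top hG (h.t.e2s hG).ne_bot ((h.t.e2s hG).ne_top hG)

theorem TAb.prank (h : TAb M E p A S) : PRankLE p 2 G :=
  pRankLE_of_sylow_top h.hS (H10.pRankLE_mono (h.S_le_M hG)
    (pRankLE_two_of_not_sigma hG h.t.coatom hp.out h.t.nsig))

theorem TAb.fitting_rank (h : TAb M E p A S) :
    RankLE 2 (fittingOf (normalizer (A : Set G))) := by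
  by_contra hc
  obtain ⟨q, hq, hr⟩ := not_rankLE hc
  haveI : Fact q.Prime := ⟨hq⟩
  by_cases hqp : q = p
  · subst hqp
    exact hr (H10.pRankLE_of_injective (Subgroup.subtype _) (Subgroup.subtype_injective _)
      (h.prank hG))
  · obtain ⟨B, hB, hBe, hBc⟩ := exists_ea_of_not_pRankLE hr
    have hA : A ≤ fittingOf (normalizer (A : Set G)) :=
      le_fittingOf Subgroup.le_normalizer le_rfl (isEA_isPGroup h.t.ea).isNilpotent
    have h1 : B ≤ E := (nilpotent_commute (fittingOf_nilpotent _) hqp hA hB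
      (isEA_isPGroup h.t.ea) (isEA_isPGroup hBe)).trans (h.cent_le_E hG)
    have h2 := rankLE_of_sigma' hG h.t.coatom h.hE.1 (compl_isPi hG h.t.coatom h.hE) q hq
    exact not_pRankLE_of_ea h1 hBe (by rw [hBc]) h2

theorem TAb.derived_nilpotent (h : TAb M E p A S) :
    Group.IsNilpotent ↥⁅normalizer (A : Set G), normalizer (A : Set G)⁆ := by
  haveI : Group.IsSolvable (normalizer (A : Set G)) := sol hG (h.N_ne_top hG)
  have h1 : RankLE 2 (fittingSubgroup (normalizer (A : Set G))) := by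
    intro q hq
    have h2 := h.fitting_rank hG q hq
    exact H10.pRankLE_of_injective
      ((fittingSubgroup (normalizer (A : Set G))).equivMapOfInjective
        (normalizer (A : Set G)).subtype (Subgroup.subtype_injective _)).toMonoidHom
      (MulEquiv.injective _) h2
  have h2 := (Cfsg.Agent.S1451.result (G := normalizer (A : Set G)) (odd_sub hG _)
    (Or.inr h1)).1
  rw [← map_commutator_subtype]
  haveI := h2
  exact Group.nilpotent_of_mulEquiv ((commutator (normalizer (A : Set G))).equivMapOfInjective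
        (normalizer (A : Set G)).subtype (Subgroup.subtype_injective _))

theorem TAb.S_le_derived (h : TAb M E p A S) :
    S ≤ ⁅normalizer (A : Set G), normalizer (A : Set G)⁆ :=
  (sylow_le_derived_normalizer hG h.hS).trans
    (Subgroup.commutator_mono (h.nzS_le hG) (h.nzS_le hG))

theorem TAb.N_le (h : TAb M E p A S) : normalizer (A : Set G) ≤ normalizer (S : Set G) := by
  have h1 : SylIn p S ⁅normalizer (A : Set G), normalizer (A : Set G)⁆ :=
    h.hS.of_le (h.S_le_derived hG) le_top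
  refine sylIn_normal (h.derived_nilpotent hG) h1 ?_
  intro y hy
  rw [L.mem_nz_iff, L.cj_commutator, L.cj_eq_self_of_mem hy]

theorem TAb.derived_cent (h : TAb M E p A S) :
    ⁅normalizer (A : Set G), normalizer (A : Set G)⁆ ≤ centralizer (S : Set G) :=
  nilpotent_le_cent_sylow (h.derived_nilpotent hG)
    (h.hS.of_le (h.S_le_derived hG) le_top) h.hab

theorem TAb.cent_le (h : TAb M E p A S) : centralizer (A : Set G) ≤ centralizer (S : Set G) := by
  refine le_of_sylIn_le fun q hq hqd => ?_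
  haveI : Fact q.Prime := ⟨hq⟩
  obtain ⟨T, hT⟩ := L.exists_sylIn (p := q) (centralizer (A : Set G))
  have hTN : T ≤ normalizer (S : Set G) :=
    (hT.le.trans (Subgroup.centralizer_le_normalizer _)).trans (h.N_le hG)
  refine ⟨T, hT, ?_⟩
  by_cases hqp : q = p
  · subst hqp
    have h1 : IsPGroup q ↥(S ⊔ T) :=
      IsPGroup.to_sup_of_normal_left' h.hS.isPGroup hT.isPGroup hTN
    have h2 : S = S ⊔ T := h.hS.eq_of_le h1 le_top le_sup_left
    have h3 : T ≤ S := h2 ▸ le_sup_right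
    exact h3.trans (isMulCommutative_iff_le.1 h.hab)
  · refine cent_of_cent_omega (h.t.ne_two hG) h.hS.isPGroup hTN
      (coprime_card_of_ne hp.out (Ne.symm hqp) hT.isPGroup) (fun x hx hxp => (h.mem hG hx).1 hxp)
      hT.le

/-- if `X ≤ A` of order `p` centralizes an element of `M_σ`, then `N_G(X) ≤ M` -/
theorem Tau2.nz_le_of_cent (h : Tau2 M p A) {X : Subgroup G} (hX1 : X ≠ ⊥)
    (hXA : X ≤ centralizer (A : Set G))
    (hX : sigmaCore M ⊓ centralizer (X : Set G) ≠ ⊥) : normalizer (X : Set G) ≤ M := by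
  obtain ⟨h1, h2⟩ := h.cent_only hG hX1 hXA hX
  intro g hg
  have h3 : cj g (centralizer (X : Set G)) = centralizer (X : Set G) := by
    rw [← L.cent_cj, L.mem_nz_iff.1 hg]
  have h4 := h2 _ (coatom_cj h.coatom g) (h3 ▸ L.cj_mono h1)
  rw [← coatom_normalizer_self hG h.coatom]
  exact L.mem_nz_iff.2 h4

omit hp in
theorem prime_cases {r : ℕ} (hr : r.Prime) (hM : IsCoatom M) (hE : IsComplIn E (sigmaCore M) M)
    (hd : r ∣ Nat.card E) : r ∈ tau1 M ∨ r ∈ tau2 M ∨ r ∈ tau3 M := by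
  have hrσ : r ∉ sigma M := compl_isPi hG hM hE r hr hd
  have hrM : r ∣ Nat.card M := hd.trans (Subgroup.card_dvd_of_le hE.1)
  by_cases h1 : PRankLE r 1 M
  · by_cases h2 : r ∣ Nat.card ↥⁅M, M⁆
    · exact Or.inr (Or.inr ⟨hr, hrσ, h2, h1⟩)
    · exact Or.inl ⟨hr, hrσ, hrM, h2, h1⟩
  · exact Or.inr (Or.inl ⟨hr, hrσ, pRankLE_two_of_not_sigma hG hM hr hrσ, h1⟩)

/-- the hypothesis of S1421 -/
def HFix (M E : Subgroup G) : Prop :=
  ∀ e ∈ E, e ≠ 1 → (∀ p : ℕ, p.Prime → p ∣ orderOf e → p ∈ tau1 M ∪ tau3 M) →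
    sigmaCore M ⊓ centralizer ({e} : Set G) = ⊥

omit hG hp [Finite G] in
theorem fix_prime (hfix : HFix M E) {r : ℕ} [hr : Fact r.Prime] {R₀ : Subgroup G} (hR : R₀ ≤ E)
    (hRc : Nat.card R₀ = r) (hrτ : r ∈ tau1 M ∪ tau3 M) :
    sigmaCore M ⊓ centralizer (R₀ : Set G) = ⊥ := by
  haveI : Finite R₀ := Nat.finite_of_card_ne_zero (by rw [hRc]; exact hr.out.ne_zero)
  have hR1 : R₀ ≠ ⊥ := by
    rintro rfl
    rw [Subgroup.card_bot] at hRc
    exact hr.out.one_lt.ne hRc
  obtain ⟨e, he, he1⟩ := exists_mem_ne_one hR1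
  have h1 : zpowers e = R₀ := by
    have h2 : orderOf e ∣ r := by
      rw [← hRc]
      have := orderOf_dvd_natCard (⟨e, he⟩ : R₀)
      rwa [← Subgroup.orderOf_coe] at this
    rcases (Nat.dvd_prime hr.out).1 h2 with h3 | h3
    · exact absurd (orderOf_eq_one_iff.1 h3) he1
    · apply SetLike.coe_injective
      apply Set.eq_of_subset_of_ncard_le
      · exact (Subgroup.zpowers_le.2 he)
      · change Nat.card R₀ ≤ Nat.card (zpowers e)
        rw [hRc, Nat.card_zpowers, h3]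
      · exact Set.toFinite _
  have h2 := hfix e (hR he) he1 (fun q hq hqd => by
    have h3 : q ∣ r := by
      rw [← hRc, ← h1, Nat.card_zpowers]; exact hqd
    rw [(Nat.prime_dvd_prime_iff_eq hq hr.out).1 h3]
    exact hrτ)
  rw [← h1, centralizer_zpowers]
  exact h2

theorem TAb.prime_cent (h : TAb M E p A S) (hfix : HFix M E) {r : ℕ} [hr : Fact r.Prime]
    {R₀ : Subgroup G} (hR : R₀ ≤ E) (hRc : Nat.card R₀ = r) (hrτ : r ∈ tau1 M ∪ tau3 M) :
    R₀ ≤ centralizer (A : Set G) := by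
  have hRf := fix_prime hfix hR hRc hrτ
  have hrσ : r ∉ sigma M := by rcases hrτ with h | h <;> exact h.2.1
  have hr1 : PRankLE r 1 M := by
    rcases hrτ with h | h
    · exact h.2.2.2.2
    · exact h.2.2.2
  have hrp : r ≠ p := by
    rintro rfl
    exact not_pRankLE_of_ea h.t.le h.t.ea (by rw [h.t.card]) hr1
  have hRA : R₀ ≤ normalizer (A : Set G) := hR.trans (h.E_le_N hG)
  have hRM : R₀ ≤ M := hR.trans h.hE.1
  have hcσ : (Nat.card (sigmaCore M)).Coprime r := by
    rw [coprime_iff_not_dvd hr.out]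
    exact fun hd => hrσ (isPiSub_sigmaCore M r hr.out hd)
  have h1 : ⁅A, R₀⁆ ≤ centralizer (sigmaCore M : Set G) := by
    refine fpf_commutator (by rw [hRc]; exact hr.out) (hRM.trans (le_nz_sigmaCore M))
      h.t.le_nz_sigma hRA ?_ (odd_sub hG _) ?_ (by rw [hRc]; exact hcσ) ?_ hRf
    · exact sol_coatom_sub hG h.t.coatom (sup_le (sup_le (sigmaCore_le M) h.t.le) hRM)
    · rw [h.t.card]; exact (h.t.coprime_sigma' hG).pow_right 2
    · rw [h.t.card, hRc]
      exact ((Nat.coprime_primes hp.out hr.out).2 (Ne.symm hrp)).pow_left 2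
  have h2 : ⁅A, R₀⁆ ≤ A := H23.commutator_le_of_le_normalizer hRA
  by_cases hY : ⁅A, R₀⁆ = ⊥
  · rw [Subgroup.le_centralizer_iff]
    exact Subgroup.commutator_eq_bot_iff_le_centralizer.1 hY
  exfalso
  have h3 : sigmaCore M ≤ centralizer ((⁅A, R₀⁆ : Subgroup G) : Set G) := by
    rw [Subgroup.le_centralizer_iff]; exact h1
  have hσ1 := sigmaCore_ne_bot hG h.t.coatom
  have hne : sigmaCore M ⊓ centralizer ((⁅A, R₀⁆ : Subgroup G) : Set G) ≠ ⊥ := by
    rw [inf_eq_left.2 h3]; exact hσ1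
  have h4 := h.t.nz_le_of_cent hG hY (h2.trans (h.t.e2s hG).le_cent) hne
  apply h.t.nz_not_le' hG
  refine le_trans ?_ h4
  intro n hn
  rw [L.mem_nz_iff]
  apply L.eq_of_le_of_card_le _ (by rw [L.card_cj])
  rw [L.cj_commutator, L.mem_nz_iff.1 hn, Subgroup.commutator_le]
  rintro a ha _ ⟨x, hx, rfl⟩
  have hc : ⁅n, x⁆ ∈ centralizer (A : Set G) :=
    Subgroup.centralizer_le h.hAS (h.derived_cent hG
      (Subgroup.commutator_mem_commutator hn (hRA hx)))
  have hax : ⁅a, x⁆ ∈ ⁅A, R₀⁆ := Subgroup.commutator_mem_commutator ha hx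
  have e1 := Subgroup.mem_centralizer_iff.1 hc a ha
  have e2 := Subgroup.mem_centralizer_iff.1 hc ⁅a, x⁆ (h2 hax)
  have e3 : ⁅a, (MulAut.conj n).toMonoidHom x⁆ = ⁅a, x⁆ := by
    have e4 : (MulAut.conj n).toMonoidHom x = ⁅n, x⁆ * x := by
      simp [commutatorElement_def]
    rw [e4]
    calc ⁅a, ⁅n, x⁆ * x⁆ = (a * ⁅n, x⁆) * x * a⁻¹ * x⁻¹ * ⁅n, x⁆⁻¹ := by
          simp only [commutatorElement_def]; group
      _ = ⁅n, x⁆ * ⁅a, x⁆ * ⁅n, x⁆⁻¹ := by
          rw [e1]; simp only [commutatorElement_def]; group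
      _ = ⁅a, x⁆ := by rw [← e2, mul_inv_cancel_right]
  rw [e3]
  exact hax

end
end Cfsg.Agent.H12.BG
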