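import Cfsg.Agent.H12.BgM

set_option autoImplicit false
set_option linter.unusedSectionVars false
set_option linter.style.haveILetI false
set_option linter.unusedVariables false

/-! invariant cyclic subgroups of the Sylow subgroups for `τ₂` -/

namespace Cfsg.Agent.H12.BG

open Subgroup
open Cfsg.Agent.L (cj nz SylIn)
open Cfsg.Agent.H14 (IsPiSub)
open Cfsg.Agent.OOT
open scoped commutatorElement

universe u

variable {G : Type u} [Group G] [Finite G]

section
variable (hG : IsMinSimpleOddOrder G) {p : ℕ} [hp : Fact p.Prime] {M E A S : Subgroup G}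
include hG

/-- all `τ₂`-primes have abelian Sylow subgroups in `G` -/
def AbTau2 (M : Subgroup G) : Prop :=
  ∀ q ∈ tau2 M, ∀ T : Subgroup G, SylIn q T ⊤ → IsMulCommutative T

theorem exists_TAb {q : ℕ} [hq : Fact q.Prime] (hM : IsCoatom M)
    (hE : IsComplIn E (sigmaCore M) M) (hab : AbTau2 M) (hqτ : q ∈ tau2 M) :
    ∃ B T : Subgroup G, TAb M E q B T := by
  obtain ⟨B, hBE, hB⟩ := exists_tau2_compl hG hM hE hqτ
  obtain ⟨T, hT, hBT⟩ := L.exists_sylIn_ge (isEA_isPGroup hB.ea) (le_top : B ≤ ⊤)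
  exact ⟨B, T, hB, hE, hBE, hT, hBT, hab q hqτ T hT⟩

/-- 12.8(c): subgroups of order `r ∈ τ₁(M)` in `E` are central in `E` -/
theorem prime_central (hM : IsCoatom M) (hE : IsComplIn E (sigmaCore M) M) (hab : AbTau2 M)
    (hfix : HFix M E) {r : ℕ} [hr : Fact r.Prime] {R₀ : Subgroup G} (hR : R₀ ≤ E)
    (hRc : Nat.card R₀ = r) (hrτ : r ∈ tau1 M) : E ≤ centralizer (R₀ : Set G) := by
  have hRp : IsPGroup r R₀ := isPGroup_of_card_eq hRc
  have hRf := fix_prime hfix hR hRc (Or.inl hrτ)
  have hsE : Group.IsSolvable E := sol_coatom_sub hG hM hE.1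
  refine le_of_sylIn_le fun q hq hqd => ?_
  haveI : Fact q.Prime := ⟨hq⟩
  rcases prime_cases hG hq hM hE hqd with hqτ | hqτ | hqτ
  · -- `τ₁`
    have hπ : IsPiSub (tau1 M) R₀ := isPiSub_of_isPGroup hrτ hRp
    obtain ⟨E₁, hE₁, hRE₁⟩ := exists_hallOf_ge hsE hR hπ
    have hcyc : IsCyclic E₁ := tau1_cyclic hG hM (hE₁.1.trans hE.1) hE₁.2.1
    obtain ⟨T, hT⟩ := L.exists_sylIn (p := q) E₁
    refine ⟨T, ?_, ?_⟩
    · rw [sylIn_iff_hallOf] at hT ⊢
      exact IsPiHallOf.trans (by rintro s rfl; exact hqτ) hT hE₁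
    · have h1 : IsMulCommutative E₁ := inferInstance
      exact (hT.le.trans (isMulCommutative_iff_le.1 h1)).trans (Subgroup.centralizer_le hRE₁)
  · obtain ⟨B, T, hT⟩ := exists_TAb hG hM hE hab hqτ
    refine ⟨T, hT.sylE hG, ?_⟩
    rw [Subgroup.le_centralizer_iff]
    exact (hT.prime_cent hG hfix hR hRc (Or.inl hrτ)).trans (hT.cent_le hG)
  · obtain ⟨E₃, hE₃⟩ := hallOf_exists hsE (tau3 M)
    obtain ⟨hc3, -, hn3⟩ := tau3_struct hG hM hE hE₃
    obtain ⟨T, hT⟩ := L.exists_sylIn (p := q) E₃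
    have hTE : SylIn q T E := by
      rw [sylIn_iff_hallOf] at hT ⊢
      exact IsPiHallOf.trans (by rintro s rfl; exact hqτ) hT hE₃
    refine ⟨T, hTE, ?_⟩
    have hn3' : Group.IsNilpotent E₃ := by
      letI : CommGroup E₃ := IsCyclic.commGroup
      infer_instance
    have hETn : E ≤ normalizer (T : Set G) := sylIn_normal hn3' hT hn3
    have hqσ : q ∉ sigma M := hqτ.2.1
    have hrσ : r ∉ sigma M := hrτ.2.1
    have hqr : q ≠ r := by
      rintro rfl
      exact hrτ.2.2.2.1 hqτ.2.2.1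
    have hRM : R₀ ≤ M := hR.trans hE.1
    have hTM : T ≤ M := hTE.le.trans hE.1
    have hc : ∀ {s : ℕ}, s.Prime → s ∉ sigma M → (Nat.card (sigmaCore M)).Coprime s := by
      intro s hs hsσ
      rw [coprime_iff_not_dvd hs]
      exact fun hd => hsσ (isPiSub_sigmaCore M s hs hd)
    have h1 : ⁅T, R₀⁆ ≤ centralizer (sigmaCore M : Set G) := by
      refine fpf_commutator (by rw [hRc]; exact hr.out) (hRM.trans (le_nz_sigmaCore M))
        (hTM.trans (le_nz_sigmaCore M)) (hR.trans hETn) ?_ (odd_sub hG _) ?_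
        (by rw [hRc]; exact hc hr.out hrσ) ?_ hRf
      · exact sol_coatom_sub hG hM (sup_le (sup_le (sigmaCore_le M) hTM) hRM)
      · exact (coprime_of_isPGroup hT.isPGroup (hc hq hqσ)).symm
      · rw [hRc]
        exact coprime_card_of_ne hr.out (Ne.symm hqr) hT.isPGroup
    have h2 : ⁅T, R₀⁆ ≤ T := H23.commutator_le_of_le_normalizer (hR.trans hETn)
    have h3 : ⁅T, R₀⁆ = ⊥ := by
      by_contra hne
      obtain ⟨e, he, he1⟩ := exists_mem_ne_one hne
      have h4 := hfix e (hTE.le (h2 he)) he1 (fun s hs hsd => by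
        have h5 : s ∣ Nat.card T := hsd.trans (by
          have := orderOf_dvd_natCard (⟨e, h2 he⟩ : T)
          rwa [← Subgroup.orderOf_coe] at this)
        have h6 : s = q := by
          by_contra h7
          exact not_dvd_of_isPGroup hs h7 hT.isPGroup h5
        rw [h6]; exact Or.inr hqτ)
      have h5 : sigmaCore M ≤ centralizer ({e} : Set G) := by
        rw [← centralizer_zpowers, Subgroup.le_centralizer_iff, Subgroup.zpowers_le]
        exact h1 he
      rw [inf_eq_left.2 h5] at h4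
      exact sigmaCore_ne_bot hG hM h4
    exact Subgroup.commutator_eq_bot_iff_le_centralizer.1 h3

/-- an `r`-subgroup and a `p`-subgroup, `r, p ∈ σ(M)`, commute modulo `M_α` -/
theorem sigma_commute_mod {Ms S T : Subgroup G} {r : ℕ} [hr : Fact r.Prime] (hMs : IsCoatom Ms)
    (hpσ : p ∈ sigma Ms) (hrσ : r ∈ sigma Ms) (hrp : r ≠ p) (hS : SylIn p S Ms)
    (hT : SylIn r T Ms) {s t : G} (hs : s ∈ S) (ht : t ∈ T) : ⁅s, t⁆ ∈ alphaCore Ms := by
  have n1 := (sigma_sylow_image hG hMs hpσ hS).2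
  have n2 := (sigma_sylow_image hG hMs hrσ hT).2
  set f := QuotientGroup.mk' (piCore (alpha Ms) Ms)
  have hSp : IsPGroup p ((S.subgroupOf Ms).map f) :=
    (hS.isPGroup.comap_of_injective _ Ms.subtype_injective).map f
  have hTp : IsPGroup r ((T.subgroupOf Ms).map f) :=
    (hT.isPGroup.comap_of_injective _ Ms.subtype_injective).map f
  have hbot : (S.subgroupOf Ms).map f ⊓ (T.subgroupOf Ms).map f = ⊥ :=
    inf_eq_bot_of_isPGroup hSp (coprime_card_of_ne hp.out (Ne.symm hrp) hTp)
  have hsM : s ∈ Ms := hS.le hs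
  have htM : t ∈ Ms := hT.le ht
  have h1 : f ⁅(⟨s, hsM⟩ : Ms), ⟨t, htM⟩⁆ ∈ (⊥ : Subgroup (Ms ⧸ piCore (alpha Ms) Ms)) := by
    rw [← hbot, map_commutatorElement]
    have h2 : f ⟨s, hsM⟩ ∈ (S.subgroupOf Ms).map f := Subgroup.mem_map_of_mem f hs
    have h3 : f ⟨t, htM⟩ ∈ (T.subgroupOf Ms).map f := Subgroup.mem_map_of_mem f ht
    refine ⟨?_, ?_⟩
    · rw [commutatorElement_def, mul_assoc, mul_assoc]
      refine Subgroup.mul_mem _ h2 ?_
      rw [← mul_assoc]
      exact n1.conj_mem _ (Subgroup.inv_mem _ h2) _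
    · rw [commutatorElement_def]
      exact Subgroup.mul_mem _ (n2.conj_mem _ h3 _) (Subgroup.inv_mem _ h3)
  rw [Subgroup.mem_bot] at h1
  have h2 := (QuotientGroup.eq_one_iff _).1 h1
  exact ⟨_, h2, rfl⟩

/-- the irreducible case -/
theorem TAb.irr (h : TAb M E p A S) (hab : AbTau2 M) (hfix : HFix M E)
    (hirr : ∀ A₁ : Subgroup G, A₁ ≤ A → Nat.card A₁ = p →
      ¬ normalizer (A : Set G) ≤ normalizer (A₁ : Set G)) :
    E ≤ centralizer (A : Set G) := by
  have hM := h.t.coatom
  have hE := h.hE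
  have hEN := h.E_le_N hG
  have hconj : ∀ x ∈ E, cj x (centralizer (A : Set G)) = centralizer (A : Set G) := by
    intro x hx
    rw [← L.cent_cj, L.mem_nz_iff.1 (hEN hx)]
  refine le_of_sylIn_le fun r hr hrd => ?_
  haveI : Fact r.Prime := ⟨hr⟩
  obtain ⟨R, hR⟩ := L.exists_sylIn (p := r) E
  refine ⟨R, hR, ?_⟩
  by_contra hcon
  rcases prime_cases hG hr hM hE hrd with hrτ | hrτ | hrτ
  swap
  · apply hcon
    by_cases hrp : r = p
    · subst hrp
      obtain ⟨x, hx, hxS⟩ := (h.sylE hG).exists_conj_eq hR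
      rw [← hxS, ← hconj x hx]
      exact L.cj_mono h.S_le_cent
    · obtain ⟨B, T, hT⟩ := exists_TAb hG hM hE hab hrτ
      obtain ⟨P, hP, -, hPA, hPM⟩ := hT.t.sylow_cent hG hE hT.hAE (Ne.symm hrp) h.t h.hAE
      have hPE : P ≤ E := hPA.trans (h.cent_le_E hG)
      obtain ⟨x, hx, hxS⟩ := (hP.of_le hPE le_top).exists_conj_eq hR
      rw [← hxS, ← hconj x hx]
      exact L.cj_mono hPA
  swap
  · apply hcon
    exact ((tau3_sylow_le hG hM hE hrτ hR).trans (Subgroup.commutator_mono hEN hEN)).trans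
      ((h.derived_cent hG).trans (Subgroup.centralizer_le h.hAS))
  -- the case `r ∈ τ₁`
  have hrσ : r ∉ sigma M := hrτ.2.1
  have hrp : r ≠ p := by
    rintro rfl
    exact not_pRankLE_of_ea h.t.le h.t.ea (by rw [h.t.card]) hrτ.2.2.2.2
  have hRM : R ≤ M := hR.le.trans hE.1
  have hRcyc : IsCyclic R := sylow_cyclic_of_rank_one hG hrτ.2.2.1 hrτ.2.2.2.2 hR.isPGroup hRM
  have hR1 : R ≠ ⊥ := by rintro rfl; exact hcon bot_le
  obtain ⟨R₀, hR₀, hR₀c⟩ := exists_order_p (dvd_card_of_ne_bot hR.isPGroup hR1)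
  have hcen : E ≤ centralizer (R₀ : Set G) :=
    prime_central hG hM hE hab hfix (hR₀.trans hR.le) hR₀c hrτ
  have hR₀A : R₀ ≤ centralizer (A : Set G) := by
    rw [Subgroup.le_centralizer_iff]; exact h.hAE.trans hcen
  set D := R ⊓ centralizer (A : Set G) with hD
  have hDcyc : IsCyclic D := isCyclic_of_injective (Subgroup.inclusion (inf_le_left : D ≤ R))
      (Subgroup.inclusion_injective _)
  have hR₀D : R₀ ≤ D := le_inf hR₀ hR₀A
  have hCE : centralizer (A : Set G) ≤ E := h.cent_le_E hG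
  have hDH : IsPiHallOf {r} D (centralizer (A : Set G)) :=
    IsPiHallOf.inf_normal (sylIn_iff_hallOf.1 hR) hCE
      (hEN.trans (normalizer_le_normalizer_centralizer A))
  have hNR₀ : normalizer (A : Set G) ≤ normalizer (R₀ : Set G) := by
    intro x hx
    obtain ⟨n, hn, y, hy, rfl⟩ := hallOf_frattini (sol_coatom_sub hG hM (hCE.trans hE.1))
      (Subgroup.centralizer_le_normalizer _) (normalizer_le_normalizer_centralizer A) hDH hx
    refine mul_mem (Subgroup.centralizer_le_normalizer _ (hcen (hCE hn))) ?_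
    rw [L.mem_nz_iff]
    exact eq_of_card_of_cyclic hDcyc ((L.cj_mono hR₀D).trans (L.mem_nz_iff.1 hy.2).le) hR₀D
      (L.card_cj _ _)
  obtain ⟨Ms, hMs, hNMs⟩ := exists_coatom_ge (nz_ne_top_of_card hG hR₀c)
  have hNA : normalizer (A : Set G) ≤ Ms := hNR₀.trans hNMs
  have hSMs : SylIn p S Ms := h.hS.of_le (((h.S_le_cent).trans
    (Subgroup.centralizer_le_normalizer _)).trans hNA) le_top
  have hpσs : p ∈ sigma Ms := by
    refine mem_sigma_of_sylIn hG hSMs ?_ ((h.nzS_le hG).trans hNA)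
    exact (by rw [h.t.card]; exact dvd_pow_self p two_ne_zero :
      p ∣ Nat.card A).trans (Subgroup.card_dvd_of_le (h.hAS.trans hSMs.le))
  have hRMs : R ≤ Ms := (hR.le.trans hEN).trans hNA
  have hRN : R ≤ normalizer (A : Set G) := hR.le.trans hEN
  by_cases hrs : r ∈ sigma Ms
  · apply hcon
    obtain ⟨T, hT, hRT⟩ := L.exists_sylIn_ge hR.isPGroup hRMs
    have hαp : (Nat.card (alphaCore Ms)).Coprime p := by
      rw [coprime_iff_not_dvd hp.out]
      intro hd
      have h1 := (alphaCore_hall hG hMs).2.1 p hp.out hd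
      apply h1.2
      exact H10.pRankLE_of_injective (Subgroup.subtype _) (Subgroup.subtype_injective _)
        (h.prank hG)
    have h0 := inf_eq_bot_of_isPGroup h.hS.isPGroup hαp
    refine le_trans ?_ (Subgroup.centralizer_le h.hAS)
    intro t ht
    rw [Subgroup.mem_centralizer_iff]
    intro s hs
    have h1 : ⁅s, t⁆ ∈ S ⊓ alphaCore Ms := by
      refine ⟨?_, sigma_commute_mod hG hMs hpσs hrs hrp hSMs hT hs (hRT ht)⟩
      rw [commutatorElement_def, mul_assoc, mul_assoc]
      refine S.mul_mem hs ?_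
      rw [← mul_assoc]
      exact H23.mem_normalizer_conj (h.N_le hG) (hRN ht) (S.inv_mem hs)
    rw [h0, Subgroup.mem_bot, commutatorElement_eq_one_iff_mul_comm] at h1
    exact h1
  · obtain ⟨hr1, B, hBe, hBc, hR₀B⟩ := not_sigma_normalizer hG hMs hrs hR₀c hNMs
    have hBMs : B ≤ Ms := by
      refine le_trans ?_ hNMs
      refine le_trans ?_ (Subgroup.centralizer_le_normalizer _)
      exact (isMulCommutative_iff_le.1 hBe.1).trans (Subgroup.centralizer_le hR₀B)
    have hB : Tau2 Ms r B := ⟨hMs, hrs, hBMs, hBe, hBc⟩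
    have hSσ : S ≤ sigmaCore Ms :=
      le_sigmaCore hG hMs hSMs.le (isPiSub_of_isPGroup hpσs h.hS.isPGroup)
    have hMsS : Ms ≤ normalizer (S : Set G) :=
      sylIn_normal (hB.nilpotent hG) (hSMs.of_le hSσ (sigmaCore_le Ms)) (le_nz_sigmaCore Ms)
    have hMsN : Ms ≤ normalizer (A : Set G) := hMsS.trans (h.nzS_le hG)
    obtain ⟨T, hT, hRT⟩ := L.exists_sylIn_ge hR.isPGroup hRMs
    have hTab : IsMulCommutative T := hB.sylow_abelian hG hT.isPGroup hT.le
    have hDsyl : SylIn r D (centralizer (A : Set G)) := sylIn_iff_hallOf.2 hDH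
    have hTD : T ⊓ centralizer (A : Set G) = D :=
      (hDsyl.eq_of_le (hT.isPGroup.to_le inf_le_left) inf_le_right
        (inf_le_inf_right _ hRT)).symm
    set W := centralizer (D : Set G) with hW
    have hTW : T ≤ W := (isMulCommutative_iff_le.1 hTab).trans
      (Subgroup.centralizer_le (inf_le_left.trans hRT))
    have hAW : A ≤ W := by
      rw [hW, Subgroup.le_centralizer_iff]; exact inf_le_right
    have hDT : D ≤ T := inf_le_left.trans hRT
    haveI : (D.subgroupOf W).Normal := by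
      have := le_nz_subgroupOf (H := W) (Subgroup.centralizer_le_normalizer (D : Set G))
      rw [Subgroup.subgroupOf_self] at this
      exact normalizer_eq_top_iff.1 (top_le_iff.1 this)
    set f := QuotientGroup.mk' (D.subgroupOf W) with hf
    have hker : ∀ x : W, f x = 1 ↔ (x : G) ∈ D := fun x => QuotientGroup.eq_one_iff x
    have hnc : ¬ IsCyclic ((T.subgroupOf W).map f) := by
      intro hc
      -- an elementary abelian subgroup of order `r²` of `T`
      have hrT : ¬ PRankLE r 1 T := fun hh => hr1 ((pRankLE_sylIn hT).1 hh)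
      obtain ⟨B₁, hB₁, hB₁e, hB₁c⟩ := exists_ea_of_not_pRankLE hrT
      have hB₁nc : ¬ IsCyclic B₁ := not_isCyclic_of_ea hB₁e hB₁c
      have hB₁D : ¬ B₁ ≤ D := by
        intro hle
        exact hB₁nc (isCyclic_of_injective (Subgroup.inclusion hle)
          (Subgroup.inclusion_injective _))
      have hRD : ¬ R ≤ D := fun hle => hcon (hle.trans inf_le_right)
      have ne_bot : ∀ {X : Subgroup G}, X ≤ T → ¬ X ≤ D → (X.subgroupOf W).map f ≠ ⊥ := by
        intro X hX hXD e
        apply hXD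
        intro x hx
        have h1 : f ⟨x, hTW (hX hx)⟩ ∈ (X.subgroupOf W).map f := Subgroup.mem_map_of_mem f hx
        rw [e, Subgroup.mem_bot, hker] at h1
        exact h1
      have hB₁f : (B₁.subgroupOf W).map f ≤ (T.subgroupOf W).map f :=
        Subgroup.map_mono (Subgroup.subgroupOf_mono W hB₁)
      have hRf : (R.subgroupOf W).map f ≤ (T.subgroupOf W).map f :=
        Subgroup.map_mono (Subgroup.subgroupOf_mono W hRT)
      have hB₁cyc : IsCyclic ((B₁.subgroupOf W).map f) :=
        isCyclic_of_injective (Subgroup.inclusion hB₁f) (Subgroup.inclusion_injective _)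
      have hB₁card : Nat.card ((B₁.subgroupOf W).map f) = r := by
        have h1 := card_dvd_prime_of_cyclic (p := r) hB₁cyc (by
          rintro _ ⟨x, hx, rfl⟩
          rw [← map_pow]
          have h2 : x ^ r = 1 := Subtype.ext (hB₁e.2 x hx)
          rw [h2, map_one])
        rcases (Nat.dvd_prime hr).1 h1 with h2 | h2
        · exact absurd (Subgroup.card_eq_one.1 h2) (ne_bot hB₁ hB₁D)
        · exact h2
      have hRp : IsPGroup r ((R.subgroupOf W).map f) :=
        (hR.isPGroup.comap_of_injective _ W.subtype_injective).map f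
      obtain ⟨Y, hY, hYc⟩ := exists_order_p (dvd_card_of_ne_bot hRp (ne_bot hRT hRD))
      have h5 : Y = (B₁.subgroupOf W).map f :=
        eq_of_card_of_cyclic hc (hY.trans hRf) hB₁f (by rw [hYc, hB₁card])
      have h6 : B₁ ≤ R := by
        intro b hb
        have h7 : f ⟨b, hTW (hB₁ hb)⟩ ∈ (R.subgroupOf W).map f :=
          hY (h5 ▸ Subgroup.mem_map_of_mem f hb)
        obtain ⟨t, ht, e⟩ := h7
        have h8 : t⁻¹ * ⟨b, hTW (hB₁ hb)⟩ ∈ D.subgroupOf W := by
          rw [Subgroup.mem_subgroupOf, ← hker, map_mul, map_inv, e, inv_mul_cancel]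
        have h9 : (t : G)⁻¹ * b ∈ R := (inf_le_left : D ≤ R) h8
        have := R.mul_mem (show (t : G) ∈ R from ht) h9
        rwa [mul_inv_cancel_left] at this
      exact hB₁nc (isCyclic_of_injective (Subgroup.inclusion h6)
          (Subgroup.inclusion_injective _))
    have hTN : T ≤ normalizer (A : Set G) := hT.le.trans hMsN
    have hAr : (Nat.card A).Coprime r := by
      rw [h.t.card]
      exact ((Nat.coprime_primes hp.out hr).2 (Ne.symm hrp)).pow_left 2
    have hAD : ¬ A ≤ D := by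
      intro hle
      have h1 : IsPGroup r A := hR.isPGroup.to_le (hle.trans inf_le_left)
      have h2 := inf_eq_bot_of_isPGroup (isEA_isPGroup h.t.ea)
        (coprime_card_of_ne hp.out (Ne.symm hrp) h1)
      rw [inf_idem] at h2
      exact (h.t.e2s hG).ne_bot h2
    have hex : ∃ t ∈ T, t ∉ D ∧ ¬ A ⊓ centralizer ({t} : Set G) ≤ D := by
      by_contra hno
      push Not at hno
      apply hAD
      have h1 : A.subgroupOf W ≤ D.subgroupOf W := by
        refine le_of_cent_quot (p := r) (Z := D.subgroupOf W) (A := T.subgroupOf W)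
          (Subgroup.subgroupOf_mono W hDT) (hT.isPGroup.comap_of_injective _ W.subtype_injective)
          ?_ hnc (le_nz_subgroupOf hTN) (by rwa [card_subgroupOf hAW]) le_rfl ?_
        · intro a ha b hb
          have : ⁅a, b⁆ = 1 := by
            rw [commutatorElement_eq_one_iff_mul_comm]
            exact Subtype.ext (isMulCommutative_iff'.1 hTab a ha b hb)
          rw [this]; exact one_mem _
        · intro a ha haD
          rintro k ⟨hk1, hk2⟩
          refine hno a ha haD ⟨hk1, ?_⟩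
          have h3 := Subgroup.mem_centralizer_singleton_iff.1 hk2
          exact Subgroup.mem_centralizer_singleton_iff.2 (congrArg Subtype.val h3)
      intro a ha
      exact h1 (show (⟨a, hAW ha⟩ : W) ∈ A.subgroupOf W from ha)
    obtain ⟨t, ht, htD, htA⟩ := hex
    have hA1 : Nat.card ↥(A ⊓ centralizer ({t} : Set G)) = p := by
      rcases card_eq_prime_or h.t.card (X := A ⊓ centralizer ({t} : Set G)) inf_le_left
        with e | e | e
      · exact absurd (e ▸ bot_le) htA
      · exact e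
      · exfalso
        apply htD
        rw [← hTD]
        refine ⟨ht, ?_⟩
        have h1 : A ≤ centralizer ({t} : Set G) := e ▸ inf_le_right
        rw [← centralizer_zpowers, Subgroup.le_centralizer_iff, Subgroup.zpowers_le] at h1
        exact h1
    refine hirr _ inf_le_left hA1 ?_
    intro n hn
    rw [L.mem_nz_iff]
    apply L.eq_of_le_of_card_le _ (by rw [L.card_cj])
    rintro _ ⟨a, ⟨ha1, ha2⟩, rfl⟩
    have hnA : n * a * n⁻¹ ∈ A := (Subgroup.mem_normalizer_iff.1 hn a).1 ha1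
    refine ⟨hnA, ?_⟩
    have hc : ⁅n, t⁆ ∈ centralizer (A : Set G) :=
      Subgroup.centralizer_le h.hAS (h.derived_cent hG
        (Subgroup.commutator_mem_commutator hn (hTN ht)))
    have e1 := Subgroup.mem_centralizer_iff.1 hc _ hnA
    have e2 : a * t = t * a := Subgroup.mem_centralizer_singleton_iff.1 ha2
    refine Subgroup.mem_centralizer_singleton_iff.2 ?_
    change n * a * n⁻¹ * t = t * (n * a * n⁻¹)
    have e3 : t = ⁅n, t⁆⁻¹ * (n * t * n⁻¹) := by
      simp only [commutatorElement_def]; group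
    have e4 : n * a * n⁻¹ * ⁅n, t⁆⁻¹ = ⁅n, t⁆⁻¹ * (n * a * n⁻¹) := by
      rw [eq_inv_mul_iff_mul_eq, ← mul_assoc, ← e1, mul_inv_cancel_right]
    calc n * a * n⁻¹ * t = n * a * n⁻¹ * (⁅n, t⁆⁻¹ * (n * t * n⁻¹)) := by rw [← e3]
      _ = (n * a * n⁻¹ * ⁅n, t⁆⁻¹) * (n * t * n⁻¹) := by group
      _ = ⁅n, t⁆⁻¹ * (n * (a * t) * n⁻¹) := by rw [e4]; group
      _ = (⁅n, t⁆⁻¹ * (n * t * n⁻¹)) * (n * a * n⁻¹) := by rw [e2]; group
      _ = t * (n * a * n⁻¹) := by rw [← e3]

end
end Cfsg.Agent.H12.BG
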