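import Cfsg.Agent.H12.BgN

set_option autoImplicit false
set_option linter.unusedSectionVars false
set_option linter.style.haveILetI false
set_option linter.unusedVariables false

/-! invariant cyclic subgroups of the Sylow subgroups for `τ₂` -/

namespace Cfsg.Agent.H12.BG

open Subgroup
open Cfsg.Agent.L (cj nz SylIn)
open Cfsg.Agent.H14 (IsPiSub)
open Cfsg.Agent.OOT
open scoped commutatorElement

universe u

variable {G : Type u} [Group G] [Finite G]

theorem conj_pow_iter {g a : G} {l : ℕ} (h : g * a * g⁻¹ = a ^ l) (i : ℕ) :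
    g ^ i * a * (g ^ i)⁻¹ = a ^ (l ^ i) := by
  induction i with
  | zero => simp
  | succ i ih =>
    have : g ^ (i + 1) * a * (g ^ (i + 1))⁻¹ = g ^ i * (g * a * g⁻¹) * (g ^ i)⁻¹ := by
      rw [pow_succ]; group
    rw [this, h, ← conj_pow, ih, ← pow_mul, pow_succ]

section
variable (hG : IsMinSimpleOddOrder G) {p : ℕ} [hp : Fact p.Prime] {M E A S : Subgroup G}
include hG

/-- some subgroup of order `p` of `A` centralizes an element of `M_σ` -/
theorem Tau2.exists_nfpf (h : Tau2 M p A) : ∃ X : Subgroup G, X ≤ A ∧ Nat.card X = p ∧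
    sigmaCore M ⊓ centralizer (X : Set G) ≠ ⊥ := by
  by_contra hc
  push Not at hc
  refine sigmaCore_ne_bot hG h.coatom
    (le_bot_iff.1 (le_of_cent_le h.ea h.card h.le_nz_sigma (h.coprime_sigma' hG) ?_))
  intro X hX hXc
  exact (hc X hX hXc).le

/-- the reducible case -/
theorem TAb.red (h : TAb M E p A S) {A₁ : Subgroup G} (hA₁ : A₁ ≤ A) (hA₁c : Nat.card A₁ = p)
    (hN₁ : normalizer (A : Set G) ≤ normalizer (A₁ : Set G)) :
    ∃ F K : Subgroup G, F ≤ S ∧ K ≤ S ∧ IsCyclic F ∧ IsCyclic K ∧ F ⊓ K = ⊥ ∧ F ⊔ K = S ∧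
      normalizer (A : Set G) ≤ normalizer (F : Set G) ∧
      normalizer (A : Set G) ≤ normalizer (K : Set G) := by
  obtain ⟨X, hXA, hXc, hXne⟩ := h.t.exists_nfpf hG
  have hXM := h.t.nz_le_of_cent hG (ne_bot_of_card hXc) (hXA.trans (h.t.e2s hG).le_cent) hXne
  obtain ⟨g, hgN, hgM⟩ : ∃ g ∈ normalizer (A : Set G), g ∉ M := by
    by_contra hc
    push Not at hc
    exact h.t.nz_not_le' hG hc
  have hNS := h.N_le hG
  have hSN : S ≤ normalizer (A : Set G) := h.S_le_cent.trans (Subgroup.centralizer_le_normalizer _)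
  have hSsyl : SylIn p S (normalizer (A : Set G)) := h.hS.of_le hSN le_top
  set m := S.relIndex (normalizer (A : Set G)) with hm
  have hmp : m.Coprime p := (coprime_iff_not_dvd hp.out).2 hSsyl.not_dvd
  have hm0 : 0 < m := Nat.pos_of_ne_zero (by
    intro e
    apply hSsyl.not_dvd
    rw [← hm, e]
    exact dvd_zero p)
  have hgm : g ^ m ∈ S := by
    haveI : (S.subgroupOf (normalizer (A : Set G))).Normal := by
      have := le_nz_subgroupOf (H := normalizer (A : Set G)) hNS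
      rw [Subgroup.subgroupOf_self] at this
      exact normalizer_eq_top_iff.1 (top_le_iff.1 this)
    exact Subgroup.pow_index_mem (S.subgroupOf (normalizer (A : Set G))) ⟨g, hgN⟩
  have hgmC : g ^ m ∈ centralizer (S : Set G) := isMulCommutative_iff_le.1 h.hab hgm
  obtain ⟨a, ha, ha1⟩ := exists_mem_ne_one (ne_bot_of_card hA₁c)
  have hA₁eq := eq_zpowers_of_prime (R := A₁) (hA₁c ▸ hp.out) ha ha1
  have hgA₁ : g ∈ normalizer (A₁ : Set G) := hN₁ hgN
  obtain ⟨l, hl⟩ : ∃ l : ℕ, g * a * g⁻¹ = a ^ l := by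
    have : g * a * g⁻¹ ∈ zpowers a := by
      rw [hA₁eq]; exact (Subgroup.mem_normalizer_iff.1 hgA₁ a).1 ha
    rw [← mem_powers_iff_mem_zpowers] at this
    obtain ⟨l, hl⟩ := this
    exact ⟨l, hl.symm⟩
  have hl' : ∀ y ∈ A₁, g * y * g⁻¹ = y ^ l := by
    intro y hy
    rw [← hA₁eq, ← mem_powers_iff_mem_zpowers] at hy
    obtain ⟨i, rfl⟩ := hy
    simp only
    rw [← conj_pow, hl, ← pow_mul, ← pow_mul, mul_comm]
  have hlm : l ^ m ≡ 1 [MOD p] := by
    have h1 := conj_pow_iter hl m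
    have h2 : g ^ m * a * (g ^ m)⁻¹ = a := by
      rw [← Subgroup.mem_centralizer_iff.1 hgmC a (h.hAS (hA₁ ha)), mul_inv_cancel_right]
    rw [h2] at h1
    have h3 : orderOf a = p := by
      rw [← Nat.card_zpowers, hA₁eq, hA₁c]
    have h4 : a ^ (l ^ m) = a ^ 1 := by rw [pow_one]; exact h1.symm
    rw [pow_eq_pow_iff_modEq, h3] at h4
    exact h4
  obtain ⟨k, hk⟩ := IsPGroup.iff_card.1 h.hS.isPGroup
  obtain ⟨ζ, hζ1, hζ2⟩ := exists_zeta hm0 hlm k
  have hζ' : ∀ x ∈ S, x ^ (ζ ^ m) = x := by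
    intro x hx
    have h1 : orderOf x ∣ p ^ k := by
      rw [← hk]
      have := orderOf_dvd_natCard (⟨x, hx⟩ : S)
      rwa [← Subgroup.orderOf_coe] at this
    have h2 : x ^ (ζ ^ m) = x ^ 1 := by
      rw [pow_eq_pow_iff_modEq]
      exact hζ2.of_dvd h1
    rwa [pow_one] at h2
  obtain ⟨F, K, hF, hK, hFK, hsup, hNF, hNK, hmemF⟩ := exists_twisted_split h.hab h.hS.isPGroup
    (hNS hgN) hgmC hmp hζ' hNS (fun n hn => h.derived_cent hG
      (Subgroup.commutator_mem_commutator hn hgN))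
  have pw : ∀ y : G, y ^ p = 1 → y ^ (l * ζ) = y := by
    intro y hy
    have h2 : y ^ (l * ζ) = y ^ 1 := by
      rw [pow_eq_pow_iff_modEq]
      exact hζ1.of_dvd (orderOf_dvd_of_pow_eq_one hy)
    rwa [pow_one] at h2
  have hA₁F : A₁ ≤ F := by
    intro y hy
    rw [hmemF y (h.hAS (hA₁ hy)), hl' y hy, ← pow_mul]
    exact pw y (h.t.ea.2 y (hA₁ hy))
  have hSp : ∀ {V : Subgroup G}, V ≤ S → V ≠ ⊥ → V ⊓ A ≠ ⊥ := by
    intro V hV hV1
    obtain ⟨W, hW, hWc⟩ := exists_order_p (dvd_card_of_ne_bot (h.hS.isPGroup.to_le hV) hV1)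
    intro e
    apply ne_bot_of_card hWc
    rw [eq_bot_iff, ← e]
    exact fun w hw => ⟨hW hw, (h.mem hG (hV (hW hw))).1 (pow_eq_one_of_card hWc hw)⟩
  have hK1 : K ≠ ⊥ := by
    intro e
    rw [e, sup_bot_eq] at hsup
    apply hgM
    apply hXM
    rw [L.mem_nz_iff]
    apply L.eq_of_le_of_card_le _ (by rw [L.card_cj])
    rintro _ ⟨y, hy, rfl⟩
    change g * y * g⁻¹ ∈ X
    have hyS : y ∈ S := h.hAS (hXA hy)
    have h1 := (hmemF y hyS).1 (hsup ▸ hyS)
    have h2 : (g * y * g⁻¹) ^ p = 1 := by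
      rw [conj_pow, h.t.ea.2 y (hXA hy), mul_one, mul_inv_cancel]
    have h3 : g * y * g⁻¹ = y ^ l := by
      nth_rewrite 2 [← h1]
      rw [← pow_mul, mul_comm, pw _ h2]
    rw [h3]
    exact X.pow_mem hy l
  have hF1 : F ≠ ⊥ := fun e => ne_bot_of_card hA₁c (le_bot_iff.1 (e ▸ hA₁F))
  have rank : ∀ {V V' : Subgroup G}, V ≤ S → V' ≤ S → V ⊓ V' = ⊥ → V' ≠ ⊥ → IsCyclic V := by
    intro V V' hV hV' hd hV'1
    refine isCyclic_of_pRankLE_one (h.t.ne_two hG) (h.hS.isPGroup.to_le hV) ?_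
    by_contra hr
    obtain ⟨B, hB, hBe, hBc⟩ := exists_ea_of_not_pRankLE hr
    have h1 : B ≤ A := fun b hb => (h.mem hG (hV (hB hb))).1 (hBe.2 b hb)
    have h2 : B = A := L.eq_of_le_of_card_le h1 (by rw [hBc, h.t.card])
    apply hSp hV' hV'1
    rw [eq_bot_iff, ← hd]
    exact le_inf (inf_le_right.trans (h2 ▸ hB)) inf_le_left
  exact ⟨F, K, hF, hK, rank hF hK hFK hK1, rank hK hF (by rw [inf_comm]; exact hFK) hF1, hFK,
    hsup, hNF, hNK⟩

theorem TAb.exists_Z (h : TAb M E p A S) (hab : AbTau2 M) (hfix : HFix M E) :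
    ∃ Z : Subgroup G, Z ≤ S ∧ IsCyclic Z ∧ E ≤ normalizer (Z : Set G) ∧
      (∀ x ∈ S, x ^ Nat.card Z = 1) ∧ ∀ X : Subgroup G, X ≤ Z → Nat.card X = p →
        sigmaCore M ⊓ centralizer (X : Set G) = ⊥ := by
  by_cases hred : ∃ A₁ : Subgroup G, A₁ ≤ A ∧ Nat.card A₁ = p ∧
      normalizer (A : Set G) ≤ normalizer (A₁ : Set G)
  · obtain ⟨A₁, h1, h2, h3⟩ := hred
    obtain ⟨F, K, hF, hK, hFc, hKc, hFK, hsup, hNF, hNK⟩ := h.red hG h1 h2 h3
    have key : ∀ Z : Subgroup G, Z ≤ S → IsCyclic Z →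
        normalizer (A : Set G) ≤ normalizer (Z : Set G) → ∀ X : Subgroup G, X ≤ Z →
        Nat.card X = p → sigmaCore M ⊓ centralizer (X : Set G) = ⊥ := by
      intro Z hZ hZc hNZ X hX hXc
      by_contra hne
      have h4 := h.t.nz_le_of_cent hG (ne_bot_of_card hXc)
        ((hX.trans hZ).trans h.S_le_cent) hne
      apply h.t.nz_not_le' hG
      refine le_trans ?_ h4
      intro n hn
      rw [L.mem_nz_iff]
      exact eq_of_card_of_cyclic hZc ((L.cj_mono hX).trans (L.mem_nz_iff.1 (hNZ hn)).le) hX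
        (L.card_cj _ _)
    have hdec : ∀ x ∈ S, ∃ f ∈ F, ∃ k ∈ K, f * k = x := by
      intro x hx
      rw [← hsup] at hx
      have hKF : K ≤ normalizer (F : Set G) :=
        ((hK.trans (isMulCommutative_iff_le.1 h.hab)).trans (Subgroup.centralizer_le hF)).trans
          (Subgroup.centralizer_le_normalizer _)
      exact (H23.mem_sup_iff_of_le_normalizer hKF).1 hx
    have hpow : ∀ n : ℕ, Nat.card F ∣ n → Nat.card K ∣ n → ∀ x ∈ S, x ^ n = 1 := by
      intro n hn1 hn2 x hx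
      obtain ⟨f, hf, k, hk, rfl⟩ := hdec x hx
      have hc : Commute f k := isMulCommutative_iff'.1 h.hab f (hF hf) k (hK hk)
      have e1 : f ^ n = 1 := by
        obtain ⟨c, rfl⟩ := hn1
        rw [pow_mul]
        have : f ^ Nat.card F = 1 := by
          have := pow_card_eq_one' (G := F) (x := ⟨f, hf⟩)
          exact congrArg Subtype.val this
        rw [this, one_pow]
      have e2 : k ^ n = 1 := by
        obtain ⟨c, rfl⟩ := hn2
        rw [pow_mul]
        have : k ^ Nat.card K = 1 := by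
          have := pow_card_eq_one' (G := K) (x := ⟨k, hk⟩)
          exact congrArg Subtype.val this
        rw [this, one_pow]
      rw [hc.mul_pow, e1, e2, one_mul]
    have hEN := h.E_le_N hG
    obtain ⟨a, ha⟩ := IsPGroup.iff_card.1 (h.hS.isPGroup.to_le hF)
    obtain ⟨b, hb⟩ := IsPGroup.iff_card.1 (h.hS.isPGroup.to_le hK)
    rcases le_total a b with hle | hle
    · exact ⟨K, hK, hKc, hEN.trans hNK,
        hpow _ (by rw [ha, hb]; exact pow_dvd_pow p hle) dvd_rfl, key K hK hKc hNK⟩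
    · exact ⟨F, hF, hFc, hEN.trans hNF,
        hpow _ dvd_rfl (by rw [ha, hb]; exact pow_dvd_pow p hle), key F hF hFc hNF⟩
  · push Not at hred
    have hEC : E ≤ centralizer (S : Set G) := (h.irr hG hab hfix hred).trans (h.cent_le hG)
    -- the exponent of `S`
    have hex : ∃ n : ℕ, ∀ x ∈ S, x ^ p ^ n = 1 := by
      obtain ⟨k, hk⟩ := IsPGroup.iff_card.1 h.hS.isPGroup
      refine ⟨k, fun x hx => ?_⟩
      rw [← hk]
      exact congrArg Subtype.val (pow_card_eq_one' (G := S) (x := ⟨x, hx⟩))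
    classical
    set n := Nat.find hex with hn
    have hn1 : ∀ x ∈ S, x ^ p ^ n = 1 := Nat.find_spec hex
    have hA1 : A ≠ ⊥ := (h.t.e2s hG).ne_bot
    have hn0 : n ≠ 0 := by
      intro e
      obtain ⟨a, ha, ha1⟩ := exists_mem_ne_one hA1
      apply ha1
      have := hn1 a (h.hAS ha)
      rwa [e, pow_zero, pow_one] at this
    obtain ⟨j, hj⟩ := Nat.exists_eq_succ_of_ne_zero hn0
    have hjm : ¬ ∀ x ∈ S, x ^ p ^ j = 1 := Nat.find_min hex (by rw [← hn, hj]; exact Nat.lt_succ_self j)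
    let U : Subgroup G :=
      { carrier := {y | ∃ x ∈ S, x ^ p ^ j = y}
        one_mem' := ⟨1, S.one_mem, one_pow _⟩
        mul_mem' := by
          rintro _ _ ⟨x, hx, rfl⟩ ⟨y, hy, rfl⟩
          have hc : Commute x y := isMulCommutative_iff'.1 h.hab x hx y hy
          exact ⟨x * y, S.mul_mem hx hy, hc.mul_pow _⟩
        inv_mem' := by
          rintro _ ⟨x, hx, rfl⟩
          exact ⟨x⁻¹, S.inv_mem hx, inv_pow _ _⟩ }
    have hUA : U ≤ A := by
      rintro _ ⟨x, hx, rfl⟩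
      refine (h.mem hG (S.pow_mem hx _)).1 ?_
      rw [← pow_mul, ← pow_succ]
      have := hn1 x hx
      rwa [hj] at this
    have hUN : normalizer (A : Set G) ≤ normalizer (U : Set G) := by
      refine H23.le_normalizer_of_conj_mem ?_
      rintro g hg _ ⟨x, hx, rfl⟩
      exact ⟨g * x * g⁻¹, (Subgroup.mem_normalizer_iff.1 (h.N_le hG hg) x).1 hx, conj_pow⟩
    have hUeq : U = A := by
      rcases card_eq_prime_or h.t.card hUA with e | e | e
      · exfalso
        apply hjm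
        intro x hx
        have : x ^ p ^ j ∈ U := ⟨x, hx, rfl⟩
        rwa [e, Subgroup.mem_bot] at this
      · exact absurd hUN (hred U hUA e)
      · exact e
    obtain ⟨A₁, hA₁, hA₁c, hA₁f⟩ := h.t.exists_fpf hG
    obtain ⟨a, ha, ha1⟩ := exists_mem_ne_one (ne_bot_of_card hA₁c)
    have haU : a ∈ U := hUeq ▸ hA₁ ha
    obtain ⟨x, hx, hxa⟩ := haU
    have hord : orderOf x = p ^ (j + 1) := by
      refine orderOf_eq_prime_pow ?_ ?_
      · rw [hxa]; exact ha1
      · have := hn1 x hx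
        rwa [hj] at this
    refine ⟨zpowers x, by rwa [Subgroup.zpowers_le], inferInstance, ?_, ?_, ?_⟩
    · exact (hEC.trans (Subgroup.centralizer_le (by
        rw [SetLike.coe_subset_coe, Subgroup.zpowers_le]; exact hx))).trans
        (Subgroup.centralizer_le_normalizer _)
    · intro y hy
      rw [Nat.card_zpowers, hord]
      have := hn1 y hy
      rwa [hj] at this
    · intro X hX hXc
      have h1 : A₁ ≤ zpowers x := by
        rw [← eq_zpowers_of_prime (R := A₁) (hA₁c ▸ hp.out) ha ha1, Subgroup.zpowers_le, ← hxa]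
        exact (zpowers x).pow_mem (Subgroup.mem_zpowers x) _
      have h2 : X = A₁ := eq_of_card_of_cyclic (inferInstance : IsCyclic (zpowers x)) hX h1
        (by rw [hXc, hA₁c])
      rw [h2]
      exact hA₁f

end
end Cfsg.Agent.H12.BG
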