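import Cfsg.Agent.H12.BgO
import Cfsg.Agent.H1.Gaschutz

set_option autoImplicit false
set_option linter.unusedSectionVars false
set_option linter.style.haveILetI false
set_option linter.unusedVariables false

/-! S1421 -/

namespace Cfsg.Agent.H12.BG

open Subgroup
open Cfsg.Agent.L (cj nz SylIn)
open Cfsg.Agent.H14 (IsPiSub)
open Cfsg.Agent.OOT
open scoped commutatorElement

universe u

variable {G : Type u} [Group G] [Finite G]

theorem exponent_eq_of {E E₀ : Subgroup G} (hle : E₀ ≤ E)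
    (h : ∀ q : ℕ, q.Prime → ∀ g ∈ E, IsPGroup q (zpowers g) → ∃ x ∈ E₀, orderOf g ∣ orderOf x) :
    Monoid.exponent E₀ = Monoid.exponent E := by
  apply Nat.dvd_antisymm
  · exact Monoid.exponent_dvd_of_monoidHom (Subgroup.inclusion hle) (Subgroup.inclusion_injective _)
  · rw [Nat.dvd_iff_prime_pow_dvd_dvd]
    intro q k hq hqk
    obtain ⟨g, hg⟩ := hq.exists_orderOf_eq_pow_factorization_exponent E
    have hE0 : Monoid.exponent E ≠ 0 := Monoid.exponent_ne_zero_of_finite
    have h1 : k ≤ (Monoid.exponent E).factorization q :=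
      (hq.pow_dvd_iff_le_factorization hE0).1 hqk
    haveI : Fact q.Prime := ⟨hq⟩
    have h2 : IsPGroup q (zpowers (g : G)) := by
      apply IsPGroup.of_card (n := (Monoid.exponent E).factorization q)
      rw [Nat.card_zpowers, Subgroup.orderOf_coe, hg]
    obtain ⟨x, hx, hxo⟩ := h q hq g g.2 h2
    rw [Subgroup.orderOf_coe, hg] at hxo
    refine (pow_dvd_pow q h1).trans (hxo.trans ?_)
    have := Monoid.order_dvd_exponent (⟨x, hx⟩ : E₀)
    rwa [← Subgroup.orderOf_coe] at this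

/-- some power of a non-identity element has prime order -/
theorem exists_pow_prime_order {e : G} (he : e ≠ 1) : ∃ (r n : ℕ), r.Prime ∧ orderOf (e ^ n) = r ∧
    r ∣ orderOf e := by
  obtain ⟨r, hr, hd⟩ := Nat.exists_prime_and_dvd (n := orderOf e)
    (by rw [Ne, orderOf_eq_one_iff]; exact he)
  obtain ⟨c, hc⟩ := hd
  refine ⟨r, c, hr, ?_, ⟨c, hc⟩⟩
  have h0 : 0 < orderOf e := orderOf_pos e
  have hc0 : c ≠ 0 := by rintro rfl; omega
  rw [orderOf_pow_of_dvd hc0 ⟨r, by rw [hc, mul_comm]⟩, hc, Nat.mul_div_cancel _ (Nat.pos_of_ne_zero hc0)]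

section
variable (hG : IsMinSimpleOddOrder G) {M E : Subgroup G}

theorem HFix.prime (hfix : HFix M E) {e : G} (he : e ∈ E) {r : ℕ} (hr : r.Prime)
    (hro : orderOf e = r) (hrτ : r ∈ tau1 M ∪ tau3 M) :
    sigmaCore M ⊓ centralizer ({e} : Set G) = ⊥ := by
  refine hfix e he ?_ ?_
  · rintro rfl
    rw [orderOf_one] at hro
    exact hr.one_lt.ne hro
  · intro q hq hqd
    rw [hro] at hqd
    rw [(Nat.prime_dvd_prime_iff_eq hq hr).1 hqd]
    exact hrτ

include hG

/-- the abelian case -/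
theorem s1421_ab (hM : IsCoatom M) (hE : IsComplIn E (sigmaCore M) M) (hab : AbTau2 M)
    (hfix : HFix M E) :
    (∃ A₀ : Subgroup G, A₀ ≤ E ∧ E ≤ normalizer (A₀ : Set G) ∧ IsMulCommutative A₀ ∧
        ∀ x ∈ sigmaCore M, x ≠ 1 → E ⊓ centralizer ({x} : Set G) ≤ A₀) ∧
      ∃ E₀ : Subgroup G, E₀ ≤ E ∧ Monoid.exponent E₀ = Monoid.exponent E ∧
        ∀ e ∈ E₀, e ≠ 1 → sigmaCore M ⊓ centralizer ({e} : Set G) = ⊥ := by
  have hsE : Group.IsSolvable E := sol_coatom_sub hG hM hE.1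
  have hT : ∀ (q : ℕ) (hq : q ∈ tau2 M), ∃ T : Subgroup G, SylIn q T E ∧
      E ≤ normalizer (T : Set G) ∧ IsMulCommutative T ∧ T ≤ piCoreOf (tau2 M) E ∧
      ∃ Z : Subgroup G, Z ≤ T ∧ IsCyclic Z ∧ E ≤ normalizer (Z : Set G) ∧
      (∀ x ∈ T, x ^ Nat.card Z = 1) ∧ ∀ X : Subgroup G, X ≤ Z → Nat.card X = q →
        sigmaCore M ⊓ centralizer (X : Set G) = ⊥ := by
    intro q hq
    haveI : Fact q.Prime := ⟨hq.1⟩
    obtain ⟨B, T, h⟩ := exists_TAb hG hM hE hab hq
    have h1 : E ≤ normalizer (T : Set G) := (h.E_le_N hG).trans (h.N_le hG)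
    exact ⟨T, h.sylE hG, h1, h.hab, le_piCoreOf (h.S_le_E hG) h1
      (isPiSub_of_isPGroup hq h.hS.isPGroup), h.exists_Z hG hab hfix⟩
  choose! T hTE hTn hTab hTpi hT' using hT
  choose! Z hZT hZc hZn hZe hZf using hT'
  -- a normal Sylow subgroup contains everything
  have hle : ∀ {r : ℕ} [Fact r.Prime] {N V R : Subgroup G}, SylIn r N V →
      V ≤ normalizer (N : Set G) → R ≤ V → IsPGroup r R → R ≤ N := by
    intro r _ N V R hN hVN hRV hR
    obtain ⟨x, hx, hxR⟩ := hN.exists_conj_le hR hRV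
    rw [L.cj_le_iff] at hxR
    rwa [L.mem_nz_iff.1 (hVN (V.inv_mem hx))] at hxR
  constructor
  · refine ⟨piCoreOf (tau2 M) E, piCoreOf_le _ _, le_normalizer_piCoreOf _ _, ?_, ?_⟩
    · rw [isMulCommutative_iff_le]
      refine le_of_sylIn_le fun q hq hqd => ?_
      have hqτ : q ∈ tau2 M := isPiSub_piCoreOf _ _ q hq hqd
      haveI : Fact q.Prime := ⟨hq⟩
      refine ⟨T q, (hTE q hqτ).of_le (hTpi q hqτ) (piCoreOf_le _ _), ?_⟩
      rw [Subgroup.le_centralizer_iff]
      refine le_of_sylIn_le fun r hr hrd => ?_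
      have hrτ : r ∈ tau2 M := isPiSub_piCoreOf _ _ r hr hrd
      haveI : Fact r.Prime := ⟨hr⟩
      refine ⟨T r, (hTE r hrτ).of_le (hTpi r hrτ) (piCoreOf_le _ _), ?_⟩
      by_cases hqr : r = q
      · subst hqr
        exact isMulCommutative_iff_le.1 (hTab r hrτ)
      · have h3 : ⁅T r, T q⁆ ≤ T r ⊓ T q := le_inf
          (H23.commutator_le_of_le_normalizer ((hTE q hqτ).le.trans (hTn r hrτ)))
          (by rw [Subgroup.commutator_comm]
              exact H23.commutator_le_of_le_normalizer ((hTE r hrτ).le.trans (hTn q hqτ)))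
        rw [inf_eq_bot_of_isPGroup (hTE r hrτ).isPGroup
          (coprime_card_of_ne hr hqr (hTE q hqτ).isPGroup), le_bot_iff] at h3
        exact Subgroup.commutator_eq_bot_iff_le_centralizer.1 h3
    · intro x hx hx1
      refine le_of_sylIn_le fun r hr hrd => ?_
      haveI : Fact r.Prime := ⟨hr⟩
      obtain ⟨R, hR⟩ := L.exists_sylIn (p := r) (E ⊓ centralizer ({x} : Set G))
      refine ⟨R, hR, ?_⟩
      have hrE : r ∣ Nat.card E := hrd.trans (Subgroup.card_dvd_of_le inf_le_left)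
      obtain ⟨e, he⟩ := exists_prime_orderOf_dvd_card' (G := ↥(E ⊓ centralizer ({x} : Set G))) r hrd
      have hxe : sigmaCore M ⊓ centralizer ({(e : G)} : Set G) ≠ ⊥ := by
        intro e0
        apply hx1
        have : x ∈ sigmaCore M ⊓ centralizer ({(e : G)} : Set G) :=
          ⟨hx, Subgroup.mem_centralizer_singleton_iff.2
            (Subgroup.mem_centralizer_singleton_iff.1 e.2.2).symm⟩
        rwa [e0, Subgroup.mem_bot] at this
      have hrτ : r ∈ tau2 M := by
        rcases prime_cases hG hr hM hE hrE with h | h | h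
        · exact absurd (hfix.prime e.2.1 hr (by rw [Subgroup.orderOf_coe, he]) (Or.inl h)) hxe
        · exact h
        · exact absurd (hfix.prime e.2.1 hr (by rw [Subgroup.orderOf_coe, he]) (Or.inr h)) hxe
      exact (hle (hTE r hrτ) (hTn r hrτ) (hR.le.trans inf_le_left) hR.isPGroup).trans (hTpi r hrτ)
  · obtain ⟨E₁, hE₁⟩ := hallOf_exists hsE (tau1 M ∪ tau3 M)
    have hZE : ∀ q ∈ tau2 M, Z q ≤ E := fun q hq => (hZT q hq).trans (hTE q hq).le
    set W : Set ℕ → Subgroup G := fun π => ⨆ q : {q // q ∈ tau2 M ∧ q ∈ π}, Z q with hW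
    have hWE : ∀ π, W π ≤ E := fun π => iSup_le fun q => hZE q q.2.1
    have hWpi : ∀ π, IsPiSub π (W π) := by
      intro π
      have h1 : W π ≤ piCoreOf π E := iSup_le fun q => by
        haveI : Fact (q : ℕ).Prime := ⟨q.2.1.1⟩
        exact le_piCoreOf (hZE q q.2.1) (hZn q q.2.1)
          (isPiSub_of_isPGroup q.2.2 ((hTE q q.2.1).isPGroup.to_le (hZT q q.2.1)))
      intro r hr hd
      exact isPiSub_piCoreOf π E r hr (hd.trans (Subgroup.card_dvd_of_le h1))
    have hWn : ∀ π, E ≤ normalizer ((W π : Subgroup G) : Set G) := by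
      intro π x hx
      rw [L.mem_nz_iff, L.cj_iSup]
      exact iSup_congr fun q => L.mem_nz_iff.1 (hZn q q.2.1 hx)
    set E₀ := W Set.univ ⊔ E₁ with hE₀
    have hE₀E : E₀ ≤ E := sup_le (hWE _) hE₁.1
    have hZE₀ : ∀ q ∈ tau2 M, Z q ≤ E₀ := fun q hq =>
      (le_iSup (fun q : {q // q ∈ tau2 M ∧ q ∈ Set.univ} => Z q) ⟨q, hq, trivial⟩).trans le_sup_left
    -- `Z r` is a normal Sylow subgroup of `E₀`
    have hZsyl : ∀ r (hr : r ∈ tau2 M), SylIn r (Z r) E₀ := by
      intro r hr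
      haveI : Fact r.Prime := ⟨hr.1⟩
      have hsplit : E₀ = Z r ⊔ (W {q | q ≠ r} ⊔ E₁) := by
        apply le_antisymm
        · refine sup_le (iSup_le fun q => ?_) (le_sup_right.trans le_sup_right)
          by_cases hq : (q : ℕ) = r
          · rw [hq]; exact le_sup_left
          · refine le_trans ?_ (le_sup_left.trans le_sup_right)
            exact le_iSup (fun q : {q // q ∈ tau2 M ∧ q ∈ {q | q ≠ r}} => Z q) ⟨q, q.2.1, hq⟩
        · refine sup_le (hZE₀ r hr) (sup_le ?_ le_sup_right)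
          refine le_trans (iSup_le fun q => ?_) le_sup_left
          exact le_iSup (fun q : {q // q ∈ tau2 M ∧ q ∈ Set.univ} => Z q) ⟨q, q.2.1, trivial⟩
      have hV : IsPiSub {q | q ≠ r} (W {q | q ≠ r} ⊔ E₁) := by
        refine isPiSub_sup (hE₁.1.trans (hWn _)) (hWpi _) ?_
        intro s hs hd
        have h7 := hE₁.2.1 s hs hd
        change s ≠ r
        intro e7
        rw [e7] at h7
        rcases h7 with h | h
        · exact hr.2.2.2 h.2.2.2.2
        · exact hr.2.2.2 h.2.2.2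
      have hVr : (Nat.card ↥(W {q | q ≠ r} ⊔ E₁)).Coprime r := by
        rw [coprime_iff_not_dvd hr.1]
        exact fun hd => hV r hr.1 hd rfl
      have hZp : IsPGroup r (Z r) := (hTE r hr).isPGroup.to_le (hZT r hr)
      have hVE : W {q | q ≠ r} ⊔ E₁ ≤ E := sup_le (hWE _) hE₁.1
      have hc : Nat.card E₀ = Nat.card (Z r) * Nat.card ↥(W {q | q ≠ r} ⊔ E₁) := by
        rw [hsplit]
        refine H23.card_sup_of_inf_eq_bot (hVE.trans (hZn r hr)) ?_
        rw [inf_comm]
        exact inf_eq_bot_of_isPGroup hZp hVr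
      refine ⟨hZE₀ r hr, hZp, ?_⟩
      have h1 := L.card_mul_relIndex (hZE₀ r hr)
      rw [hc] at h1
      have h2 : (Z r).relIndex E₀ = Nat.card ↥(W {q | q ≠ r} ⊔ E₁) :=
        Nat.eq_of_mul_eq_mul_left Nat.card_pos h1
      rw [h2]
      exact (coprime_iff_not_dvd hr.1).1 hVr
    refine ⟨E₀, hE₀E, ?_, ?_⟩
    · refine exponent_eq_of hE₀E ?_
      intro q hq g hg hgq
      haveI : Fact q.Prime := ⟨hq⟩
      by_cases hg1 : g = 1
      · exact ⟨1, E₀.one_mem, by rw [hg1]⟩
      have hqd : q ∣ Nat.card E := by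
        have h1 : zpowers g ≠ ⊥ := by rw [Ne, Subgroup.zpowers_eq_bot]; exact hg1
        exact (dvd_card_of_ne_bot hgq h1).trans
          (Subgroup.card_dvd_of_le (by rwa [Subgroup.zpowers_le]))
      have main : q ∈ tau1 M ∪ tau3 M → ∃ x ∈ E₀, orderOf g ∣ orderOf x := by
        intro hqτ
        obtain ⟨x, hx, hxg⟩ := IsPiHallOf.exists_conj_le hsE hE₁
          (by rwa [Subgroup.zpowers_le]) (isPiSub_of_isPGroup hqτ hgq)
        refine ⟨x * g * x⁻¹, ?_, ?_⟩
        · exact (le_sup_right : E₁ ≤ E₀) (hxg (L.conj_mem_cj (Subgroup.mem_zpowers g)))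
        · rw [← Nat.card_zpowers, ← Nat.card_zpowers (x * g * x⁻¹), ← L.card_cj x]
          have : cj x (zpowers g) = zpowers (x * g * x⁻¹) := MonoidHom.map_zpowers _ g
          rw [this]
      rcases prime_cases hG hq hM hE hqd with h | h | h
      · exact main (Or.inl h)
      · have hgT : g ∈ T q := by
          have := hle (hTE q h) (hTn q h) (show zpowers g ≤ E by rwa [Subgroup.zpowers_le]) hgq
          exact this (Subgroup.mem_zpowers g)
        haveI := hZc q h
        obtain ⟨z, hz⟩ := IsCyclic.exists_ofOrder_eq_natCard (α := Z q)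
        refine ⟨z, hZE₀ q h z.2, ?_⟩
        rw [Subgroup.orderOf_coe, hz]
        exact orderOf_dvd_of_pow_eq_one (hZe q h g hgT)
      · exact main (Or.inr h)
    · intro e he he1
      by_contra hne
      obtain ⟨r, n, hr, hro, -⟩ := exists_pow_prime_order he1
      haveI : Fact r.Prime := ⟨hr⟩
      have hle' : centralizer ({e} : Set G) ≤ centralizer ({e ^ n} : Set G) := by
        rw [← centralizer_zpowers, ← centralizer_zpowers]
        refine Subgroup.centralizer_le ?_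
        rw [SetLike.coe_subset_coe, Subgroup.zpowers_le]
        exact (zpowers e).pow_mem (Subgroup.mem_zpowers e) n
      have hne' : sigmaCore M ⊓ centralizer ({e ^ n} : Set G) ≠ ⊥ := fun h =>
        hne (le_bot_iff.1 ((inf_le_inf_left _ hle').trans h.le))
      have heE : e ^ n ∈ E := E.pow_mem (hE₀E he) n
      have hrE : r ∣ Nat.card E := by
        rw [← hro]
        have := orderOf_dvd_natCard (⟨e ^ n, heE⟩ : E)
        rwa [← Subgroup.orderOf_coe] at this
      rcases prime_cases hG hr hM hE hrE with h | h | h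
      · exact hne' (hfix.prime heE hr hro (Or.inl h))
      · have h1 : IsPGroup r (zpowers (e ^ n)) :=
          isPGroup_of_card_eq (by rw [Nat.card_zpowers, hro])
        have h2 := hle (hZsyl r h) (hE₀E.trans (hZn r h))
          (show zpowers (e ^ n) ≤ E₀ by rw [Subgroup.zpowers_le]; exact E₀.pow_mem he n) h1
        have h3 := hZf r h _ h2 (by rw [Nat.card_zpowers, hro])
        rw [centralizer_zpowers] at h3
        exact hne' h3
      · exact hne' (hfix.prime heE hr hro (Or.inr h))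

/-- the nonabelian case -/
theorem s1421_nonab {p : ℕ} [hp : Fact p.Prime] {A S : Subgroup G} (h : Tau2 M p A)
    (hE : IsComplIn E (sigmaCore M) M) (hAE : A ≤ E) (hS : SylIn p S ⊤)
    (hSna : ¬ IsMulCommutative S) (hfix : HFix M E) :
    (∃ A₀ : Subgroup G, A₀ ≤ E ∧ E ≤ normalizer (A₀ : Set G) ∧ IsMulCommutative A₀ ∧
        ∀ x ∈ sigmaCore M, x ≠ 1 → E ⊓ centralizer ({x} : Set G) ≤ A₀) ∧
      ∃ E₀ : Subgroup G, E₀ ≤ E ∧ Monoid.exponent E₀ = Monoid.exponent E ∧
        ∀ e ∈ E₀, e ≠ 1 → sigmaCore M ⊓ centralizer ({e} : Set G) = ⊥ := by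
  have hM := h.coatom
  have hA := h.e2s hG
  have hna : ∀ T : Subgroup G, SylIn p T ⊤ → ¬ IsMulCommutative T := by
    intro T hT hTab
    obtain ⟨x, -, hx⟩ := hS.exists_conj_eq hT
    apply hSna
    rw [isMulCommutative_iff'] at hTab ⊢
    intro a ha b hb
    have h1 := hTab _ (hx ▸ L.conj_mem_cj ha) _ (hx ▸ L.conj_mem_cj hb)
    have h2 : x * (a * b) * x⁻¹ = x * (b * a) * x⁻¹ := by simpa [mul_assoc] using h1
    exact mul_left_cancel (mul_right_cancel h2)
  obtain ⟨hτ, ⟨hA₀c, hF⟩, hX⟩ := h.nonab hG hE hAE hna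
  set A₀ := A ⊓ centralizer (sigmaCore M : Set G) with hA₀
  have hA₀A : A₀ ≤ A := inf_le_left
  have hA₀E : A₀ ≤ E := hA₀A.trans hAE
  have hEA : E ≤ normalizer (A : Set G) := h.compl_le_nz hG hE hAE
  have hEn : E ≤ normalizer (A₀ : Set G) := by
    intro x hx
    have h1 : x ∈ normalizer ((centralizer (sigmaCore M : Set G) : Subgroup G) : Set G) :=
      normalizer_le_normalizer_centralizer _ (le_nz_sigmaCore M (hE.1 hx))
    rw [L.mem_nz_iff, hA₀, L.cj_inf, L.mem_nz_iff.1 (hEA hx), L.mem_nz_iff.1 h1]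
  have hσ1 := sigmaCore_ne_bot hG hM
  have hA₀σ : sigmaCore M ⊓ centralizer (A₀ : Set G) ≠ ⊥ := by
    rw [inf_eq_left.2 (by rw [Subgroup.le_centralizer_iff]; exact inf_le_right)]
    exact hσ1
  obtain ⟨hCM, -⟩ := h.cent_only hG (ne_bot_of_card hA₀c) (hA₀A.trans hA.le_cent) hA₀σ
  -- Sylow subgroups of `E`
  obtain ⟨P, hP, hAP⟩ := L.exists_sylIn_ge hA.isPGroup hAE
  have hPM : SylIn p P M := compl_sylow hG hM hE h.nsig hP
  have hPab := h.sylow_abelian hG hPM.isPGroup hPM.le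
  obtain ⟨T, hT, hPT⟩ := L.exists_sylIn_ge hPM.isPGroup (le_top : P ≤ ⊤)
  obtain ⟨z1, z2, -, ⟨Y, hYc, -, hZY, -, hY⟩, -⟩ :=
    hA.struct hG hT.isPGroup (hAP.trans hPT) (hna T hT)
  have hPC : P ≤ centralizer (A : Set G) :=
    (isMulCommutative_iff_le.1 hPab).trans (Subgroup.centralizer_le hAP)
  have hTCA : T ⊓ centralizer (A : Set G) = P :=
    (hPM.eq_of_le (hT.isPGroup.to_le inf_le_left) (inf_le_right.trans (h.cent_le hG))
      (le_inf hPT hPC)).symm
  have hA₀Z : A₀ ≠ omZ p T := by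
    intro e
    apply hna T hT
    refine h.sylow_abelian hG hT.isPGroup (le_trans ?_ hCM)
    rw [e, Subgroup.le_centralizer_iff]
    exact omZ_le_centralizer p T
  obtain ⟨y1, y2⟩ := hY A₀ hA₀A hA₀c hA₀Z
  rw [hTCA] at y2
  have hYP : Y ≤ P := y2 ▸ le_sup_right
  have hYn : Y ≤ normalizer (A₀ : Set G) := (hYP.trans hP.le).trans hEn
  have hdec : ∀ x ∈ P, ∃ a ∈ A₀, ∃ y ∈ Y, a * y = x := fun x hx => by
    rw [← y2] at hx
    exact (H23.mem_sup_iff_of_le_normalizer hYn).1 hx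
  have hpow : ∀ x ∈ P, x ^ p ∈ Y := by
    intro x hx
    obtain ⟨a, ha, y, hy, rfl⟩ := hdec x hx
    have hc : Commute a y := isMulCommutative_iff'.1 hPab a (hAP (hA₀A ha)) y (hYP hy)
    rw [hc.mul_pow, h.ea.2 a (hA₀A ha), one_mul]
    exact Y.pow_mem hy p
  -- conjugation into `P`
  have hnotle : ∀ x ∈ E, IsPGroup p (zpowers x) → A₀ ≤ zpowers (x ^ p) → False := by
    intro x hx hxp hle
    obtain ⟨g, hg, hgx⟩ := hP.exists_conj_le hxp (by rwa [Subgroup.zpowers_le])
    have e1 : cj g (zpowers x) = zpowers (g * x * g⁻¹) := MonoidHom.map_zpowers _ x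
    have e2 : cj g (zpowers (x ^ p)) = zpowers ((g * x * g⁻¹) ^ p) := by
      rw [conj_pow]; exact MonoidHom.map_zpowers _ (x ^ p)
    have h1 : g * x * g⁻¹ ∈ P := by
      rw [← Subgroup.zpowers_le, ← e1]; exact hgx
    have h2 : A₀ ≤ Y := by
      rw [← L.mem_nz_iff.1 (hEn hg)]
      refine (L.cj_mono hle).trans ?_
      rw [e2, Subgroup.zpowers_le]
      exact hpow _ h1
    exact ne_bot_of_card hA₀c (le_bot_iff.1 (y1 ▸ le_inf le_rfl h2))
  have huniq : ∀ X : Subgroup G, X ≤ E → Nat.card X = p →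
      sigmaCore M ⊓ centralizer (X : Set G) ≠ ⊥ → X = A₀ := by
    intro X hXE hXc hne
    by_contra hXA
    exact hne (hX X hXE hXc hXA).1
  have partI : ∀ x ∈ sigmaCore M, x ≠ 1 → E ⊓ centralizer ({x} : Set G) ≤ A₀ := by
    intro x hx hx1
    have hxC : ∀ e ∈ E ⊓ centralizer ({x} : Set G),
        sigmaCore M ⊓ centralizer ({e} : Set G) ≠ ⊥ := by
      intro e he e0
      apply hx1
      have : x ∈ sigmaCore M ⊓ centralizer ({e} : Set G) :=
        ⟨hx, Subgroup.mem_centralizer_singleton_iff.2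
          (Subgroup.mem_centralizer_singleton_iff.1 he.2).symm⟩
      rwa [e0, Subgroup.mem_bot] at this
    refine le_of_sylIn_le fun r hr hrd => ?_
    haveI : Fact r.Prime := ⟨hr⟩
    obtain ⟨R, hR⟩ := L.exists_sylIn (p := r) (E ⊓ centralizer ({x} : Set G))
    refine ⟨R, hR, ?_⟩
    have hrE : r ∣ Nat.card E := hrd.trans (Subgroup.card_dvd_of_le inf_le_left)
    obtain ⟨e, he⟩ := exists_prime_orderOf_dvd_card' (G := ↥(E ⊓ centralizer ({x} : Set G))) r hrd
    have hrτ : r ∈ tau2 M := by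
      rcases prime_cases hG hr hM hE hrE with h | h | h
      · exact absurd (hfix.prime e.2.1 hr (by rw [Subgroup.orderOf_coe, he]) (Or.inl h))
          (hxC e e.2)
      · exact h
      · exact absurd (hfix.prime e.2.1 hr (by rw [Subgroup.orderOf_coe, he]) (Or.inr h))
          (hxC e e.2)
    rw [hτ, Set.mem_singleton_iff] at hrτ
    subst hrτ
    have hsub : ∀ X : Subgroup G, X ≤ R → Nat.card X = r → X = A₀ := by
      intro X hXR hXc
      refine huniq X ((hXR.trans hR.le).trans inf_le_left) hXc ?_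
      intro e0
      apply hx1
      have : x ∈ sigmaCore M ⊓ centralizer (X : Set G) := by
        refine ⟨hx, Subgroup.mem_centralizer_iff.2 ?_⟩
        intro y hy
        exact (Subgroup.mem_centralizer_singleton_iff.1 (hR.le (hXR hy)).2)
      rwa [e0, Subgroup.mem_bot] at this
    intro y hy
    by_cases hy1 : y = 1
    · rw [hy1]; exact A₀.one_mem
    have hyR : zpowers y ≤ R := by rwa [Subgroup.zpowers_le]
    by_cases hyp : y ^ r = 1
    · have h1 := hsub (zpowers y) hyR (card_zpowers_eq_prime hyp hy1)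
      rw [← h1]
      exact Subgroup.mem_zpowers y
    · exfalso
      have h3 : zpowers (y ^ r) ≠ ⊥ := by
        rw [Ne, Subgroup.zpowers_eq_bot]; exact hyp
      have h4 : zpowers (y ^ r) ≤ R := by
        rw [Subgroup.zpowers_le]; exact R.pow_mem hy r
      obtain ⟨X', hX', hX'c⟩ := exists_order_p (dvd_card_of_ne_bot (hR.isPGroup.to_le h4) h3)
      have h5 := hsub X' (hX'.trans h4) hX'c
      exact hnotle y (hR.le hy).1 (hR.isPGroup.to_le hyR) (h5 ▸ hX')
  refine ⟨⟨A₀, hA₀E, hEn, (isEA_mono hA₀A h.ea).1, partI⟩, ?_⟩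
  -- the complement
  haveI hn1 : (A₀.subgroupOf E).Normal := by
    have := le_nz_subgroupOf (H := E) hEn
    rw [Subgroup.subgroupOf_self] at this
    exact normalizer_eq_top_iff.1 (top_le_iff.1 this)
  haveI hn2 : IsMulCommutative (A₀.subgroupOf E) := by
    rw [isMulCommutative_iff']
    intro a ha b hb
    exact Subtype.ext (isMulCommutative_iff'.1 (isEA_mono hA₀A h.ea).1 a ha b hb)
  obtain ⟨H, hH⟩ := H1.gaschutz_exists (A₀.subgroupOf E) (P.subgroupOf E) (Y.subgroupOf E)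
    (Subgroup.subgroupOf_mono E (hA₀A.trans hAP))
    (by
      rw [card_subgroupOf hA₀E, hA₀c]
      exact (Nat.Prime.coprime_iff_not_dvd hp.out).2 hP.not_dvd)
    (Subgroup.subgroupOf_mono E hYP)
    (by
      rw [eq_bot_iff]
      rintro x ⟨hx1, hx2⟩
      have : (x : G) ∈ A₀ ⊓ Y := ⟨hx2, hx1⟩
      rw [y1, Subgroup.mem_bot] at this
      exact Subtype.ext this)
    (by rw [← Subgroup.subgroupOf_sup hA₀E (hYP.trans hP.le), y2])
  set E₀ := H.map E.subtype with hE₀
  have hE₀E : E₀ ≤ E := Subgroup.map_subtype_le _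
  have hdisj : A₀ ⊓ E₀ = ⊥ := by
    rw [eq_bot_iff]
    rintro _ ⟨hx1, ⟨x, hx2, rfl⟩⟩
    have h1 : x ∈ A₀.subgroupOf E ⊓ H := ⟨hx1, hx2⟩
    rw [hH.disjoint.eq_bot, Subgroup.mem_bot] at h1
    rw [h1]; exact Subgroup.mem_bot.2 rfl
  have hdecE : ∀ g ∈ E, ∃ a ∈ A₀, ∃ x ∈ E₀, a * x = g := by
    intro g hg
    obtain ⟨⟨a, x⟩, e⟩ := hH.2 ⟨g, hg⟩
    exact ⟨a, a.2, x, Subgroup.mem_map_of_mem _ x.2, congrArg Subtype.val e⟩
  have hcardE : Nat.card E = p * Nat.card E₀ := by
    have h1 := hH.card_mul_card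
    rw [card_subgroupOf hA₀E, hA₀c] at h1
    rw [← h1, hE₀, Subgroup.card_map_of_injective E.subtype_injective]
  refine ⟨E₀, hE₀E, ?_, ?_⟩
  · refine exponent_eq_of hE₀E ?_
    intro q hq g hg hgq
    haveI : Fact q.Prime := ⟨hq⟩
    by_cases hi : zpowers g ⊓ A₀ = ⊥
    · obtain ⟨a, ha, x, hx, e⟩ := hdecE g hg
      refine ⟨x, hx, ?_⟩
      apply orderOf_dvd_of_pow_eq_one
      have key : ∀ n : ℕ, g ^ n * (x ^ n)⁻¹ ∈ A₀ := by
        intro n
        induction n with
        | zero => simp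
        | succ n ih =>
          have hgn : g ∈ normalizer (A₀ : Set G) := hEn hg
          have e1 : g ^ (n + 1) * (x ^ (n + 1))⁻¹ = g * (g ^ n * (x ^ n)⁻¹) * g⁻¹ * (g * x⁻¹) := by
            rw [pow_succ', pow_succ']; group
          rw [e1]
          refine A₀.mul_mem ((Subgroup.mem_normalizer_iff.1 hgn _).1 ih) ?_
          rw [← e, mul_inv_cancel_right]
          exact ha
      have h1 := key (orderOf x)
      rw [pow_orderOf_eq_one, inv_one, mul_one] at h1
      have h2 : g ^ orderOf x ∈ zpowers g ⊓ A₀ :=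
        ⟨(zpowers g).pow_mem (Subgroup.mem_zpowers g) _, h1⟩
      rwa [hi, Subgroup.mem_bot] at h2
    · have hA₀g : A₀ ≤ zpowers g := by
        rcases le_or_inf_eq_bot (Y := zpowers g) hA₀c with h1 | h1
        · exact h1
        · rw [inf_comm] at h1; exact absurd h1 hi
      have hqp : q = p := by
        by_contra hqp
        have h1 : IsPGroup q A₀ := hgq.to_le hA₀g
        have h2 := inf_eq_bot_of_isPGroup (isPGroup_of_card_eq hA₀c)
          (coprime_card_of_ne hp.out (Ne.symm hqp) h1)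
        rw [inf_idem] at h2
        exact ne_bot_of_card hA₀c h2
      subst hqp
      have hgp : g ^ q = 1 := by
        by_contra hgp
        have h3 : zpowers (g ^ q) ≠ ⊥ := by
          rw [Ne, Subgroup.zpowers_eq_bot]; exact hgp
        have h4 : zpowers (g ^ q) ≤ zpowers g := by
          rw [Subgroup.zpowers_le]; exact (zpowers g).pow_mem (Subgroup.mem_zpowers g) q
        obtain ⟨X', hX', hX'c⟩ := exists_order_p (dvd_card_of_ne_bot (hgq.to_le h4) h3)
        have h5 : X' = A₀ := eq_of_card_of_cyclic (inferInstance : IsCyclic (zpowers g))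
          (hX'.trans h4) hA₀g (by rw [hX'c, hA₀c])
        exact hnotle g hg hgq (h5 ▸ hX')
      have hqE₀ : q ∣ Nat.card E₀ := by
        have h1 : q ^ 2 ∣ Nat.card E := by
          rw [← h.card]; exact Subgroup.card_dvd_of_le hAE
        rw [hcardE, pow_two] at h1
        exact Nat.dvd_of_mul_dvd_mul_left hq.pos h1
      obtain ⟨x, hx⟩ := exists_prime_orderOf_dvd_card' (G := E₀) q hqE₀
      exact ⟨x, x.2, by
        rw [Subgroup.orderOf_coe, hx]; exact orderOf_dvd_of_pow_eq_one hgp⟩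
  · intro e he he1
    by_contra hne
    obtain ⟨x, hx, hx1⟩ := exists_mem_ne_one hne
    have h1 : e ∈ E ⊓ centralizer ({x} : Set G) :=
      ⟨hE₀E he, Subgroup.mem_centralizer_singleton_iff.2
        (Subgroup.mem_centralizer_singleton_iff.1 hx.2).symm⟩
    have h2 : e ∈ A₀ ⊓ E₀ := ⟨partI x hx.1 hx1 h1, he⟩
    rw [hdisj, Subgroup.mem_bot] at h2
    exact he1 h2

theorem s1421 (hM : IsCoatom M) (hE : IsComplIn E (sigmaCore M) M) (hfix : HFix M E) :
    (∃ A₀ : Subgroup G, A₀ ≤ E ∧ E ≤ normalizer (A₀ : Set G) ∧ IsMulCommutative A₀ ∧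
        ∀ x ∈ sigmaCore M, x ≠ 1 → E ⊓ centralizer ({x} : Set G) ≤ A₀) ∧
      ∃ E₀ : Subgroup G, E₀ ≤ E ∧ Monoid.exponent E₀ = Monoid.exponent E ∧
        ∀ e ∈ E₀, e ≠ 1 → sigmaCore M ⊓ centralizer ({e} : Set G) = ⊥ := by
  by_cases hab : AbTau2 M
  · exact s1421_ab hG hM hE hab hfix
  · unfold AbTau2 at hab
    push Not at hab
    obtain ⟨q, hq, T, hT, hTna⟩ := hab
    haveI : Fact q.Prime := ⟨hq.1⟩
    obtain ⟨B, hBE, hB⟩ := exists_tau2_compl hG hM hE hq
    exact s1421_nonab hG hB hE hBE hT hTna hfix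

end
end Cfsg.Agent.H12.BG
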