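import Mathlib
import Cfsg.Prelude
import Cfsg.Agent.H15.SchurTr
import Cfsg.Agent.H24.SchurDih

/-! Restriction of stem extensions to subgroups of index prime to the order of the kernel. -/

set_option autoImplicit false
set_option linter.all false

namespace Cfsg.Agent.H12

open Subgroup

universe u v

theorem index_comap_surj {Γ : Type u} {G : Type v} [Group Γ] [Group G] (σ : Γ →* G)
    (hσ : Function.Surjective σ) (H : Subgroup G) : (H.comap σ).index = H.index :=
  index_comap_of_surjective H hσ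

/-- restriction to a subgroup of index prime to the kernel -/
theorem stem_restrict {Γ : Type u} {G : Type v} [Group Γ] [Group G] [Finite Γ] (σ : Γ →* G)
    (hst : Cfsg.IsStemExtension σ) (H : Subgroup G) (hH : (Nat.card σ.ker).Coprime H.index) :
    Cfsg.IsStemExtension (σ.subgroupComap H) ∧
      Nat.card (σ.subgroupComap H).ker = Nat.card σ.ker := by
  obtain ⟨h1, h2, h3⟩ := hst
  haveI : Finite G := Finite.of_surjective σ h1
  have hker : ∀ x : H.comap σ, x ∈ (σ.subgroupComap H).ker ↔ (x : Γ) ∈ σ.ker := by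
    intro x
    rw [MonoidHom.mem_ker, MonoidHom.mem_ker, Subtype.ext_iff]
    exact Iff.rfl
  refine ⟨⟨?_, ?_, ?_⟩, ?_⟩
  · rintro ⟨y, hy⟩
    obtain ⟨x, rfl⟩ := h1 y
    exact ⟨⟨x, hy⟩, rfl⟩
  · intro x hx
    rw [mem_center_iff]
    intro y
    exact Subtype.ext (mem_center_iff.1 (h2 ((hker x).1 hx)) y)
  · intro x hx
    have hx' := (hker x).1 hx
    haveI : (H.comap σ).FiniteIndex := inferInstance
    obtain ⟨hm, hc⟩ := H15.SchurTr.transfer_central (H.comap σ) (h2 hx') (h3 hx')
    have hc' : x ^ (H.comap σ).index ∈ commutator (H.comap σ) := by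
      have : (⟨(x : Γ) ^ (H.comap σ).index, hm⟩ : H.comap σ) = x ^ (H.comap σ).index :=
        Subtype.ext (by rfl)
      rwa [this] at hc
    rw [index_comap_surj σ h1] at hc'
    have hxk : x ^ Nat.card σ.ker = 1 := by
      have h4 : (⟨(x : Γ), hx'⟩ : σ.ker) ^ Nat.card σ.ker = 1 := pow_card_eq_one'
      exact Subtype.ext (congrArg (fun t : σ.ker => (t : Γ)) h4)
    have hg := Nat.isCoprime_iff_coprime.2 hH
    obtain ⟨a, b, hab⟩ := hg
    have : x = (x ^ H.index) ^ b := by
      calc x = x ^ (a * (Nat.card σ.ker : ℤ) + b * (H.index : ℤ)) := by rw [hab, zpow_one]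
        _ = (x ^ H.index) ^ b := by
          rw [zpow_add, mul_comm a, zpow_mul, zpow_natCast, hxk, one_zpow, one_mul, mul_comm b,
            zpow_mul, zpow_natCast]
    rw [this]
    exact zpow_mem hc' b
  · refine Nat.card_congr ⟨fun x => ⟨(x : H.comap σ), (hker _).1 x.2⟩, fun x => ⟨⟨x, ?_⟩, (hker _).2 x.2⟩,
      fun x => rfl, fun x => rfl⟩
    rw [mem_comap, MonoidHom.mem_ker.1 x.2]; exact one_mem _

/-- kernels over groups with a dihedral or quaternion subgroup of coprime index -/
theorem stem_dq {Γ : Type u} {G : Type v} [Group Γ] [Group G] [Finite Γ] (σ : Γ →* G)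
    (hst : Cfsg.IsStemExtension σ) (H : Subgroup G) (hH : (Nat.card σ.ker).Coprime H.index)
    (a b : H) (hgen : closure ({a, b} : Set H) = ⊤) (hab : b * a * b⁻¹ = a⁻¹) (n : ℕ) (hn : 0 < n)
    (h : a ^ n = 1 ∨ a ^ n = b * b) : Nat.card σ.ker * orderOf (a ^ 2) ≤ n := by
  obtain ⟨h1, h2⟩ := stem_restrict σ hst H hH
  rw [← h2]
  exact H24.stem_dihedral_bound (σ.subgroupComap H) h1 a b hgen hab n hn h

/-- the kernel is a `p`-group once the other primes are excluded -/
theorem coprime_of_prime_free {a b : ℕ} (ha : a ≠ 0)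
    (h : ∀ p : ℕ, p.Prime → p ∣ b → ¬ p ∣ a) : a.Coprime b := by
  apply Nat.Coprime.symm
  apply Nat.coprime_of_dvd
  intro k hk h1 h2
  exact h k hk h1 h2

end Cfsg.Agent.H12
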