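import Mathlib
import Cfsg.Prelude
import Cfsg.Agent.H12.StemRes
import Cfsg.Agent.H15.StemRed
import Cfsg.Agent.H25.FrobSylow
import Cfsg.Agent.H25.FrobExt2
import Cfsg.Agent.H22.SL2Act
import Cfsg.Agent.H5.Small

/-! Stem extensions of `SL(2, q)`. -/

set_option autoImplicit false
set_option linter.all false

namespace Cfsg.Agent.H12.SLS

open Subgroup Polynomial

universe u v

section prelim

variable {F : Type v} [Field F]

theorem fix_pow (p : ℕ) [hp : Fact p.Prime] [CharP F p] (g : Matrix.SpecialLinearGroup (Fin 2) F)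
    (v : Fin 2 → F) (hv : v ≠ 0) (h : g.1.mulVec v = v) : g ^ p = 1 := by
  have h1 := H22.sl2_sq_eq g
  rw [H22.sl2_fixed_trace g v hv h] at h1
  have h2 : (g.1 - 1) ^ 2 = 0 := by
    have h3 : g.1 * g.1 = (2 : F) • g.1 - 1 := h1
    rw [pow_two, sub_mul, mul_sub, mul_one, one_mul, h3, two_smul]
    abel
  have h3 : (g.1 - 1) ^ p = 0 := by
    obtain ⟨k, hk⟩ := Nat.exists_eq_add_of_le hp.out.two_le
    rw [hk, pow_add, h2, zero_mul]
  haveI : CharP (Matrix (Fin 2) (Fin 2) F) p := inferInstance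
  rw [sub_pow_char_of_commute p (Commute.one_right g.1), one_pow, sub_eq_zero] at h3
  apply Subtype.ext
  exact h3

theorem sylow_cases [Fintype F] (p : ℕ) [hp : Fact p.Prime] [CharP F p] (l : ℕ) [hl : Fact l.Prime]
    (hlp : l ≠ p) (P : Sylow l (Matrix.SpecialLinearGroup (Fin 2) F)) :
    IsCyclic P ∨ (l = 2 ∧ ∃ n, 1 ≤ n ∧ Nonempty (P ≃* QuaternionGroup (2 ^ n))) := by
  classical
  rcases subsingleton_or_nontrivial P with hs | hs
  · left; infer_instance
  · obtain ⟨L, i1, i2, K, hK, ⟨e⟩, -⟩ := H25.frobExt_distrib (H := P) (M := Fin 2 → F) hs inferInstance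
      ((H22.slHom 2 F).comp (P : Subgroup (Matrix.SpecialLinearGroup (Fin 2) F)).subtype) (by
        intro h hh v hv
        by_contra hv0
        apply hh
        have h1 : (h : Matrix.SpecialLinearGroup (Fin 2) F) ^ p = 1 := fix_pow p _ v hv0 hv
        obtain ⟨k, hk⟩ := P.2 h
        have h2 : (h : Matrix.SpecialLinearGroup (Fin 2) F) ^ l ^ k = 1 := congrArg Subtype.val hk
        have h3 : orderOf (h : Matrix.SpecialLinearGroup (Fin 2) F) ∣ Nat.gcd p (l ^ k) :=
          Nat.dvd_gcd (orderOf_dvd_of_pow_eq_one h1) (orderOf_dvd_of_pow_eq_one h2)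
        have h4 : Nat.gcd p (l ^ k) = 1 :=
          Nat.Coprime.pow_right k ((Nat.coprime_primes hp.out hl.out).2 (Ne.symm hlp))
        rw [h4, Nat.dvd_one, orderOf_eq_one_iff] at h3
        exact Subtype.ext h3)
    exact H25.frob_pgroup hK (P := P) P.2 (K.subtype.comp e.toMonoidHom)
      (K.subtype_injective.comp e.injective) (fun x => (e x).2)

theorem quat_gen (n : ℕ) : closure ({QuaternionGroup.a 1, QuaternionGroup.xa 0} :
    Set (QuaternionGroup n)) = ⊤ := by
  rw [eq_top_iff]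
  have ha : ∀ i : ZMod (2 * n), (QuaternionGroup.a i : QuaternionGroup n) ∈
      closure ({QuaternionGroup.a 1, QuaternionGroup.xa 0} : Set (QuaternionGroup n)) := by
    intro i
    obtain ⟨k, rfl⟩ := ZMod.intCast_surjective i
    have : (QuaternionGroup.a (k : ZMod (2 * n)) : QuaternionGroup n) = (QuaternionGroup.a 1) ^ k := by
      have key : ∀ m : ℕ, (QuaternionGroup.a (m : ZMod (2 * n)) : QuaternionGroup n) =
          (QuaternionGroup.a 1) ^ m := by
        intro m
        induction m with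
        | zero => simp
        | succ m ih => rw [pow_succ, ← ih, QuaternionGroup.a_mul_a]; push_cast; rfl
      rcases Int.eq_nat_or_neg k with ⟨m, rfl | rfl⟩
      · rw [zpow_natCast, ← key m]; push_cast; rfl
      · rw [zpow_neg, zpow_natCast, ← key m]; push_cast
        rw [eq_comm, inv_eq_iff_mul_eq_one, QuaternionGroup.a_mul_a, add_neg_cancel]; rfl
    rw [this]
    exact zpow_mem (subset_closure (by simp)) k
  rintro (i | i) -
  · exact ha i
  · have : (QuaternionGroup.xa i : QuaternionGroup n) = QuaternionGroup.xa 0 * QuaternionGroup.a i := by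
      rw [QuaternionGroup.xa_mul_a, zero_add]
    rw [this]
    exact mul_mem (subset_closure (by simp)) (ha i)

/-- primes different from the characteristic -/
theorem stem_ne [Fintype F] (p : ℕ) [hp : Fact p.Prime] [CharP F p] (l : ℕ) [hl : Fact l.Prime]
    (hlp : l ≠ p) {E : Type u} [Group E] [Finite E] (σ : E →* Matrix.SpecialLinearGroup (Fin 2) F)
    (hst : Cfsg.IsStemExtension σ) : Nat.card σ.ker ≠ l := by
  classical
  intro hc
  by_cases hS : ∀ P : Sylow l (Matrix.SpecialLinearGroup (Fin 2) F), IsCyclic P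
  · exact H15.SchurTr.not_dvd_of_cyclic σ hst.2.1 hst.2.2 l hS (by rw [hc])
  · push Not at hS
    obtain ⟨P, hP⟩ := hS
    obtain ⟨rfl, n, hn, ⟨e⟩⟩ := (sylow_cases p l hlp P).resolve_left hP
    have hcop : (Nat.card σ.ker).Coprime (P : Subgroup (Matrix.SpecialLinearGroup (Fin 2) F)).index := by
      rw [hc]
      exact (Nat.Prime.coprime_iff_not_dvd Nat.prime_two).2 P.not_dvd_index
    have hn0 : NeZero (2 ^ n) := ⟨by positivity⟩
    have hA1 : (QuaternionGroup.a 1 : QuaternionGroup (2 ^ n)) ^ (2 ^ n) =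
        QuaternionGroup.xa 0 * QuaternionGroup.xa 0 := by
      rw [QuaternionGroup.xa_mul_xa, QuaternionGroup.a_one_pow]
      simp
    have hA2 : (QuaternionGroup.xa 0 : QuaternionGroup (2 ^ n)) * QuaternionGroup.a 1 *
        (QuaternionGroup.xa 0)⁻¹ = (QuaternionGroup.a 1)⁻¹ := by
      rw [mul_inv_eq_iff_eq_mul]
      have : (QuaternionGroup.a 1 : QuaternionGroup (2 ^ n))⁻¹ = QuaternionGroup.a (-1) := rfl
      rw [this, QuaternionGroup.xa_mul_a, QuaternionGroup.a_mul_xa]
      congr 1; ring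
    have hA3 : orderOf ((QuaternionGroup.a 1 : QuaternionGroup (2 ^ n)) ^ 2) = 2 ^ n := by
      have : orderOf (QuaternionGroup.a 1 : QuaternionGroup (2 ^ n)) = 2 * 2 ^ n :=
        QuaternionGroup.orderOf_a_one
      rw [orderOf_pow_of_dvd (by norm_num) (by rw [this]; exact dvd_mul_right _ _), this]
      simp
    have hgen : closure ({e.symm (QuaternionGroup.a 1), e.symm (QuaternionGroup.xa 0)} : Set P) = ⊤ := by
      have h1 : ({e.symm (QuaternionGroup.a 1), e.symm (QuaternionGroup.xa 0)} : Set P) =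
          e.symm.toMonoidHom '' ({QuaternionGroup.a 1, QuaternionGroup.xa 0}) := by
        rw [Set.image_pair]; rfl
      rw [h1, ← MonoidHom.map_closure, quat_gen]
      exact map_top_of_surjective _ e.symm.surjective
    have hfin := stem_dq σ hst (P : Subgroup (Matrix.SpecialLinearGroup (Fin 2) F)) hcop (e.symm (QuaternionGroup.a 1))
      (e.symm (QuaternionGroup.xa 0)) hgen (by rw [← map_inv, ← map_mul, ← map_mul, hA2, map_inv])
      (2 ^ n) (by positivity) (Or.inr (by rw [← map_pow, ← map_mul, hA1]))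
    rw [← map_pow, MulEquiv.orderOf_eq, hA3, hc] at hfin
    have : 0 < 2 ^ n := by positivity
    omega

/-- a suitable pair of squares -/
theorem exists_squares [Fintype F] (p : ℕ) [hp : Fact p.Prime] [CharP F p]
    (h2 : p = 2 → 8 ≤ Fintype.card F) (h3 : p ≠ 2 → 14 ≤ Fintype.card F) :
    ∃ s t : F, s ≠ 0 ∧ t ≠ 0 ∧ s ^ 2 + 1 = t ^ 2 ∧ s ^ 4 + s ^ 2 + 1 ≠ 0 := by
  classical
  by_cases hp2 : p = 2
  · subst hp2
    have h8 := h2 rfl
    set Q : F[X] := X * ((X + 1) * (X ^ 4 + X ^ 2 + 1)) with hQ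
    have hQm : Q.Monic := by
      rw [hQ]
      exact Polynomial.Monic.mul monic_X (Polynomial.Monic.mul (by monicity!) (by monicity!))
    have hd : Q.natDegree ≤ 6 := by rw [hQ]; compute_degree
    have hlt : Q.natDegree < Fintype.card F := by omega
    obtain ⟨s, hs⟩ := Polynomial.exists_eval_ne_zero_of_natDegree_lt_card Q hQm.ne_zero (by
      rw [Cardinal.mk_fintype]
      exact_mod_cast hlt)
    rw [hQ] at hs
    simp only [eval_mul, eval_X, eval_add, eval_pow, eval_one] at hs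
    have hs1 := left_ne_zero_of_mul hs
    have hs2 := right_ne_zero_of_mul hs
    refine ⟨s, s + 1, hs1, left_ne_zero_of_mul hs2, ?_, right_ne_zero_of_mul hs2⟩
    have h2' : (2 : F) = 0 := by exact_mod_cast CharP.cast_eq_zero F 2
    linear_combination (-s) * h2'
  · have h14 := h3 hp2
    have h2' : (2 : F) ≠ 0 := by
      intro h
      have : ((2 : ℕ) : F) = 0 := by exact_mod_cast h
      rw [CharP.cast_eq_zero_iff F p] at this
      exact hp2 ((Nat.prime_dvd_prime_iff_eq hp.out Nat.prime_two).1 this)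
    set Q : F[X] := X * ((X ^ 4 - 1) * (X ^ 8 + 14 * X ^ 4 + 1)) with hQ
    have hQm : Q.Monic := by
      rw [hQ]
      exact Polynomial.Monic.mul monic_X (Polynomial.Monic.mul (by monicity!) (by monicity!))
    have hd : Q.natDegree ≤ 13 := by rw [hQ]; compute_degree
    have hlt : Q.natDegree < Fintype.card F := by omega
    obtain ⟨w, hw⟩ := Polynomial.exists_eval_ne_zero_of_natDegree_lt_card Q hQm.ne_zero (by
      rw [Cardinal.mk_fintype]
      exact_mod_cast hlt)
    rw [hQ] at hw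
    simp only [eval_mul, eval_X, eval_add, eval_sub, eval_pow, eval_one, eval_ofNat] at hw
    have hw1 := left_ne_zero_of_mul hw
    have hw2 := right_ne_zero_of_mul hw
    have hw3 := left_ne_zero_of_mul hw2
    have hw4 := right_ne_zero_of_mul hw2
    have e1 : w ^ 2 - 1 ≠ 0 := fun h => hw3 (by linear_combination (w ^ 2 + 1) * h)
    have e2 : w ^ 2 + 1 ≠ 0 := fun h => hw3 (by linear_combination (w ^ 2 - 1) * h)
    refine ⟨(w ^ 2 - 1) / (2 * w), (w ^ 2 + 1) / (2 * w), div_ne_zero e1 (mul_ne_zero h2' hw1),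
      div_ne_zero e2 (mul_ne_zero h2' hw1), ?_, ?_⟩
    · field_simp; ring
    · intro h
      apply hw4
      field_simp at h
      linear_combination h

end prelim

section char

open H15 H15.PExtN

variable {F : Type v} [Field F]

/-- upper unipotent -/
def nn (x : F) : Matrix.SpecialLinearGroup (Fin 2) F := ⟨!![1, x; 0, 1], by simp [Matrix.det_fin_two]⟩

/-- diagonal -/
def dd (s : F) (hs : s ≠ 0) : Matrix.SpecialLinearGroup (Fin 2) F :=
  ⟨!![s, 0; 0, s⁻¹], by simp [Matrix.det_fin_two, hs]⟩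

theorem nn_add (x y : F) : nn (x + y) = nn x * nn y := by
  apply Subtype.ext
  show (!![1, x + y; 0, 1] : Matrix (Fin 2) (Fin 2) F) = !![1, x; 0, 1] * !![1, y; 0, 1]
  rw [Matrix.mul_fin_two]
  simp [add_comm]

theorem nn_zero : nn (0 : F) = 1 := by
  apply Subtype.ext
  show (!![1, 0; 0, 1] : Matrix (Fin 2) (Fin 2) F) = 1
  exact Matrix.one_fin_two.symm

theorem nn_inj {x y : F} (h : nn x = nn y) : x = y := by
  have := congrFun (congrFun (congrArg Subtype.val h) 0) 1
  simpa [nn] using this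

theorem dd_conj (s : F) (hs : s ≠ 0) (x : F) : dd s hs * nn x * (dd s hs)⁻¹ = nn (s ^ 2 * x) := by
  rw [mul_inv_eq_iff_eq_mul]
  apply Subtype.ext
  show (!![s, 0; 0, s⁻¹] : Matrix (Fin 2) (Fin 2) F) * !![1, x; 0, 1] = !![1, s ^ 2 * x; 0, 1] * !![s, 0; 0, s⁻¹]
  rw [Matrix.mul_fin_two, Matrix.mul_fin_two]
  ext i j
  fin_cases i <;> fin_cases j <;> simp
  field_simp

/-- the unipotent subgroup -/
def UU (F : Type v) [Field F] : Subgroup (Matrix.SpecialLinearGroup (Fin 2) F) where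
  carrier := {g | ∃ x, g = nn x}
  one_mem' := ⟨0, nn_zero.symm⟩
  mul_mem' := by
    rintro _ _ ⟨x, rfl⟩ ⟨y, rfl⟩
    exact ⟨x + y, (nn_add x y).symm⟩
  inv_mem' := by
    rintro _ ⟨x, rfl⟩
    refine ⟨-x, inv_eq_of_mul_eq_one_left ?_⟩
    rw [← nn_add, neg_add_cancel, nn_zero]

theorem card_UU [Fintype F] : Nat.card (UU F) = Fintype.card F := by
  rw [← Nat.card_eq_fintype_card]
  refine (Nat.card_congr (Equiv.ofBijective (fun x : F => (⟨nn x, x, rfl⟩ : UU F)) ⟨?_, ?_⟩)).symm
  · intro x y h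
    exact nn_inj (congrArg Subtype.val h)
  · rintro ⟨_, x, rfl⟩
    exact ⟨x, rfl⟩

theorem UU_index [Fintype F] : (UU F).index = Fintype.card F ^ 2 - 1 := by
  have h1 := card_mul_index (UU F)
  rw [card_UU, H5.card_SL2 rfl] at h1
  exact Nat.eq_of_mul_eq_mul_left Fintype.card_pos h1

open scoped commutatorElement

/-- the characteristic -/
theorem stem_char [Fintype F] (p : ℕ) [hp : Fact p.Prime] [CharP F p]
    (h2 : p = 2 → 8 ≤ Fintype.card F) (h3 : p ≠ 2 → 14 ≤ Fintype.card F)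
    {E : Type u} [Group E] [Finite E] (τ : E →* Matrix.SpecialLinearGroup (Fin 2) F) (z : E)
    (h : PExt p τ z) : z ∉ commutator E := by
  classical
  have hcen : ∀ k ∈ zpowers z, ∀ g : E, g * k = k * g := by
    intro k hk g
    obtain ⟨m, rfl⟩ := mem_zpowers_iff.1 hk
    exact ((show Commute g z from h.cent g).zpow_right m)
  have hker : ∀ k : E, τ k = 1 → ∀ g : E, g * k = k * g := fun k hk => hcen k ((h.ker k).1 hk)
  choose N hN using fun x : F => h.surj (nn x)
  -- commutators of lifts are central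
  have hcomm : ∀ (u v : E) (x y : F), τ u = nn x → τ v = nn y → τ ⁅u, v⁆ = 1 := by
    intro u v x y hu hv
    rw [map_commutatorElement, hu, hv, commutatorElement_eq_one_iff_mul_comm, ← nn_add, ← nn_add,
      add_comm]
  have hmull : ∀ (u u' v : E), (∀ g, g * ⁅u', v⁆ = ⁅u', v⁆ * g) → ⁅u * u', v⁆ = ⁅u, v⁆ * ⁅u', v⁆ := by
    intro u u' v hc
    have : ⁅u * u', v⁆ = u * ⁅u', v⁆ * u⁻¹ * ⁅u, v⁆ := by
      rw [commutatorElement_def, commutatorElement_def, commutatorElement_def]; group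
    rw [this, hc u, mul_inv_cancel_right, ← hc]
  have hmulr : ∀ (u v v' : E), (∀ g, g * ⁅u, v'⁆ = ⁅u, v'⁆ * g) → ⁅u, v * v'⁆ = ⁅u, v⁆ * ⁅u, v'⁆ := by
    intro u v v' hc
    have : ⁅u, v * v'⁆ = ⁅u, v⁆ * (v * ⁅u, v'⁆ * v⁻¹) := by
      rw [commutatorElement_def, commutatorElement_def, commutatorElement_def]; group
    rw [this, hc v, mul_inv_cancel_right]
  have hcentl : ∀ (k v : E), τ k = 1 → ⁅k, v⁆ = 1 := by
    intro k v hk
    rw [commutatorElement_eq_one_iff_mul_comm]
    exact (hker k hk v).symm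
  have hcentr : ∀ (k v : E), τ k = 1 → ⁅v, k⁆ = 1 := by
    intro k v hk
    rw [commutatorElement_eq_one_iff_mul_comm]
    exact hker k hk v
  have hwl : ∀ (u u' v : E), τ u = τ u' → ⁅u, v⁆ = ⁅u', v⁆ := by
    intro u u' v hu
    have h1 : τ (u'⁻¹ * u) = 1 := by rw [map_mul, map_inv, hu, inv_mul_cancel]
    have h2 : u = u' * (u'⁻¹ * u) := by group
    rw [h2, hmull _ _ _ (by rw [hcentl _ _ h1]; intro g; simp), hcentl _ _ h1, mul_one]
  have hwr : ∀ (u v v' : E), τ v = τ v' → ⁅u, v⁆ = ⁅u, v'⁆ := by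
    intro u v v' hv
    have h1 : τ (v'⁻¹ * v) = 1 := by rw [map_mul, map_inv, hv, inv_mul_cancel]
    have h2 : v = v' * (v'⁻¹ * v) := by group
    rw [h2, hmulr _ _ _ (by rw [hcentr _ _ h1]; intro g; simp), hcentr _ _ h1, mul_one]
  set c : F → F → E := fun x y => ⁅N x, N y⁆ with hc
  have hcz : ∀ x y, ∀ g, g * c x y = c x y * g := fun x y => hker _ (hcomm _ _ x y (hN x) (hN y))
  have hcadl : ∀ x x' y, c (x + x') y = c x y * c x' y := by
    intro x x' y
    show ⁅N (x + x'), N y⁆ = _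
    rw [hwl (N (x + x')) (N x * N x') (N y) (by rw [hN, map_mul, hN, hN, nn_add])]
    exact hmull _ _ _ (hcz x' y)
  have hcadr : ∀ x y y', c x (y + y') = c x y * c x y' := by
    intro x y y'
    show ⁅N x, N (y + y')⁆ = _
    rw [hwr (N x) (N (y + y')) (N y * N y') (by rw [hN, map_mul, hN, hN, nn_add])]
    exact hmulr _ _ _ (hcz x y')
  have hcs : ∀ (s : F), s ≠ 0 → ∀ x y, c (s ^ 2 * x) (s ^ 2 * y) = c x y := by
    intro s hs x y
    obtain ⟨D, hD⟩ := h.surj (dd s hs)
    have e1 : τ (D * N x * D⁻¹) = nn (s ^ 2 * x) := by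
      rw [map_mul, map_mul, map_inv, hD, hN, dd_conj]
    have e2 : τ (D * N y * D⁻¹) = nn (s ^ 2 * y) := by
      rw [map_mul, map_mul, map_inv, hD, hN, dd_conj]
    show ⁅N (s ^ 2 * x), N (s ^ 2 * y)⁆ = _
    rw [hwl _ (D * N x * D⁻¹) _ (by rw [hN, e1]), hwr _ _ (D * N y * D⁻¹) (by rw [hN, e2])]
    have : ⁅D * N x * D⁻¹, D * N y * D⁻¹⁆ = D * ⁅N x, N y⁆ * D⁻¹ := by
      rw [commutatorElement_def, commutatorElement_def]; group
    rw [this]
    have h5 := hcz x y D
    show D * c x y * D⁻¹ = c x y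
    rw [h5, mul_inv_cancel_right]
  have hcs' : ∀ (s : F), s ≠ 0 → ∀ x y, c (s ^ 2 * x) y = c x ((s ^ 2)⁻¹ * y) := by
    intro s hs x y
    have := hcs s hs x ((s ^ 2)⁻¹ * y)
    rw [mul_inv_cancel_left₀ (pow_ne_zero 2 hs)] at this
    exact this
  obtain ⟨s, t, hs, ht, hst, hne⟩ := exists_squares (F := F) p h2 h3
  have hc1 : ∀ x w, c x w = 1 := by
    intro x w
    set δ : F := (t ^ 2)⁻¹ - (s ^ 2)⁻¹ - 1 with hδ
    have hδ0 : δ ≠ 0 := by
      rw [hδ]
      intro h0
      apply hne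
      have hs2 : s ^ 2 ≠ 0 := pow_ne_zero 2 hs
      have ht2 : s ^ 2 + 1 ≠ 0 := by rw [hst]; exact pow_ne_zero 2 ht
      rw [← hst] at h0
      field_simp at h0
      linear_combination (-1) * h0
    have key : ∀ y, c x (δ * y) = 1 := by
      intro y
      have e1 : c (t ^ 2 * x) y = c (s ^ 2 * x) y * c x y := by
        rw [← hst, add_mul, one_mul, hcadl]
      rw [hcs' t ht, hcs' s hs, ← hcadr] at e1
      have e2 : (t ^ 2)⁻¹ * y = δ * y + ((s ^ 2)⁻¹ * y + y) := by rw [hδ]; ring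
      rw [e2, hcadr] at e1
      exact mul_eq_right.1 e1
    have := key (δ⁻¹ * w)
    rwa [mul_inv_cancel_left₀ hδ0] at this
  -- the preimage of `UU` is commutative
  intro hz
  have hH : ∀ a b : (UU F).comap τ, a * b = b * a := by
    rintro ⟨a, x, hx⟩ ⟨b, y, hy⟩
    apply Subtype.ext
    show a * b = b * a
    rw [← commutatorElement_eq_one_iff_mul_comm]
    rw [hwl a (N x) b (by rw [hx, hN]), hwr (N x) b (N y) (by rw [hy, hN])]
    exact hc1 x y
  obtain ⟨hm, hc'⟩ := SchurTr.transfer_central ((UU F).comap τ) (mem_center_iff.2 h.cent) hz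
  have hbot : commutator ((UU F).comap τ) = ⊥ := by
    rw [eq_bot_iff, _root_.commutator_def, commutator_le]
    intro a _ b _
    rw [mem_bot, commutatorElement_eq_one_iff_mul_comm]
    exact hH a b
  rw [hbot, mem_bot] at hc'
  have hz1 : z ^ ((UU F).comap τ).index = 1 := congrArg Subtype.val hc'
  rw [index_comap_surj τ h.surj, UU_index] at hz1
  have hd := orderOf_dvd_of_pow_eq_one hz1
  rw [h.ord] at hd
  have hpc : p ∣ Fintype.card F := by
    rw [← CharP.cast_eq_zero_iff F p]; exact FiniteField.cast_card_eq_zero F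
  have hpp : p ∣ Fintype.card F ^ 2 := dvd_pow hpc (by norm_num)
  have h1le : 1 ≤ Fintype.card F ^ 2 := Nat.one_le_pow _ _ Fintype.card_pos
  have : p ∣ 1 := by
    have := Nat.dvd_sub hpp hd
    rwa [Nat.sub_sub_self h1le] at this
  exact hp.out.one_lt.ne' (Nat.dvd_one.1 this)

end char

end Cfsg.Agent.H12.SLS
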