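import Cfsg.Agent.H16.Torus2
import Cfsg.Agent.H16.SL2Cent
import Cfsg.Agent.H12.SL2Stem
import Cfsg.Agent.H5.Small

/-! Redundant Sylow subgroups of `SL(2, q)` (helper12). -/

set_option autoImplicit false

namespace Cfsg.Agent.H12.RS

open Subgroup Matrix Cfsg.Agent.H16
open scoped Pointwise

section gen

variable {G : Type*} [Group G] [Finite G] {p : ℕ} [hp : Fact p.Prime]

theorem mem_of_unique (Q : Sylow p G) {x n : G} (hQ : ∀ P : Sylow p G, x ∈ P → P = Q)
    (K : Subgroup G) (hK : IsPGroup p K) (hx : x ∈ K) (hn : n ∈ K) : n ∈ Q := by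
  obtain ⟨P, hP⟩ := hK.exists_le_sylow
  rw [← hQ P (hP hx)]
  exact hP hn

theorem isPGroup_zpowers {x : G} {k : ℕ} (h : x ^ p ^ k = 1) : IsPGroup p (zpowers x) := by
  intro y
  obtain ⟨y, hy⟩ := y
  refine ⟨k, ?_⟩
  obtain ⟨m, rfl⟩ := mem_zpowers_iff.1 hy
  apply Subtype.ext
  change (x ^ m) ^ p ^ k = 1
  rw [← zpow_natCast, ← _root_.zpow_mul, mul_comm, _root_.zpow_mul, zpow_natCast, h, _root_.one_zpow]

/-- the inversion trick -/
theorem mem_of_inverts (Q : Sylow p G) {x n : G} (hQ : ∀ P : Sylow p G, x ∈ P → P = Q)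
    {a b : ℕ} (hx : x ^ p ^ a = 1) (hn : n ^ p ^ b = 1) (hnx : n * x * n⁻¹ = x⁻¹) : n ∈ Q := by
  have hle : zpowers n ≤ normalizer (zpowers x : Set G) := by
    rw [zpowers_le]
    apply mem_normalizer_fintype
    intro y hy
    obtain ⟨m, rfl⟩ := mem_zpowers_iff.1 hy
    rw [← conj_zpow, hnx]
    exact zpow_mem (inv_mem (mem_zpowers x)) m
  have hK : IsPGroup p (zpowers n ⊔ zpowers x : Subgroup G) :=
    (isPGroup_zpowers hn).to_sup_of_normal_right' (isPGroup_zpowers hx) hle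
  exact mem_of_unique Q hQ _ hK (mem_sup_right (mem_zpowers x)) (mem_sup_left (mem_zpowers n))

/-- commuting Sylow subgroups coincide -/
theorem eq_of_comm (P Q : Sylow p G) (h : ∀ a ∈ P, ∀ b ∈ Q, a * b = b * a) : P = Q := by
  have hle : (Q : Subgroup G) ≤ normalizer ((P : Subgroup G) : Set G) := by
    intro b hb
    rw [mem_normalizer_iff]
    intro a
    constructor
    · intro ha
      have : b * a * b⁻¹ = a := by rw [← h a ha b hb]; group
      rw [this]; exact ha
    · intro ha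
      have h1 := h _ ha b hb
      have : a = b * a * b⁻¹ := by
        have h2 : b * a = b * (b * a * b⁻¹) := by rw [← h1]; group
        exact mul_left_cancel h2
      rw [this]; exact ha
  have hK : IsPGroup p ((Q : Subgroup G) ⊔ (P : Subgroup G) : Subgroup G) :=
    Q.2.to_sup_of_normal_right' P.2 hle
  have h1 := P.3 hK le_sup_right
  have h2 := Q.3 hK le_sup_left
  exact Sylow.ext (h1.symm.trans h2)

theorem eq_of_bot (P Q : Sylow p G) (h : (Q : Subgroup G) = ⊥) : P = Q := by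
  apply Sylow.ext
  have h1 : Nat.card P = Nat.card Q := by rw [P.card_eq_multiplicity, Q.card_eq_multiplicity]
  rw [h]
  rw [← Subgroup.card_eq_one]
  have h2 : Nat.card (Q : Subgroup G) = 1 := by rw [h]; exact Subgroup.card_bot
  exact h1.trans h2

theorem mem_smul_sylow (g x : G) (P : Sylow p G) : x ∈ g • P ↔ g⁻¹ * x * g ∈ P := by
  change x ∈ ((g • P : Sylow p G) : Subgroup G) ↔ _
  rw [Sylow.coe_subgroup_smul, mem_pointwise_smul_iff_inv_smul_mem]
  have e : (MulAut.conj g)⁻¹ • x = g⁻¹ * x * g := by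
    rw [← map_inv, MulAut.smul_def, MulAut.conj_apply, inv_inv]
  rw [e]
  exact Iff.rfl

theorem exists_odd_prime {n : ℕ} (hn : n ≠ 0) (h : ¬ ∃ k, n = 2 ^ k) :
    ∃ r : ℕ, r.Prime ∧ r ∣ n ∧ r ≠ 2 := by
  by_contra hcon
  push Not at hcon
  apply h
  exact ⟨_, Nat.eq_prime_pow_of_unique_prime_dvd hn (fun {d} hd hdv => hcon d hd hdv)⟩

end gen

section sl

variable {F : Type*} [Field F] [Fintype F]

local notation "SL₂" => Matrix.SpecialLinearGroup (Fin 2) F
local notation "M₂" => Matrix (Fin 2) (Fin 2) F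

/-- order of a regular torus -/
theorem card_tor {d : SL₂} (ht : (d : M₂).trace ^ 2 ≠ 4) :
    Nat.card (Subgroup.centralizer ({d} : Set SL₂)) = Fintype.card F - 1 ∨
      Nat.card (Subgroup.centralizer ({d} : Set SL₂)) = Fintype.card F + 1 := by
  by_cases h : ∀ c : F, c ^ 2 - c * (d : M₂).trace + 1 ≠ 0
  · right; exact card_cent_sl2_ell d h
  · left
    push Not at h
    obtain ⟨c, hc⟩ := h
    have hc0 : c ≠ 0 := by rintro rfl; simp at hc
    have htr : (d : M₂).trace = c + c⁻¹ := by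
      field_simp
      linear_combination -hc
    apply card_cent_sl2_split d hc0 _ htr
    intro h1
    apply ht
    have h2 : c⁻¹ = c := inv_eq_of_mul_eq_one_left h1
    rw [htr, h2]
    linear_combination 4 * h1

/-- regular elements exist -/
theorem exists_reg : ∃ d : SL₂, ¬ IsScal (d : M₂) ∧ (d : M₂).trace ^ 2 ≠ 4 ∧
    ∀ c : F, c ^ 2 - c * (d : M₂).trace + 1 ≠ 0 := by
  obtain ⟨t, ht⟩ := exists_elliptic F
  refine ⟨⟨comp2 t 1, comp2_det t 1⟩, comp2_not_isScal t 1, ?_, ?_⟩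
  · change (comp2 t 1).trace ^ 2 ≠ 4
    rw [comp2_trace]; exact sq_ne_four_of_ell ht
  · change ∀ c : F, c ^ 2 - c * (comp2 t 1).trace + 1 ≠ 0
    rw [comp2_trace]; exact ht

/-- 2-elements are regular -/
theorem reg_of_two (h2 : (2 : F) ≠ 0) {x : SL₂} (hx : ¬ IsScal (x : M₂)) {k : ℕ}
    (hk : x ^ 2 ^ k = 1) : (x : M₂).trace ^ 2 ≠ 4 := by
  intro ht
  obtain ⟨c, hc⟩ := CharP.exists F
  have hcp : c.Prime := (CharP.char_is_prime_or_zero F c).resolve_right
    (CharP.char_ne_zero_of_finite F c)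
  have hfc : Fact c.Prime := ⟨hcp⟩
  have hc2 : c ≠ 2 := by
    rintro rfl
    exact h2 (by exact_mod_cast CharP.cast_eq_zero F 2)
  have h1 : ((x ^ 2 : SL₂) : M₂).trace = 2 := by
    rw [pow_two, Matrix.SpecialLinearGroup.coe_mul, sl_sq, trace_sub, trace_smul, trace_one]
    simp only [smul_eq_mul, Fintype.card_fin]
    push_cast
    linear_combination ht
  have h3 : (x ^ 2) ^ c = 1 := (sl2_pow_p_eq_one_iff c _).2 h1
  have h4 : x ^ 2 = 1 := by
    have h5 : orderOf (x ^ 2) ∣ c := orderOf_dvd_of_pow_eq_one h3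
    have h6 : orderOf (x ^ 2) ∣ 2 ^ k := by
      apply orderOf_dvd_of_pow_eq_one
      rw [← pow_mul, mul_comm, pow_mul, hk, one_pow]
    have h7 : Nat.Coprime c (2 ^ k) := by
      apply Nat.Coprime.pow_right
      exact (Nat.coprime_primes hcp Nat.prime_two).2 hc2
    rw [← orderOf_eq_one_iff]
    exact Nat.eq_one_of_dvd_coprimes h7 h5 h6
  apply hx
  have h5 : (x : M₂) * x = 1 := by
    have := congrArg (fun z : SL₂ => (z : M₂)) h4
    rw [pow_two] at this
    exact this
  rw [sl_sq] at h5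
  rw [isScal_iff]
  have ht0 : (x : M₂).trace ≠ 0 := by
    intro h; rw [h] at ht
    apply h2
    have : (2 : F) ^ 2 = 0 := by linear_combination -ht
    exact pow_eq_zero_iff two_ne_zero |>.1 this
  refine ⟨(x : M₂).trace⁻¹ * 2, ?_⟩
  have h6 : (x : M₂).trace • (x : M₂) = (2 : F) • (1 : M₂) := by
    rw [sub_eq_iff_eq_add] at h5
    rw [h5, two_smul]
  rw [mul_smul, ← h6, smul_smul, inv_mul_cancel₀ ht0, one_smul]

/-- no 2-element lies in a unique Sylow 2-subgroup -/
theorem sl_red_two (h2 : (2 : F) ≠ 0) (h1 : ¬ ∃ k : ℕ, Fintype.card F + 1 = 2 ^ k)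
    (h3 : ¬ ∃ k : ℕ, Fintype.card F = 2 ^ k + 1) (Q : Sylow 2 SL₂) (x : SL₂) (k : ℕ)
    (hx : x ^ 2 ^ k = 1) : ∃ P : Sylow 2 SL₂, P ≠ Q ∧ x ∈ P := by
  by_contra hcon
  have hQ : ∀ P : Sylow 2 SL₂, x ∈ P → P = Q := by
    intro P hP
    by_contra hne
    exact hcon ⟨P, hne, hP⟩
  -- a regular element
  have hd : ∃ d : SL₂, ¬ IsScal (d : M₂) ∧ (d : M₂).trace ^ 2 ≠ 4 ∧
      x ∈ Subgroup.centralizer ({d} : Set SL₂) := by
    by_cases hxs : IsScal (x : M₂)
    · obtain ⟨d, hd1, hd2, -⟩ := exists_reg (F := F)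
      refine ⟨d, hd1, hd2, ?_⟩
      rw [mem_cent_iff, isScal_eq hxs]; simp
    · exact ⟨x, hxs, reg_of_two h2 hxs hx, by rw [mem_cent_iff]⟩
  obtain ⟨d, hds, hdt, hxd⟩ := hd
  have hnp : ¬ ∃ k, Nat.card (Subgroup.centralizer ({d} : Set SL₂)) = 2 ^ k := by
    rintro ⟨m, hm⟩
    have hq : 1 < Fintype.card F := Fintype.one_lt_card
    rcases card_tor hdt with h | h
    · apply h3
      exact ⟨m, by omega⟩
    · apply h1
      exact ⟨m, by omega⟩
  obtain ⟨r, hr, hrd, hr2⟩ := exists_odd_prime Nat.card_pos.ne' hnp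
  have hfr : Fact r.Prime := ⟨hr⟩
  obtain ⟨⟨t, ht⟩, hto⟩ := exists_prime_orderOf_dvd_card' r hrd
  rw [Subgroup.orderOf_mk] at hto
  obtain ⟨n, hn⟩ := exists_inverting hds hdt
  have hnN := inverting_mem hn
  have hnn := inverting_not_mem hds h2 hdt hn
  have hinv := norm_inverts hds h2 hdt hnN hnn
  have hsq := sq_neg_one hds h2 hdt hnN hnn
  have hn4 : n ^ 2 ^ 2 = 1 := by
    apply Subtype.ext
    have : n ^ 2 ^ 2 = (n * n) * (n * n) := by
      have h : (2 : ℕ) ^ 2 = 4 := rfl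
      rw [h]; simp [pow_succ, mul_assoc]
    rw [this]
    change ((n : M₂) * (n : M₂)) * ((n : M₂) * (n : M₂)) = 1
    rw [hsq]; simp
  have hm1 : n ∈ Q := mem_of_inverts Q hQ hx hn4 (hinv x hxd)
  have htx : t * x = x * t := cent_comm hds ht hxd
  have hm2 : t * n * t⁻¹ ∈ Q := by
    apply mem_of_inverts (b := 2) Q hQ hx
    · rw [conj_pow, hn4]; group
    · have e : t * n * t⁻¹ * x * (t * n * t⁻¹)⁻¹ = t * (n * (t⁻¹ * x * t) * n⁻¹) * t⁻¹ := by group
      have e2 : t⁻¹ * x * t = x := by rw [mul_assoc, ← htx]; group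
      rw [e, e2, hinv x hxd]
      have : Commute t x := htx
      have h := this.inv_right
      rw [show t * x⁻¹ = x⁻¹ * t from h]; group
  have hm3 : t * t ∈ Q := by
    have h4 := mul_mem hm2 (inv_mem hm1)
    have e : t * n * t⁻¹ * n⁻¹ = t * (n * t⁻¹ * n⁻¹) := by group
    rw [e, hinv _ (inv_mem ht), inv_inv] at h4
    exact h4
  -- contradiction
  obtain ⟨j, hj⟩ := Q.2 ⟨t * t, hm3⟩
  have hj' : (t * t) ^ 2 ^ j = 1 := congrArg Subtype.val hj
  rw [← pow_two, ← pow_mul] at hj'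
  have h5 : orderOf t ∣ 2 * 2 ^ j := orderOf_dvd_of_pow_eq_one hj'
  rw [hto, ← pow_succ'] at h5
  have h6 := hr.dvd_of_dvd_pow h5
  exact hr2 ((Nat.prime_dvd_prime_iff_eq hr Nat.prime_two).1 h6)

/-- in a Sylow subgroup with regular (non-scalar) element and commutative Sylows -/
theorem unique_of_comm {p : ℕ} [hp : Fact p.Prime]
    (hcomm : ∀ P : Sylow p SL₂, ∀ a ∈ P, ∀ b ∈ P, a * b = b * a) (P Q : Sylow p SL₂) {x : SL₂}
    (hx : ¬ IsScal (x : M₂)) (hP : x ∈ P) (hQ : x ∈ Q) : P = Q := by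
  apply eq_of_comm
  intro a ha b hb
  apply cent_comm hx
  · rw [Subgroup.mem_centralizer_singleton_iff]; exact hcomm P a ha x hP
  · rw [Subgroup.mem_centralizer_singleton_iff]; exact hcomm Q b hb x hQ

/-- commutativity of the Sylow subgroups for odd primes and the characteristic -/
theorem sylow_comm (c : ℕ) [hc : Fact c.Prime] [CharP F c] (p : ℕ) [hp : Fact p.Prime]
    (h : p ≠ 2 ∨ p = c) (P : Sylow p SL₂) : ∀ a ∈ P, ∀ b ∈ P, a * b = b * a := by
  by_cases hpc : p = c
  · subst hpc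
    -- the unipotent subgroup
    have hUp : IsPGroup p (SLS.UU F) := by
      rintro ⟨g, y, rfl⟩
      refine ⟨1, ?_⟩
      apply Subtype.ext
      rw [pow_one]
      change (SLS.nn y) ^ p = 1
      rw [sl2_pow_p_eq_one_iff p]
      simp [SLS.nn, Matrix.trace_fin_two]
      norm_num
    have hUi : ¬ p ∣ (SLS.UU F).index := by
      rw [SLS.UU_index]
      obtain ⟨e, -, hq⟩ := FiniteField.card F p
      rw [hq]
      intro hd
      have h1 : p ∣ (p ^ (e : ℕ)) ^ 2 := dvd_pow (dvd_pow_self p e.2.ne') two_ne_zero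
      have h2 : 1 ≤ (p ^ (e : ℕ)) ^ 2 := Nat.one_le_pow _ _ (pow_pos hp.out.pos _)
      have h3 := (Nat.dvd_sub_iff_right h2 h1).1 hd
      exact hp.out.one_lt.ne' (Nat.dvd_one.1 h3)
    let U : Sylow p SL₂ := hUp.toSylow hUi
    obtain ⟨g, hg⟩ := MulAction.exists_smul_eq SL₂ U P
    intro a ha b hb
    rw [← hg, mem_smul_sylow] at ha hb
    have ha' : g⁻¹ * a * g ∈ SLS.UU F := ha
    have hb' : g⁻¹ * b * g ∈ SLS.UU F := hb
    obtain ⟨y, hy⟩ := ha'
    obtain ⟨z, hz⟩ := hb'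
    have h1 : (g⁻¹ * a * g) * (g⁻¹ * b * g) = (g⁻¹ * b * g) * (g⁻¹ * a * g) := by
      rw [hy, hz, ← SLS.nn_add, ← SLS.nn_add, add_comm]
    calc a * b = g * ((g⁻¹ * a * g) * (g⁻¹ * b * g)) * g⁻¹ := by group
      _ = g * ((g⁻¹ * b * g) * (g⁻¹ * a * g)) * g⁻¹ := by rw [h1]
      _ = b * a := by group
  · rcases SLS.sylow_cases c p hpc P with h1 | ⟨h1, -⟩
    · intro a ha b hb
      obtain ⟨g, hg⟩ := h1.exists_generator
      obtain ⟨m, hm⟩ := mem_zpowers_iff.1 (hg ⟨a, ha⟩)
      obtain ⟨n, hn⟩ := mem_zpowers_iff.1 (hg ⟨b, hb⟩)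
      have h2 : (⟨a, ha⟩ : P) * ⟨b, hb⟩ = ⟨b, hb⟩ * ⟨a, ha⟩ := by
        rw [← hm, ← hn, ← _root_.zpow_add, ← _root_.zpow_add, add_comm]
      exact congrArg Subtype.val h2
    · rcases h with h | h
      · exact absurd h1 h
      · exact absurd h hpc

/-- non-redundancy for odd primes and the characteristic -/
theorem not_red (c : ℕ) [hc : Fact c.Prime] [CharP F c] (p : ℕ) [hp : Fact p.Prime]
    (h : p ≠ 2 ∨ p = c) (Q : Sylow p SL₂) :
    ∃ x : SL₂, (∃ k : ℕ, orderOf x = p ^ k) ∧ ∀ P : Sylow p SL₂, x ∈ P → P = Q := by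
  by_cases hQ : (Q : Subgroup SL₂) = ⊥
  · exact ⟨1, ⟨0, by simp⟩, fun P _ => eq_of_bot P Q hQ⟩
  · rw [Subgroup.eq_bot_iff_forall] at hQ
    push Not at hQ
    obtain ⟨x, hx, hx1⟩ := hQ
    obtain ⟨k, hk⟩ := (IsPGroup.iff_orderOf.1 Q.2) ⟨x, hx⟩
    rw [Subgroup.orderOf_mk] at hk
    refine ⟨x, ⟨k, hk⟩, fun P hP => unique_of_comm (sylow_comm c p h) P Q ?_ hP hx⟩
    intro hs
    rcases isScal_sl_iff.1 hs with h1 | h1
    · exact hx1 (Subtype.ext h1)
    · have h2 : x ^ 2 = 1 := by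
        apply Subtype.ext
        rw [pow_two]
        change (x : M₂) * (x : M₂) = 1
        rw [h1]; simp
      have h3 := orderOf_dvd_of_pow_eq_one h2
      rcases h with h | h
      · have h4 : Nat.Coprime 2 (p ^ k) := by
          apply Nat.Coprime.pow_right
          exact (Nat.coprime_primes Nat.prime_two hp.out).2 (Ne.symm h)
        apply hx1
        rw [← orderOf_eq_one_iff]
        exact Nat.eq_one_of_dvd_coprimes h4 h3 (by rw [hk])
      · subst h
        by_cases hp2 : p = 2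
        · subst hp2
          apply hx1
          apply Subtype.ext
          rw [h1]
          change -(1 : M₂) = 1
          have : (1 : M₂) + 1 = 0 := by
            rw [← two_smul F (1 : M₂)]
            have h2 : (2 : F) = 0 := by exact_mod_cast CharP.cast_eq_zero F 2
            rw [h2, zero_smul]
          exact neg_eq_of_add_eq_zero_left this
        · have h4 : Nat.Coprime 2 (p ^ k) := by
            apply Nat.Coprime.pow_right
            exact (Nat.coprime_primes Nat.prime_two hp.out).2 (Ne.symm hp2)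
          apply hx1
          rw [← orderOf_eq_one_iff]
          exact Nat.eq_one_of_dvd_coprimes h4 h3 (by rw [hk])

/-- a Sylow 2-subgroup of order twice a cyclic torus of order `2^k` -/
theorem not_red_two (h2 : (2 : F) ≠ 0) {d : SL₂} (hd : ¬ IsScal (d : M₂))
    (ht : (d : M₂).trace ^ 2 ≠ 4) (hcyc : IsCyclic (Subgroup.centralizer ({d} : Set SL₂))) (k o : ℕ)
    (hk : Nat.card (Subgroup.centralizer ({d} : Set SL₂)) = 2 ^ k) (ho : ¬ 2 ∣ o)
    (hG : Nat.card SL₂ = 2 ^ (k + 1) * o) (Q : Sylow 2 SL₂) :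
    ∃ x : SL₂, (∃ k : ℕ, orderOf x = 2 ^ k) ∧ ∀ P : Sylow 2 SL₂, x ∈ P → P = Q := by
  obtain ⟨⟨x, hxT⟩, hx⟩ := hcyc.exists_generator
  set T := Subgroup.centralizer ({d} : Set SL₂) with hT
  have hTx : ∀ y ∈ T, y ∈ zpowers x := by
    intro y hy
    obtain ⟨m, hm⟩ := mem_zpowers_iff.1 (hx ⟨y, hy⟩)
    exact mem_zpowers_iff.2 ⟨m, congrArg Subtype.val hm⟩
  have hTz : T = zpowers x := le_antisymm hTx (by rw [zpowers_le]; exact hxT)
  have hox : orderOf x = 2 ^ k := by
    rw [← Nat.card_zpowers, ← hTz, hk]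
  have ho0 : o ≠ 0 := by rintro rfl; exact ho (dvd_zero 2)
  have hcardP : ∀ P : Sylow 2 SL₂, Nat.card P = 2 ^ (k + 1) := by
    intro P
    rw [P.card_eq_multiplicity, hG]
    congr 1
    rw [Nat.factorization_mul (by positivity) ho0]
    simp [Nat.Prime.factorization_pow Nat.prime_two, Nat.factorization_eq_zero_of_not_dvd ho]
  -- uniqueness for `x`
  have key : ∀ P : Sylow 2 SL₂, x ∈ P → (P : Subgroup SL₂) = normalizer (T : Set SL₂) := by
    intro P hP
    have hTP : T ≤ P := by rw [hTz, zpowers_le]; exact hP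
    have hidx : (T.subgroupOf P).index = 2 := by
      have h3 := Subgroup.card_mul_index (T.subgroupOf P)
      rw [Nat.card_congr (subgroupOfEquivOfLe hTP).toEquiv, hk] at h3
      have h4 : Nat.card (P : Subgroup SL₂) = 2 ^ k * 2 := by rw [← pow_succ]; exact hcardP P
      rw [h4] at h3
      exact Nat.eq_of_mul_eq_mul_left (by positivity) h3
    have hnorm : (T.subgroupOf P).Normal := normal_of_index_eq_two hidx
    have hle : (P : Subgroup SL₂) ≤ normalizer (T : Set SL₂) :=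
      (normal_subgroupOf_iff_le_normalizer hTP).1 hnorm
    have hcardN : Nat.card (normalizer (T : Set SL₂)) = 2 ^ (k + 1) := by
      rw [hT, card_norm_tor hd h2 ht, hk, pow_succ, mul_comm]
    exact Subgroup.eq_of_le_of_card_ge hle (by rw [hcardN]; exact (hcardP P).ge)
  -- transfer to `Q`
  have hx2 : IsPGroup 2 (zpowers x) := isPGroup_zpowers (k := k) (by
    rw [← hox]; exact pow_orderOf_eq_one x)
  obtain ⟨P0, hP0⟩ := hx2.exists_le_sylow
  have hxP0 : x ∈ P0 := hP0 (mem_zpowers x)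
  obtain ⟨g, hg⟩ := MulAction.exists_smul_eq SL₂ P0 Q
  refine ⟨g * x * g⁻¹, ⟨k, ?_⟩, ?_⟩
  · rw [← hox]
    exact (MulAut.conj g).orderOf_eq x
  · intro P hP
    have h1 : x ∈ g⁻¹ • P := by
      rw [mem_smul_sylow, inv_inv]; exact hP
    have h3 : g⁻¹ • P = P0 := Sylow.ext ((key _ h1).trans (key _ hxP0).symm)
    rw [← hg, ← h3, smul_inv_smul]

/-- the main theorem for `SL(2, q)` -/
theorem sl_iff (p : ℕ) [hp : Fact p.Prime] :
    (∃ Q : Sylow p SL₂, ∀ x : SL₂, (∃ k : ℕ, orderOf x = p ^ k) → ∃ P : Sylow p SL₂, P ≠ Q ∧ x ∈ P) ↔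
      (p = 2 ∧ (¬ ∃ k : ℕ, Fintype.card F + 1 = 2 ^ k) ∧ (¬ ∃ k : ℕ, Fintype.card F = 2 ^ k) ∧
        ¬ ∃ k : ℕ, Fintype.card F = 2 ^ k + 1) := by
  classical
  obtain ⟨c, hc⟩ := CharP.exists F
  have hcp : c.Prime := (CharP.char_is_prime_or_zero F c).resolve_right
    (CharP.char_ne_zero_of_finite F c)
  have hfc : Fact c.Prime := ⟨hcp⟩
  have hq1 : 1 < Fintype.card F := Fintype.one_lt_card
  constructor
  · rintro ⟨Q, hQ⟩
    have hcon : ∀ x : SL₂, (∃ k : ℕ, orderOf x = p ^ k) →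
        ¬ (∀ P : Sylow p SL₂, x ∈ P → P = Q) := by
      intro x hx h
      obtain ⟨P, hP1, hP2⟩ := hQ x hx
      exact hP1 (h P hP2)
    have hpc : p = 2 ∧ p ≠ c := by
      by_contra h
      have h' : p ≠ 2 ∨ p = c := by tauto
      obtain ⟨x, hx1, hx2⟩ := not_red (F := F) c p h' Q
      exact hcon x hx1 hx2
    obtain ⟨rfl, h2c⟩ := hpc
    have h2 : (2 : F) ≠ 0 := by
      intro h
      have h' : ((2 : ℕ) : F) = 0 := by exact_mod_cast h
      rw [CharP.cast_eq_zero_iff F c 2] at h'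
      exact h2c ((Nat.prime_dvd_prime_iff_eq hcp Nat.prime_two).1 h').symm
    have hcard : Nat.card SL₂ = Fintype.card F * (Fintype.card F ^ 2 - 1) := H5.card_SL2 rfl
    have hfacs : Fintype.card F ^ 2 - 1 = (Fintype.card F + 1) * (Fintype.card F - 1) := by
      have := Nat.sq_sub_sq (Fintype.card F) 1
      simpa using this
    have hodd : ¬ 2 ∣ Fintype.card F := by
      intro hd
      obtain ⟨e, -, hq⟩ := FiniteField.card F c
      rw [hq] at hd
      have := Nat.prime_two.dvd_of_dvd_pow hd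
      exact h2c ((Nat.prime_dvd_prime_iff_eq Nat.prime_two hcp).1 this)
    have hE : ¬ ∃ k : ℕ, Fintype.card F + 1 = 2 ^ k := by
      rintro ⟨k, hk⟩
      have hk2 : 2 ≤ k := by
        rcases Nat.lt_or_ge k 2 with h | h
        · exfalso; interval_cases k <;> omega
        · exact h
      obtain ⟨j, rfl⟩ := Nat.exists_eq_add_of_le hk2
      obtain ⟨d, hd1, hd2, hd3⟩ := exists_reg (F := F)
      have hct := card_cent_sl2_ell d hd3
      have e1 : 2 ^ (2 + j) = 2 * (2 * 2 ^ j) := by ring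
      have hj : 0 < 2 ^ j := by positivity
      obtain ⟨x, hx1, hx2⟩ := not_red_two h2 hd1 hd2 (cent_cyclic_ell hd3) (2 + j)
        (Fintype.card F * (2 * 2 ^ j - 1)) (by rw [hct, hk])
        (by
          intro hd
          rcases (Nat.prime_two.dvd_mul).1 hd with h | h
          · exact hodd h
          · omega)
        (by
          rw [hcard, hfacs, hk]
          have e2 : Fintype.card F - 1 = 2 * (2 * 2 ^ j - 1) := by omega
          rw [e2, pow_succ]; ring) Q
      exact hcon x hx1 hx2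
    refine ⟨rfl, hE, ?_, ?_⟩
    · rintro ⟨k, hk⟩
      rcases Nat.eq_zero_or_pos k with rfl | hk0
      · omega
      · apply hodd; rw [hk]; exact dvd_pow_self 2 hk0.ne'
    · rintro ⟨k, hk⟩
      have hk2 : 2 ≤ k := by
        rcases Nat.lt_or_ge k 2 with h | h
        · exfalso
          interval_cases k
          · apply hodd; rw [hk]; norm_num
          · apply hE; exact ⟨2, by rw [hk]; norm_num⟩
        · exact h
      obtain ⟨j, rfl⟩ := Nat.exists_eq_add_of_le hk2
      have e1 : 2 ^ (2 + j) = 2 * (2 * 2 ^ j) := by ring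
      have hj : 0 < 2 ^ j := by positivity
      -- an element different from `0, 1, -1`
      obtain ⟨l, hl⟩ : ∃ l : F, l ∉ ({0, 1, -1} : Finset F) := by
        by_contra h
        push Not at h
        have h1 : (Finset.univ : Finset F) ⊆ {0, 1, -1} := fun x _ => h x
        have h3 := Finset.card_le_card h1
        have h4 : ({0, 1, -1} : Finset F).card ≤ 3 := Finset.card_le_three
        rw [Finset.card_univ] at h3
        omega
      simp only [Finset.mem_insert, Finset.mem_singleton, not_or] at hl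
      obtain ⟨hl0, hl1, hl2⟩ := hl
      have hll : l * l ≠ 1 := by
        intro h
        rcases mul_self_eq_one_iff.1 h with h | h
        · exact hl1 h
        · exact hl2 h
      have htr : ((SLS.dd l hl0 : SL₂) : M₂).trace = l + l⁻¹ := by
        simp [SLS.dd, Matrix.trace_fin_two]
      have hct := card_cent_sl2_split (SLS.dd l hl0) hl0 hll htr
      obtain ⟨x, hx1, hx2⟩ := not_red_two h2 (d := SLS.dd l hl0) (by
          rintro ⟨-, -, h⟩
          apply hll
          have h' : l = l⁻¹ := by simpa [SLS.dd] using h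
          nth_rewrite 2 [h']
          exact mul_inv_cancel₀ hl0) (by
          rw [htr]; exact sq_ne_four_of_split hl0 hll)
        (cent_cyclic_diag (by simp [SLS.dd]) (by simp [SLS.dd]) (by
          have : ((SLS.dd l hl0 : SL₂) : M₂) 0 0 = l := by simp [SLS.dd]
          rw [this, pow_two]; exact hll)) (2 + j)
        (Fintype.card F * (2 * 2 ^ j + 1)) (by rw [hct, hk]; omega)
        (by
          intro hd
          rcases (Nat.prime_two.dvd_mul).1 hd with h | h
          · exact hodd h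
          · omega)
        (by
          rw [hcard, hfacs]
          have e2 : Fintype.card F - 1 = 2 ^ (2 + j) := by omega
          have e3 : Fintype.card F + 1 = 2 * (2 * 2 ^ j + 1) := by omega
          rw [e2, e3, pow_succ]; ring) Q
      exact hcon x hx1 hx2
  · rintro ⟨rfl, h1, h2, h3⟩
    have h20 : (2 : F) ≠ 0 := by
      intro h
      have h' : ((2 : ℕ) : F) = 0 := by exact_mod_cast h
      rw [CharP.cast_eq_zero_iff F c 2] at h'
      have hc2 := (Nat.prime_dvd_prime_iff_eq hcp Nat.prime_two).1 h'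
      obtain ⟨e, -, hq⟩ := FiniteField.card F c
      apply h2
      exact ⟨e, by rw [hq, hc2]⟩
    obtain ⟨Q⟩ : Nonempty (Sylow 2 SL₂) := inferInstance
    refine ⟨Q, ?_⟩
    rintro x ⟨k, hk⟩
    exact sl_red_two h20 h1 h3 Q x k (by rw [← hk]; exact pow_orderOf_eq_one x)

end sl

end Cfsg.Agent.H12.RS
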