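import Cfsg.Agent.H12.RedSyl

/-! Redundant Sylow subgroups and central quotients (helper12). -/

set_option autoImplicit false

namespace Cfsg.Agent.H12.RS

open Subgroup

variable {G : Type*} [Group G] [Finite G] {p : ℕ} [hp : Fact p.Prime]

theorem central_mem (P : Sylow p G) {z : G} (hz : z ∈ center G) {k : ℕ} (hk : z ^ p ^ k = 1) :
    z ∈ P := by
  have hle : (P : Subgroup G) ≤ normalizer (zpowers z : Set G) := by
    intro y _
    apply mem_normalizer_fintype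
    intro w hw
    obtain ⟨m, rfl⟩ := mem_zpowers_iff.1 hw
    have h1 : z ^ m ∈ center G := zpow_mem hz m
    have h2 : y * z ^ m * y⁻¹ = z ^ m := by
      rw [mem_center_iff.1 h1 y]; group
    rw [h2]; exact hw
  have hK : IsPGroup p ((P : Subgroup G) ⊔ zpowers z : Subgroup G) :=
    P.2.to_sup_of_normal_right' (isPGroup_zpowers hk) hle
  have h1 := P.3 hK le_sup_left
  have h2 : z ∈ ((P : Subgroup G) ⊔ zpowers z : Subgroup G) := mem_sup_right (mem_zpowers z)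
  rw [h1] at h2
  exact h2

theorem mem_of_map (Z : Subgroup G) [Z.Normal] (hZ : Z ≤ center G) (P : Sylow p G) {x : G} {k : ℕ}
    (hk : x ^ p ^ k = 1) (hx : (QuotientGroup.mk' Z) x ∈ (P : Subgroup G).map (QuotientGroup.mk' Z)) :
    x ∈ P := by
  obtain ⟨y, hy, hyx⟩ := hx
  have hz : y⁻¹ * x ∈ Z := by
    rw [← QuotientGroup.ker_mk' Z, MonoidHom.mem_ker, map_mul, map_inv, hyx, inv_mul_cancel]
  have hzc := hZ hz
  set z := y⁻¹ * x with hzdef
  have hxz : x = y * z := by rw [hzdef]; group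
  obtain ⟨j, hj⟩ := P.2 ⟨y, hy⟩
  have hj' : y ^ p ^ j = 1 := congrArg Subtype.val hj
  have hc : Commute y z := (mem_center_iff.1 hzc y)
  have hzk : z ^ p ^ (j + k) = 1 := by
    have h1 : (y * z) ^ p ^ (j + k) = 1 := by
      rw [← hxz, pow_add, mul_comm, pow_mul, hk, one_pow]
    rw [hc.mul_pow] at h1
    have h2 : y ^ p ^ (j + k) = 1 := by rw [pow_add, pow_mul, hj', one_pow]
    rwa [h2, one_mul] at h1
  rw [hxz]
  exact mul_mem hy (central_mem P hzc hzk)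

theorem red_quot (Z : Subgroup G) [Z.Normal] (hZ : Z ≤ center G) :
    (∃ Q : Sylow p (G ⧸ Z), ∀ x : G ⧸ Z, (∃ k : ℕ, orderOf x = p ^ k) →
      ∃ P : Sylow p (G ⧸ Z), P ≠ Q ∧ x ∈ P) ↔
    (∃ Q : Sylow p G, ∀ x : G, (∃ k : ℕ, orderOf x = p ^ k) → ∃ P : Sylow p G, P ≠ Q ∧ x ∈ P) := by
  have hsurj := QuotientGroup.mk'_surjective Z
  have hinj : ∀ P Q : Sylow p G, (P : Subgroup G).map (QuotientGroup.mk' Z) =
      (Q : Subgroup G).map (QuotientGroup.mk' Z) → P = Q := by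
    intro P Q h
    have hle : (P : Subgroup G) ≤ Q := by
      intro x hx
      obtain ⟨k, hk⟩ := P.2 ⟨x, hx⟩
      have hk' : x ^ p ^ k = 1 := congrArg Subtype.val hk
      apply mem_of_map Z hZ Q hk'
      rw [← h]
      exact ⟨x, hx, rfl⟩
    exact Sylow.ext (P.3 Q.2 hle).symm
  have hmap : ∀ P : Sylow p G, ((P.mapSurjective hsurj : Sylow p (G ⧸ Z)) : Subgroup (G ⧸ Z)) =
      (P : Subgroup G).map (QuotientGroup.mk' Z) := fun P => rfl
  constructor
  · rintro ⟨Q', hQ'⟩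
    obtain ⟨Q, rfl⟩ := Sylow.mapSurjective_surjective hsurj p Q'
    refine ⟨Q, ?_⟩
    rintro x ⟨k, hk⟩
    have hxk : x ^ p ^ k = 1 := by rw [← hk]; exact pow_orderOf_eq_one x
    have hx' : ∃ j : ℕ, orderOf ((QuotientGroup.mk' Z) x) = p ^ j := by
      have h1 : orderOf ((QuotientGroup.mk' Z) x) ∣ p ^ k := by
        rw [← hk]; exact orderOf_map_dvd _ x
      obtain ⟨j, -, hj⟩ := (Nat.dvd_prime_pow hp.out).1 h1
      exact ⟨j, hj⟩
    obtain ⟨P', hP1, hP2⟩ := hQ' _ hx'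
    obtain ⟨P, rfl⟩ := Sylow.mapSurjective_surjective hsurj p P'
    refine ⟨P, fun h => hP1 (by rw [h]), ?_⟩
    exact mem_of_map Z hZ P hxk hP2
  · rintro ⟨Q, hQ⟩
    refine ⟨Q.mapSurjective hsurj, ?_⟩
    rintro x ⟨k, hk⟩
    have hx2 : IsPGroup p (zpowers x) := isPGroup_zpowers (k := k) (by
      rw [← hk]; exact pow_orderOf_eq_one x)
    obtain ⟨P0', hP0'⟩ := hx2.exists_le_sylow
    obtain ⟨P0, rfl⟩ := Sylow.mapSurjective_surjective hsurj p P0'
    obtain ⟨y, hy, hyx⟩ := hP0' (mem_zpowers x)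
    obtain ⟨j, hj⟩ := (IsPGroup.iff_orderOf.1 P0.2) ⟨y, hy⟩
    rw [Subgroup.orderOf_mk] at hj
    obtain ⟨P, hP1, hP2⟩ := hQ y ⟨j, hj⟩
    refine ⟨P.mapSurjective hsurj, ?_, ?_⟩
    · intro h
      apply hP1
      apply hinj
      exact congrArg (fun R : Sylow p (G ⧸ Z) => (R : Subgroup (G ⧸ Z))) h
    · exact ⟨y, hP2, hyx⟩

end Cfsg.Agent.H12.RS
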